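import Cfsg.Agent.Lib.Char.X27.Central

/-!
# Integral change to a basic set
-/

set_option autoImplicit false
set_option linter.unusedSectionVars false

namespace Cfsg.Agent.Char.X27

open Cfsg Module
open scoped ComplexConjugate

universe u

variable {G : Type u} [Group G] [Fintype G] [Fact (Nat.Prime 3)]

/-- Block parts are self-adjoint. -/
theorem blockPart_adj (B : Set (IrrCharacter G)) (f g : G → ℂ) :
    classInner (blockPart B f) g = classInner f (blockPart B g) := by
  classical
  have e : ∀ f : G → ℂ, blockPart B f =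
      ∑ χ : IrrCharacter G with χ ∈ B, classInner f (χ : G → ℂ) • (χ : G → ℂ) := fun f => by
    funext x
    rw [blockPart_eq, Finset.sum_apply]
    rfl
  rw [e f, e g, classInner_sum_left, classInner_sum_right]
  refine Finset.sum_congr rfl fun χ _ => ?_
  rw [classInner_smul_left, classInner_smul_right, classInner_symm, mul_comm]

theorem einner_congr {f f' g g' : G → ℂ} (hf : ∀ v, ¬ 3 ∣ orderOf v → f v = f' v)
    (hg : ∀ v, ¬ 3 ∣ orderOf v → g v = g' v) : einner 3 f g = einner 3 f' g' := by
  rw [einner_eq_sum, einner_eq_sum]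
  congr 1
  refine Finset.sum_congr rfl fun v hv => ?_
  rw [hf v (Finset.mem_filter.mp hv).2, hg v (Finset.mem_filter.mp hv).2]

theorem einner_sum_left {ι : Type*} (s : Finset ι) (f : ι → G → ℂ) (c : ι → ℂ) (g : G → ℂ) :
    einner 3 (∑ i ∈ s, c i • f i) g = ∑ i ∈ s, c i * einner 3 (f i) g := by
  simp only [einner, Finset.sum_mul, smul_mul_assoc, classInner_sum_left, classInner_smul_left]

namespace Cen

variable {M : Ideal AlgInt} {P : Sylow 3 G} {z : G} {e : ℕ} (h : Cen M P z e)
include h

open scoped _root_.Classical in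
/-- An integral matrix to a basic set has the Gram matrix of the decomposition numbers. -/
theorem exists_N {l : ℕ} (hl : Nat.card (APart M z 1) = l) (β : Fin l → IrrCharacter G)
    (hβ : ∀ a, β a ∈ APart M z 0) (D : IrrCharacter G → Fin l → ℤ)
    (hD : ∀ s ∈ APart M z 0, ∀ v : G, ¬ 3 ∣ orderOf v →
      (s : G → ℂ) v = ∑ a, (D s a : ℂ) * (β a : G → ℂ) v) :
    ∃ (ζ : Fin l → IrrCharacter G) (N : Fin l → Fin l → ℤ), Function.Injective ζ ∧
      (∀ i, ζ i ∈ APart M z 1) ∧
      (∀ i, ∀ v : G, ¬ 3 ∣ orderOf v →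
        (ζ i : G → ℂ) v = ∑ a, (N i a : ℂ) * (β a : G → ℂ) v) ∧
      ∀ a b, ∑ i, N i a * N i b =
        ∑ s ∈ (Finset.univ : Finset (IrrCharacter G)).filter (fun s => s ∈ APart M z 0),
          D s a * D s b := by
  obtain ⟨ε⟩ : Nonempty (Fin l ≃ APart M z 1) :=
    ⟨(Fintype.equivFinOfCardEq (by rw [← Nat.card_eq_fintype_card]; exact hl)).symm⟩
  set ζ : Fin l → IrrCharacter G := fun i => (ε i : IrrCharacter G) with hζ
  have hζinj : Function.Injective ζ := fun i j e' => ε.injective (Subtype.ext e')
  have hζA : ∀ i, ζ i ∈ APart M z 1 := fun i => (ε i).2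
  set A := (Finset.univ : Finset (IrrCharacter G)).filter (fun s => s ∈ APart M z 0) with hA
  have hone : om3 ^ 1 ≠ 1 := by rw [pow_one]; exact om3_ne
  have horth : ∀ i j, 3 * einner 3 (ζ i : G → ℂ) (ζ j : G → ℂ) = if i = j then 1 else 0 := by
    intro i j
    rw [h.einner_twisted hone (hζA i) (hζA j), irr_orth (ζ i).2 (ζ j).2]
    exact if_congr ⟨fun e' => hζinj (Subtype.ext e'), fun e' => by rw [e']⟩ rfl rfl
  -- integral expansions on the regular elements
  have hn : ∀ i, ∃ n : IrrCharacter G → ℤ, ∀ v : G, ¬ 3 ∣ orderOf v →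
      (ζ i : G → ℂ) v = ∑ s ∈ A, (n s : ℂ) * (s : G → ℂ) v := by
    intro i
    set φ : G → ℂ := fun g => (ζ i : G → ℂ) (preg 3 g) with hφ
    obtain ⟨n, -, hn⟩ := exists_int_coords (isGen_preg (irr_isCharacter (ζ i).2))
    have heig : ∀ g, φ (z * g) = om3 ^ 0 * φ g := fun g => by
      simp only [hφ, (h.preg_shift (Subgroup.mem_zpowers z) g).2, pow_zero, one_mul]
    refine ⟨n, fun v hv => ?_⟩
    have hregφ : ∀ c, ¬ 3 ∣ orderOf c → φ c = (ζ i : G → ℂ) c := fun c hc => by
      have := preg_of_mul Nat.prime_three (Commute.one_left c) ⟨0, by simp⟩ hc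
      rw [one_mul] at this
      simp only [hφ, this]
    have e1 := blockPart_regular_congr h.hM (isPBlock_principalBlock M) hregφ hv
    rw [blockPart_self (hζA i).1, blockPart_eq] at e1
    rw [← e1]
    refine Eq.symm (Finset.sum_subset_zero_on_sdiff (fun s hs => ?_) (fun s hs => ?_) (fun s _ => ?_))
    · exact Finset.mem_filter.mpr ⟨Finset.mem_univ _, ((Finset.mem_filter.mp hs).2).1⟩
    · obtain ⟨hs1, hs2⟩ := Finset.mem_sdiff.mp hs
      rw [show classInner φ (s : G → ℂ) = 0 from h.coef_eigen_pow heig fun e' =>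
        hs2 (Finset.mem_filter.mpr ⟨Finset.mem_univ _, (Finset.mem_filter.mp hs1).2, e'⟩), zero_mul]
    · rw [hn s]
  choose n hn using hn
  set N : Fin l → Fin l → ℤ := fun i a => ∑ s ∈ A, n i s * D s a with hN
  have hNv : ∀ i, ∀ v : G, ¬ 3 ∣ orderOf v →
      (ζ i : G → ℂ) v = ∑ a, (N i a : ℂ) * (β a : G → ℂ) v := by
    intro i v hv
    rw [hn i v hv, Finset.sum_congr rfl fun s hs => by rw [hD s (Finset.mem_filter.mp hs).2 v hv]]
    simp only [Finset.mul_sum, hN, Int.cast_sum, Int.cast_mul, Finset.sum_mul]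
    rw [Finset.sum_comm]
    exact Finset.sum_congr rfl fun a _ => Finset.sum_congr rfl fun s _ => by ring
  refine ⟨ζ, N, hζinj, hζA, hNv, ?_⟩
  let Bm : Matrix (Fin l) (Fin l) ℂ :=
    Matrix.of fun a j => 3 * einner 3 (β a : G → ℂ) (ζ j : G → ℂ)
  let Nm : Matrix (Fin l) (Fin l) ℂ := Matrix.of fun i a => (N i a : ℂ)
  let Cm : Matrix (Fin l) (Fin l) ℂ := Matrix.of fun a b => ((∑ s ∈ A, D s a * D s b : ℤ) : ℂ)
  have hexp : ∀ s ∈ A, ∀ j, 3 * einner 3 (s : G → ℂ) (ζ j : G → ℂ) = ∑ a, (D s a : ℂ) * Bm a j := by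
    intro s hs j
    rw [einner_congr (f' := ∑ a, (D s a : ℂ) • (β a : G → ℂ)) (g' := (ζ j : G → ℂ))
      (fun v hv => by
        rw [hD s (Finset.mem_filter.mp hs).2 v hv, Finset.sum_apply]; rfl) (fun _ _ => rfl),
      einner_sum_left, Finset.mul_sum]
    exact Finset.sum_congr rfl fun a _ => by simp [Bm]; ring
  have hNB : Nm * Bm = 1 := by
    ext i j
    rw [Matrix.mul_apply, Matrix.one_apply, ← horth i j,
      einner_congr (f' := ∑ a, (N i a : ℂ) • (β a : G → ℂ)) (g' := (ζ j : G → ℂ))
      (fun v hv => by rw [hNv i v hv, Finset.sum_apply]; rfl) (fun _ _ => rfl),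
      einner_sum_left, Finset.mul_sum]
    exact Finset.sum_congr rfl fun a _ => by simp [Bm, Nm]; ring
  have hBN : Bm * Nm = 1 := mul_eq_one_comm.mp hNB
  -- the untwisted form of a twisted character
  have hpsi : ∀ i j, ∑ s ∈ A, conj (∑ a, (D s a : ℂ) * Bm a i) * (∑ a, (D s a : ℂ) * Bm a j) =
      if i = j then 1 else 0 := by
    set ψ : Fin l → G → ℂ := fun i => h.twist 0 (ζ i : G → ℂ) with hψ
    have hcls : ∀ i, IsClassFunction G (ζ i : G → ℂ) := fun i =>
      isClassFunction_character (irr_isCharacter (ζ i).2)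
    have hψsec : ∀ i, Sec P z (ψ i) := fun i => h.twist_sec 0 (hcls i)
    have hψx : ∀ i, ∀ y ∈ (P : Subgroup G), y ∉ Subgroup.zpowers z → ψ i y = 0 := fun i y hy hyn => by
      simp only [hψ, twist]
      rw [ppt_of_ppower Nat.prime_three (OrderNine.ppower (P := P) hy), if_neg hyn]
    have hψval : ∀ i, ∀ t ∈ Subgroup.zpowers z, ∀ v, ¬ 3 ∣ orderOf v → ψ i (t * v) = (ζ i : G → ℂ) v :=
      fun i t ht v hv => by simp only [hψ]; rw [h.twist_val 0 _ ht hv, pow_zero, one_mul]
    -- inner products with a function constant on the sections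
    have hinner : ∀ i, ∀ f : G → ℂ, Sec P z f → (∀ t ∈ Subgroup.zpowers z, ∀ v, f (t * v) = f v) →
        classInner (ψ i) f = 3 * einner 3 (ζ i : G → ℂ) f := by
      intro i f hf hft
      have hs : Sec P z fun g => ψ i g * conj (f g) :=
        ⟨fun g k => by simp [(hψsec i).cls g k, hf.cls g k], fun y hy hyn v hc hv => by
          simp [(hψsec i).sec y hy hyn v hc hv, hf.sec y hy hyn v hc hv]⟩
      have hr : ∀ t ∈ Subgroup.zpowers z,
          h.rsum (fun g => ψ i (t * g) * conj (f (t * g))) = einner 3 (ζ i : G → ℂ) f := by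
        intro t ht
        simp only [rsum, einner, classInner, Pi.mul_apply, map_one, mul_one]
        congr 1
        refine Finset.sum_congr rfl fun g _ => ?_
        by_cases hg : 3 ∣ orderOf g
        · simp [regInd_of_sing hg]
        · rw [hψval i t ht g hg, hft t ht]; ring
      have h0 := hr 1 (one_mem _)
      simp only [one_mul] at h0
      rw [classInner, h.avg_split hs, h0, hr z (Subgroup.mem_zpowers z),
        hr (z ^ 2) (pow_mem (Subgroup.mem_zpowers z) 2), xsum, Finset.sum_eq_zero, mul_zero,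
        add_zero]
      · ring
      · intro y _
        split_ifs with hy
        · rfl
        · rw [hψx i y y.2 hy, zero_mul]
    set bp : Fin l → G → ℂ := fun i => ∑ s ∈ A, classInner (ψ i) (s : G → ℂ) • (s : G → ℂ) with hbp
    have hbpV : ∀ i, bp i ∈ charSpan (APart M z 0) := fun i =>
      Submodule.sum_mem _ fun s hs => Submodule.smul_mem _ _
        (Submodule.subset_span ⟨s, (Finset.mem_filter.mp hs).2, rfl⟩)
    have hbpB : ∀ i, blockPart (principalBlock M G) (ψ i) = bp i := by
      intro i
      funext g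
      simp only [blockPart_eq, hbp, Finset.sum_apply]
      refine (Finset.sum_subset (fun s hs => ?_) fun s hs hn => ?_).symm
      · exact Finset.mem_filter.mpr ⟨Finset.mem_univ _, ((Finset.mem_filter.mp hs).2).1⟩
      · show classInner (ψ i) (s : G → ℂ) * _ = 0
        rw [h.coef_eigen_pow (fun g => h.twist_eigen 0 _ g) fun e' => hn (Finset.mem_filter.mpr
          ⟨Finset.mem_univ _, (Finset.mem_filter.mp hs).2, e'⟩), zero_mul]
    have hbpψ : ∀ i, bp i = ψ i := by
      intro i
      have hbsec := h.charSpan_sec (fun s hs => hs.1) (hbpV i)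
      have hd : bp i - ψ i = 0 := by
        refine h.eq_zero_of_sections ⟨fun g k => ?_, fun y hy hyn v hc hv => ?_⟩ (fun t ht v hv => ?_)
          fun y hy hyn => ?_
        · simp [hbsec.cls g k, (hψsec i).cls g k]
        · simp [hbsec.sec y hy hyn v hc hv, (hψsec i).sec y hy hyn v hc hv]
        · rw [Pi.sub_apply, h.kernel_central (hbpV i) ht, hψval i t ht v hv, ← hbpB i,
            blockPart_regular_congr h.hM (isPBlock_principalBlock M)
              (f' := (ζ i : G → ℂ)) (fun c hc => h.twist_reg 0 _ hc) hv,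
            blockPart_self (hζA i).1, sub_self]
        · rw [Pi.sub_apply, hψx i y hy hyn, sub_zero]
          refine h.zero_of_orth hbsec (fun w hw => ?_) hy hyn
          have hFl : blockPart (principalBlock M G) (h.orbL w) = h.orbL w := by
            funext g
            rw [blockPart_eq]
            conv_rhs => rw [classFun_expansion (h.orbL_adm hw).cls, Finset.sum_apply]
            refine Finset.sum_subset (Finset.subset_univ _) fun s _ hn => ?_
            have h0 : classInner (h.orbL w) (s : G → ℂ) = 0 := by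
              by_contra hne
              exact hn (Finset.mem_filter.mpr ⟨Finset.mem_univ _, (h.orbL_mem hw hne).1⟩)
            rw [h0, zero_mul]
          rw [← hbpB i, blockPart_adj, hFl, h.inner_orbL (hψsec i) hw, Finset.sum_eq_zero, mul_zero]
          intro y _
          split_ifs with hy
          · rw [zero_mul]
          · rw [hψx i y y.2 hy, zero_mul]
      exact sub_eq_zero.mp hd
    have hcoef : ∀ i, ∀ s ∈ A, classInner (ψ i) (s : G → ℂ) = conj (∑ a, (D s a : ℂ) * Bm a i) := by
      intro i s hs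
      rw [hinner i _ (h.sec_char (Finset.mem_filter.mp hs).2.1)
        (fun t ht v => h.kernel_central (Submodule.subset_span ⟨s, (Finset.mem_filter.mp hs).2, rfl⟩) ht),
        ← hexp s hs i, map_mul, einner_conj, map_ofNat]
    intro i j
    have h1 : classInner (ψ i) (ψ j) = if i = j then 1 else 0 := by
      rw [hinner i (ψ j) (hψsec j) ?_, ← horth i j]
      · congr 1
        exact einner_congr (fun _ _ => rfl) fun v hv => h.twist_reg 0 _ hv
      · intro t ht v
        simp only [hψ, twist, (h.preg_shift ht v).1, (h.preg_shift ht v).2,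
          Subgroup.mul_mem_cancel_left _ ht, pow_zero]
    conv_lhs at h1 => rw [← hbpψ i, hbp]
    rw [classInner_sum_left] at h1
    rw [← h1]
    refine Finset.sum_congr rfl fun s hs => ?_
    rw [classInner_smul_left, hcoef i s hs, ← classInner_symm, hcoef j s hs, Complex.conj_conj]
  have hBCB : Bm.conjTranspose * Cm * Bm = 1 := by
    ext i j
    rw [Matrix.one_apply, ← hpsi i j, Matrix.mul_apply]
    simp only [Matrix.mul_apply, Matrix.conjTranspose_apply, Cm, Matrix.of_apply, Int.cast_sum,
      Int.cast_mul, map_sum, map_mul, map_intCast, Finset.sum_mul, Finset.mul_sum, RCLike.star_def]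
    rw [Finset.sum_comm (s := A)]
    refine Finset.sum_congr rfl fun b _ => ?_
    rw [Finset.sum_comm]
    exact Finset.sum_congr rfl fun a _ => Finset.sum_congr rfl fun s _ => by ring
  have hkey : Cm = Nm.conjTranspose * Nm := by
    have h1 : Nm.conjTranspose * Bm.conjTranspose = 1 := by
      rw [← Matrix.conjTranspose_mul, hBN, Matrix.conjTranspose_one]
    calc Cm = (Nm.conjTranspose * Bm.conjTranspose) * Cm * (Bm * Nm) := by
          rw [h1, hBN, Matrix.one_mul, Matrix.mul_one]
      _ = Nm.conjTranspose * (Bm.conjTranspose * Cm * Bm) * Nm := by simp only [Matrix.mul_assoc]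
      _ = _ := by rw [hBCB, Matrix.mul_one]
  intro a b
  have h2 := congrFun (congrFun hkey a) b
  simp only [Matrix.mul_apply, Matrix.conjTranspose_apply, Cm, Nm, Matrix.of_apply,
    RCLike.star_def, map_intCast] at h2
  exact_mod_cast h2.symm

end Cen

end Cfsg.Agent.Char.X27
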