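import Cfsg.Agent.Lib.Char.X27.Star

/-!
# Integral matrices with prescribed Gram matrix
-/

set_option autoImplicit false

namespace Cfsg.Agent.Char.X27

variable {ι : Type*} [Fintype ι]

/-- Two vectors of norm two with inner product one share exactly one point. -/
theorem meet_one {u v : ι → ℤ} {a b : ι} (hab : a ≠ b) (ha : u a * u a = 1) (hb : u b * u b = 1)
    (hz : ∀ i, i ≠ a → i ≠ b → u i = 0) (hv : dot v v = 2) (huv : dot u v = 1) :
    (v a ≠ 0 ∧ v b = 0 ∧ v a = u a) ∨ (v a = 0 ∧ v b ≠ 0 ∧ v b = u b) := by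
  rw [dot_two hab hz] at huv
  have hs := small_entry (u := v) (by omega)
  rcases sign_of_sq ha with e1 | e1 <;> rcases sign_of_sq hb with e2 | e2 <;>
    rcases hs a with e3 | e3 | e3 <;> rcases hs b with e4 | e4 | e4 <;>
      simp [e1, e2, e3, e4] at huv ⊢

/-- At least four vectors of norm two with pairwise inner products one form a star. -/
theorem exists_center {m : ℕ} (u : Fin (m + 4) → ι → ℤ)
    (h : ∀ i j, dot (u i) (u j) = if i = j then 2 else 1) :
    ∃ (c : ι) (δ : ℤ) (q : Fin (m + 4) → ι), δ * δ = 1 ∧ Function.Injective q ∧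
      (∀ i, q i ≠ c) ∧ (∀ i, u i c = δ) ∧ (∀ i, u i (q i) * u i (q i) = 1) ∧
      ∀ i x, x ≠ c → x ≠ q i → u i x = 0 := by
  classical
  have h2 : ∀ i, dot (u i) (u i) = 2 := fun i => by rw [h, if_pos rfl]
  have h1 : ∀ {i j}, i ≠ j → dot (u i) (u j) = 1 := fun hne => by rw [h, if_neg hne]
  choose a b hab ha hb hz using fun i => shape_two (h2 i)
  let i1 : Fin (m + 4) := ⟨1, by omega⟩
  have h01 : (0 : Fin (m + 4)) ≠ i1 := by simp [i1, Fin.ext_iff]
  have hne : ∀ {i} {x : ι}, u i x ≠ 0 → x = a i ∨ x = b i := fun {i} {x} hx => by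
    by_contra hno
    rw [not_or] at hno
    exact hx (hz i x hno.1 hno.2)
  -- the point common to the first two
  obtain ⟨c, d, hcd, hc, hd, hzc, hc1, hd1⟩ : ∃ c d, c ≠ d ∧ u 0 c * u 0 c = 1 ∧
      u 0 d * u 0 d = 1 ∧ (∀ x, x ≠ c → x ≠ d → u 0 x = 0) ∧ u i1 c ≠ 0 ∧ u i1 d = 0 := by
    rcases meet_one (hab 0) (ha 0) (hb 0) (hz 0) (h2 i1) (h1 h01) with ⟨e1, e2, -⟩ | ⟨e1, e2, -⟩
    · exact ⟨a 0, b 0, hab 0, ha 0, hb 0, hz 0, e1, e2⟩
    · exact ⟨b 0, a 0, (hab 0).symm, hb 0, ha 0, fun x x1 x2 => hz 0 x x2 x1, e2, e1⟩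
  obtain ⟨x, hxc, hx, hz1⟩ : ∃ x, x ≠ c ∧ u i1 x * u i1 x = 1 ∧
      ∀ y, y ≠ c → y ≠ x → u i1 y = 0 := by
    rcases hne hc1 with e | e
    · exact ⟨b i1, e ▸ (hab i1).symm, hb i1, fun y y1 y2 => hz i1 y (e ▸ y1) y2⟩
    · exact ⟨a i1, e ▸ hab i1, ha i1, fun y y1 y2 => hz i1 y y2 (e ▸ y1)⟩
  have hxd : x ≠ d := fun e => by rw [e, hd1] at hx; exact zero_ne_one hx
  have hcs : u i1 c * u i1 c = 1 := by
    rcases hne hc1 with e | e <;> rw [e]
    exacts [ha i1, hb i1]
  -- every vector passes through it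
  have hall : ∀ j, u j c ≠ 0 := by
    intro j hj
    have hj0 : (0 : Fin (m + 4)) ≠ j := fun e => by rw [← e] at hj; rw [hj] at hc; exact zero_ne_one hc
    have hj1 : i1 ≠ j := fun e => hc1 (e ▸ hj)
    have hjd : u j d ≠ 0 := by
      rcases meet_one hcd hc hd hzc (h2 j) (h1 hj0) with ⟨e, -⟩ | ⟨-, e, -⟩
      exacts [absurd hj e, e]
    have hjx : u j x ≠ 0 := by
      rcases meet_one hxc.symm hcs hx hz1 (h2 j) (h1 hj1) with ⟨e, -⟩ | ⟨-, e, -⟩
      exacts [absurd hj e, e]
    have hsup : ∀ y, y ≠ d → y ≠ x → u j y = 0 := by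
      intro y yd yx
      by_contra hy
      rcases hne hjd with e | e <;> rcases hne hjx with e' | e' <;> rcases hne hy with e'' | e'' <;>
        first
        | exact hxd (e'.trans e.symm)
        | exact yd (e''.trans e.symm)
        | exact yx (e''.trans e'.symm)
    have hsj := small_entry (u := u j) (by rw [h2]; norm_num)
    have hds : u j d * u j d = 1 := by rcases hsj d with e | e | e <;> simp_all
    have hxs : u j x * u j x = 1 := by rcases hsj x with e | e | e <;> simp_all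
    obtain ⟨k, hk0, hk1, hkj⟩ : ∃ k : Fin (m + 4), k ≠ 0 ∧ k ≠ i1 ∧ k ≠ j := by
      by_contra hno
      push Not at hno
      have e1 := hno ⟨2, by omega⟩ (by simp [Fin.ext_iff]) (by simp [i1, Fin.ext_iff])
      have e2 := hno ⟨3, by omega⟩ (by simp [Fin.ext_iff]) (by simp [i1, Fin.ext_iff])
      simp [← e2, Fin.ext_iff] at e1
    rcases meet_one hcd hc hd hzc (h2 k) (h1 hk0.symm) with ⟨A, B, -⟩ | ⟨A, B, -⟩ <;>
      rcases meet_one hxc.symm hcs hx hz1 (h2 k) (h1 hk1.symm) with ⟨A', X, -⟩ | ⟨A', X, -⟩ <;>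
        rcases meet_one hxd.symm hds hxs hsup (h2 k) (h1 hkj.symm) with ⟨B', X', -⟩ | ⟨B', X', -⟩ <;>
          contradiction
  have hδ : ∀ j, u j c = u 0 c := fun j => by
    by_cases hj : (0 : Fin (m + 4)) = j
    · rw [hj]
    · rcases meet_one hcd hc hd hzc (h2 j) (h1 hj) with ⟨-, -, e⟩ | ⟨e, -⟩
      exacts [e, absurd e (hall j)]
  have hq : ∀ j, ∃ q, q ≠ c ∧ u j q * u j q = 1 ∧ ∀ y, y ≠ c → y ≠ q → u j y = 0 := fun j => by
    rcases hne (hall j) with e | e
    · exact ⟨b j, e ▸ (hab j).symm, hb j, fun y y1 y2 => hz j y (e ▸ y1) y2⟩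
    · exact ⟨a j, e ▸ hab j, ha j, fun y y1 y2 => hz j y y2 (e ▸ y1)⟩
  choose q hqc hq1 hqz using hq
  refine ⟨c, u 0 c, q, hc, fun i j hij => ?_, hqc, hδ, hq1, hqz⟩
  by_contra hne'
  have hci : u i c * u i c = 1 := by rw [hδ]; exact hc
  rcases meet_one (hqc i).symm hci (hq1 i) (hqz i) (h2 j) (h1 hne') with ⟨-, e, -⟩ | ⟨e, -⟩
  · have := hq1 j
    rw [← hij, e] at this
    exact zero_ne_one this
  · exact hall j e

/-- Coefficients for trivial inertial quotient. -/
def cc1 : Fin 8 → Fin 1 → ℤ := fun _ _ => 1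

/-- Coefficients for inertial quotient of order two. -/
def cc2 : Fin 4 → Fin 2 → ℤ := fun _ _ => 1

/-- Coefficients for inertial quotient of order four. -/
def cc4 : Fin 2 → Fin 4 → ℤ := fun _ _ => 1

/-- Coefficients for inertial quotient of order eight. -/
def cc8 : Fin 1 → Fin 5 → ℤ := fun _ => ![1, 1, 1, 1, 2]

def tgt1 : Fin 1 → Fin 1 → ℤ := fun _ _ => 3

def tgt2 : Fin 2 → Fin 2 → ℤ := ![![2, 1], ![1, 2]]

def tgt4 : Fin 4 → Fin 4 → ℤ := fun a b => if b = a then 0 else -1

def tgt8 : Fin 5 → Fin 5 → ℤ := fun a b =>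
  if (a : ℕ) = 4 then -1 else if b = a ∨ (b : ℕ) = 4 then 1 else 0

theorem solve1 (N : Fin 1 → Fin 1 → ℤ)
    (h : ∀ a b, ∑ i, N i a * N i b = (if a = b then 1 else 0) + ∑ p, cc1 p a * cc1 p b) :
    ∃ (π : Fin 1 → Fin 1) (η : Fin 1 → ℤ), Function.Injective π ∧ (∀ i, η i * η i = 1) ∧
      ∀ i a, η i * N (π i) a = tgt1 i a := by
  have h0 := h 0 0
  simp [cc1] at h0
  have h1 : N 0 0 = 3 ∨ N 0 0 = -3 := mul_self_eq_mul_self_iff.mp (by simpa using h0)
  refine ⟨id, fun _ => if N 0 0 = 3 then 1 else -1, Function.injective_id,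
    fun _ => by simp only; split_ifs <;> rfl, fun i a => ?_⟩
  fin_cases i; fin_cases a
  rcases h1 with e | e <;> simp [e, tgt1]

set_option maxRecDepth 8000 in
theorem gram2_box : ∀ a b c d : Fin 5,
    let x : Fin 5 → ℤ := fun t => (t : ℤ) - 2
    x a * x a + x c * x c = 5 → x b * x b + x d * x d = 5 → x a * x b + x c * x d = 4 →
      ((x a, x b) = (2, 1) ∨ (x a, x b) = (-2, -1)) ∧
        ((x c, x d) = (1, 2) ∨ (x c, x d) = (-1, -2)) ∨
      ((x c, x d) = (2, 1) ∨ (x c, x d) = (-2, -1)) ∧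
        ((x a, x b) = (1, 2) ∨ (x a, x b) = (-1, -2)) := by decide +kernel

theorem solve2 (N : Fin 2 → Fin 2 → ℤ)
    (h : ∀ a b, ∑ i, N i a * N i b = (if a = b then 1 else 0) + ∑ p, cc2 p a * cc2 p b) :
    ∃ (π : Fin 2 → Fin 2) (η : Fin 2 → ℤ), Function.Injective π ∧ (∀ i, η i * η i = 1) ∧
      ∀ i a, η i * N (π i) a = tgt2 i a := by
  have h00 := h 0 0
  have h11 := h 1 1
  have h01 := h 0 1
  simp [cc2, Fin.sum_univ_two] at h00 h11 h01
  have hb : ∀ i j, -2 ≤ N i j ∧ N i j ≤ 2 := fun i j => by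
    fin_cases i <;> fin_cases j <;> constructor <;> simp only [Fin.isValue, Fin.zero_eta, Fin.mk_one] <;>
      nlinarith
  have hi : ∀ i j, ∃ t : Fin 5, ((t : ℕ) : ℤ) - 2 = N i j := fun i j =>
    ⟨⟨(N i j + 2).toNat, by have := hb i j; omega⟩, by have := hb i j; simp only; omega⟩
  obtain ⟨a, ha⟩ := hi 0 0
  obtain ⟨b, hb'⟩ := hi 0 1
  obtain ⟨c, hc⟩ := hi 1 0
  obtain ⟨d, hd⟩ := hi 1 1
  have hbox := gram2_box a b c d
  simp only [ha, hb', hc, hd, Prod.mk.injEq] at hbox
  rcases hbox (by linarith) (by linarith) (by linarith) with ⟨e1, e2⟩ | ⟨e1, e2⟩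
  · refine ⟨id, ![if N 0 0 = 2 then 1 else -1, if N 1 0 = 1 then 1 else -1], Function.injective_id,
      fun i => ?_, fun i a => ?_⟩
    · fin_cases i <;> simp <;> split_ifs <;> rfl
    · rcases e1 with ⟨p, q⟩ | ⟨p, q⟩ <;> rcases e2 with ⟨p', q'⟩ | ⟨p', q'⟩ <;>
        fin_cases i <;> fin_cases a <;> simp [tgt2, p, q, p', q']
  · refine ⟨Equiv.swap 0 1, ![if N 1 0 = 2 then 1 else -1, if N 0 0 = 1 then 1 else -1],
      (Equiv.swap 0 1).injective, fun i => ?_, fun i a => ?_⟩
    · fin_cases i <;> simp <;> split_ifs <;> rfl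
    · rcases e1 with ⟨p, q⟩ | ⟨p, q⟩ <;> rcases e2 with ⟨p', q'⟩ | ⟨p', q'⟩ <;>
        fin_cases i <;> fin_cases a <;> simp [tgt2, p, q, p', q']

theorem solve4 (N : Fin 4 → Fin 4 → ℤ)
    (h : ∀ a b, ∑ i, N i a * N i b = (if a = b then 1 else 0) + ∑ p, cc4 p a * cc4 p b) :
    ∃ (π : Fin 4 → Fin 4) (η : Fin 4 → ℤ), Function.Injective π ∧ (∀ i, η i * η i = 1) ∧
      ∀ i a, η i * N (π i) a = tgt4 i a := by
  classical
  have hG : ∀ a b, dot (fun i => N i a) (fun i => N i b) = if a = b then 3 else 2 := fun a b => by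
    rw [dot, h a b]
    by_cases e : a = b <;> simp [e, cc4]
  have hs : ∀ a i, N i a = 0 ∨ N i a = 1 ∨ N i a = -1 := fun a i =>
    small_entry (u := fun i => N i a) (by rw [hG, if_pos rfl]) i
  have hz : ∀ a, ∃ z, N z a = 0 ∧ ∀ i, i ≠ z → N i a * N i a = 1 := by
    intro a
    have hc := card_support_eq (u := fun i => N i a) (hs a)
    rw [hG, if_pos rfl] at hc
    have hc' : (Finset.univ.filter fun i => ¬ N i a ≠ 0).card = 1 := by
      have := Finset.card_filter_add_card_filter_not (s := (Finset.univ : Finset (Fin 4)))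
        (fun i => N i a ≠ 0)
      simp only [Finset.card_univ, Fintype.card_fin] at this
      omega
    obtain ⟨z, hz⟩ := Finset.card_eq_one.mp hc'
    refine ⟨z, ?_, fun i hi => ?_⟩
    · have := (Finset.mem_filter.mp (hz.symm ▸ Finset.mem_singleton_self z)).2
      exact not_not.mp this
    · rcases hs a i with e | e | e
      · exact absurd (Finset.mem_singleton.mp (hz ▸ Finset.mem_filter.mpr
          ⟨Finset.mem_univ _, not_not.mpr e⟩)) hi
      all_goals rw [e]; norm_num
  choose z hz0 hz1 using hz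
  have hdef : ∀ a b, a ≠ b →
      ∑ i ∈ (Finset.univ.erase (z a)).erase (z b), (1 - N i a * N i b) =
        (((Finset.univ.erase (z a)).erase (z b)).card : ℤ) - 2 := by
    intro a b hab
    rw [Finset.sum_sub_distrib, Finset.sum_const, nsmul_one]
    congr 1
    rw [Finset.sum_erase _ (by rw [hz0 b, mul_zero]), Finset.sum_erase _ (by rw [hz0 a, zero_mul])]
    simpa [dot, if_neg hab] using hG a b
  have hinj : Function.Injective z := by
    intro a b hab
    by_contra hne
    have h1 := hdef a b hne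
    rw [hab, Finset.erase_idem, Finset.card_erase_of_mem (Finset.mem_univ _), Finset.card_univ,
      Fintype.card_fin] at h1
    have h2 : (2 : ℤ) ∣ ∑ i ∈ Finset.univ.erase (z b), (1 - N i a * N i b) := by
      refine Finset.dvd_sum fun i hi => ?_
      have hia := hz1 a i (by rw [hab]; exact (Finset.mem_erase.mp hi).1)
      have hib := hz1 b i (Finset.mem_erase.mp hi).1
      rcases sign_of_sq hia with e | e <;> rcases sign_of_sq hib with e' | e' <;>
        simp [e, e']
    rw [h1] at h2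
    norm_num at h2
  have hprod : ∀ a b, a ≠ b → ∀ i, i ≠ z a → i ≠ z b → N i a * N i b = 1 := by
    intro a b hab i hia hib
    have h1 := hdef a b hab
    rw [Finset.card_erase_of_mem (Finset.mem_erase.mpr ⟨fun e => hab (hinj e).symm, Finset.mem_univ _⟩),
      Finset.card_erase_of_mem (Finset.mem_univ _), Finset.card_univ, Fintype.card_fin] at h1
    have h2 := (Finset.sum_eq_zero_iff_of_nonneg (fun j _ => show (0 : ℤ) ≤ 1 - N j a * N j b by
      rcases hs a j with e | e | e <;> rcases hs b j with e' | e' | e' <;> simp [e, e'])).mp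
        (by rw [h1]; norm_num) i (by simp [hia, hib])
    linarith
  let b0 : Fin 4 → Fin 4 := fun a => if a = 0 then 1 else 0
  have hb0 : ∀ a, b0 a ≠ a := by decide
  refine ⟨z, fun a => -N (z a) (b0 a), hinj, fun a => ?_, fun a b => ?_⟩
  · simpa using hz1 (b0 a) (z a) fun e => hb0 a (hinj e).symm
  · by_cases hba : b = a
    · subst hba; simp [hz0, tgt4]
    · rw [tgt4, if_neg hba]
      by_cases hbb : b = b0 a
      · subst hbb
        have := hz1 (b0 a) (z a) fun e => hb0 a (hinj e).symm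
        linarith
      · have := hprod (b0 a) b (Ne.symm hbb) (z a) (fun e => hb0 a (hinj e).symm)
          fun e => hba (hinj e).symm
        linarith

theorem solve8 (N : Fin 5 → Fin 5 → ℤ)
    (h : ∀ a b, ∑ i, N i a * N i b = (if a = b then 1 else 0) + ∑ p, cc8 p a * cc8 p b) :
    ∃ (π : Fin 5 → Fin 5) (η : Fin 5 → ℤ), Function.Injective π ∧ (∀ i, η i * η i = 1) ∧
      ∀ i a, η i * N (π i) a = tgt8 i a := by
  have hc : ∀ a : Fin 4, cc8 0 a.castSucc = 1 := by decide
  obtain ⟨r, δ, q, hδ, hq, hqr, hr, hs, hz⟩ :=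
    exists_center (m := 0) (fun a i => N i (a : Fin 4).castSucc) fun a b => by
      show (∑ i, N i a.castSucc * N i b.castSucc) = _
      rw [h, Fin.sum_univ_one, hc, hc]
      by_cases e : a = b <;> simp [e, Fin.castSucc_inj]
  let w : Fin 5 → ℤ := fun i => N i 4
  let π : Fin 5 → Fin 5 := Fin.snoc q r
  have hπc : ∀ a : Fin 4, π a.castSucc = q a := fun a => Fin.snoc_castSucc (α := fun _ => Fin 5) r q a
  have hπl : π 4 = r := Fin.snoc_last (α := fun _ => Fin 5) r q
  have hπ : Function.Injective π := Fin.snoc_injective_iff.mpr ⟨hq, by simpa using hqr⟩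
  have hda : ∀ a : Fin 4, δ * w r + N (q a) a.castSucc * w (q a) = 2 := by
    intro a
    have h1 := h a.castSucc 4
    rw [Fin.sum_univ_one, hc, if_neg (show a.castSucc ≠ (4 : Fin 5) from (Fin.castSucc_lt_last a).ne),
      ← Finset.sum_subset (Finset.subset_univ ({r, q a} : Finset (Fin 5))) (fun i _ hi => by
        simp only [Finset.mem_insert, Finset.mem_singleton, not_or] at hi
        rw [hz a i hi.1 hi.2, zero_mul]),
      Finset.sum_pair (hqr a).symm, hr a] at h1
    simpa [cc8, w] using h1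
  have h44 : w r * w r + ∑ a : Fin 4, w (q a) * w (q a) = 5 := by
    have h1 := h 4 4
    rw [← (Finite.injective_iff_bijective.mp hπ).sum_comp (fun i => N i 4 * N i 4),
      Fin.sum_univ_castSucc, show Fin.last 4 = (4 : Fin 5) from rfl, hπl] at h1
    simp only [hπc, Fin.sum_univ_one, if_pos] at h1
    have : cc8 0 4 = 2 := by decide
    rw [this] at h1
    simp only [w]
    linarith
  have hy : ∀ a, w (q a) * w (q a) = (2 - δ * w r) * (2 - δ * w r) := fun a => by
    linear_combination (N (q a) a.castSucc * w (q a) + 2 - δ * w r) * hda a -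
      (w (q a) * w (q a)) * hs a
  have hx : δ * w r = 1 := by
    rw [Finset.sum_congr rfl fun a _ => hy a, Finset.sum_const, Finset.card_univ, Fintype.card_fin,
      nsmul_eq_mul] at h44
    have h2 : (δ * w r - 1) * (5 * (δ * w r) - 11) = 0 := by
      push_cast at h44
      linear_combination h44 + (w r * w r) * hδ
    rcases mul_eq_zero.mp h2 with e | e <;> omega
  have hwr : w r = δ := by linear_combination δ * hx - w r * hδ
  have hwq : ∀ a, w (q a) = N (q a) a.castSucc := fun a => by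
    linear_combination (N (q a) a.castSucc) * (hda a) - (w (q a)) * hs a -
      (N (q a) a.castSucc) * hx
  refine ⟨π, Fin.snoc (fun a => N (q a) a.castSucc) (-δ), hπ, fun i => ?_, fun i b => ?_⟩
  · refine Fin.lastCases ?_ (fun a => ?_) i
    · rw [Fin.snoc_last]; linarith
    · rw [Fin.snoc_castSucc]; exact hs a
  · refine Fin.lastCases ?_ (fun a => ?_) i
    · rw [Fin.snoc_last, show Fin.last 4 = (4 : Fin 5) from rfl, hπl, tgt8, if_pos (show ((4 : Fin 5) : ℕ) = 4 from rfl)]
      refine Fin.lastCases ?_ (fun c => ?_) b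
      · show -δ * w r = -1
        linarith
      · rw [hr c]; linarith
    · rw [Fin.snoc_castSucc, hπc, tgt8, if_neg (by simp; omega)]
      refine Fin.lastCases ?_ (fun c => ?_) b
      · rw [if_pos (Or.inr (show ((Fin.last 4 : Fin 5) : ℕ) = 4 from rfl))]
        show _ * w (q a) = 1
        rw [hwq]; exact hs a
      · by_cases hca : c = a
        · subst hca; rw [if_pos (Or.inl rfl)]; exact hs c
        · rw [if_neg (by rintro (e | e); exacts [hca (Fin.castSucc_inj.mp e), by simp at e; omega]),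
            hz c (q a) (hqr a) (fun e => hca (hq e).symm), mul_zero]

/-- Eight columns of norm two with pairwise inner product one do not fit in eight rows. -/
theorem no_solve (N : Fin 8 → Fin 8 → ℤ) (v : Fin 8 → ℤ) (hv : ∀ a, v a * v a = 1)
    (h : ∀ a b, ∑ i, N i a * N i b = (if a = b then 1 else 0) + v a * v b) : False := by
  obtain ⟨c, -, q, -, hq, hqc, -⟩ :=
    exists_center (m := 4) (fun a i => v a * N i a) fun a b => by
      show (∑ i, v a * N i a * (v b * N i b)) = _
      rw [Finset.sum_congr rfl (g := fun i => v a * v b * (N i a * N i b)) fun i _ => by ring,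
        ← Finset.mul_sum, h a b]
      by_cases e : a = b
      · subst e; rw [if_pos rfl, if_pos rfl]; linear_combination (2 + v a * v a) * hv a
      · rw [if_neg e, if_neg e]; linear_combination (v b * v b) * hv a + hv b
  obtain ⟨i, hi⟩ := (Finite.injective_iff_bijective.mp hq).2 c
  exact hqc i hi

end Cfsg.Agent.Char.X27
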