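import Cfsg.Agent.Lib.Char.X27.Frame
import Cfsg.Agent.Lib.Char.X27.Shapes

/-!
# The principal block of the centralizer in the four cases
-/

set_option autoImplicit false
set_option linter.unusedSectionVars false

namespace Cfsg.Agent.Char.X27

open Cfsg Module
open scoped ComplexConjugate

universe u

variable {G : Type u} [Group G] [Fintype G] [Fact (Nat.Prime 3)]

namespace Cen

variable {M : Ideal AlgInt} {P : Sylow 3 G} {z : G} {e k n l : ℕ}

/-- Representatives of the non-central classes. -/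
structure Reps (P : Sylow 3 G) (z : G) (r : Fin n → ↥(P : Subgroup G)) : Prop where
  out : ∀ i, (r i : G) ∉ Subgroup.zpowers z
  inj : ∀ i j, pclass P (r i) = pclass P (r j) → i = j
  cover : ∀ w : ↥(P : Subgroup G), (w : G) ∉ Subgroup.zpowers z →
    ∃ i, pclass P w = pclass P (r i)

/-- Integral coordinates of the orbit functions. -/
structure Coords (h : Cen M P z e) (r : Fin n → ↥(P : Subgroup G))
    (fc : Fin n → IrrCharacter G → ℤ) : Prop where
  expand : ∀ i, h.orbL (r i) = ∑ χ, (fc i χ : ℂ) • (χ : G → ℂ)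
  gram : ∀ i j, dot (fc i) (fc j) = (e : ℤ) + if i = j then 1 else 0
  supp : ∀ i χ, fc i χ ≠ 0 → χ ∈ APart M z 0
  at_triv : ∀ i, fc i (triv G) = -1
  meet : ∀ χ ∈ APart M z 0, ∃ i, fc i χ ≠ 0

variable (h : Cen M P z e)
include h

open scoped _root_.Classical in
theorem orbL_class {w w' : ↥(P : Subgroup G)} (hc : pclass P w = pclass P w') :
    h.orbL w = h.orbL w' := by
  have : h.set.orbF w = h.set.orbF w' := by
    funext v; simp only [Setting.orbF, hc]
  rw [orbL, orbL, this]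

theorem exists_coords {r : Fin n → ↥(P : Subgroup G)} (hr : Reps P z r) :
    ∃ fc, Coords h r fc := by
  classical
  choose fc hfc hcoef using fun i => exists_int_coords (h.orbL_gen (hr.out i))
  refine ⟨fc, ⟨hfc, fun i j => ?_, fun i χ hne => ?_, fun i => ?_, fun χ hχ => ?_⟩⟩
  · have h1 := h.orbL_gram (hr.out i) (hr.out j)
    conv_lhs at h1 => rw [hfc i, classInner_sum_left]
    simp only [classInner_smul_left] at h1
    rw [Finset.sum_congr rfl (g := fun χ => ((fc i χ * fc j χ : ℤ) : ℂ)) fun χ _ => by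
      rw [← classInner_symm, hcoef j χ, map_intCast]; push_cast; rfl, ← Int.cast_sum] at h1
    rw [dot]
    by_cases hij : i = j
    · subst hij
      rw [if_pos rfl] at h1 ⊢
      exact_mod_cast h1
    · rw [if_neg fun e' => hij (hr.inj i j e')] at h1
      rw [if_neg hij]
      exact_mod_cast h1
  · exact h.orbL_mem (hr.out i) (by rw [hcoef i χ]; exact_mod_cast hne)
  · have h1 := h.orbL_triv (hr.out i)
    rw [hcoef i] at h1
    exact_mod_cast h1
  · obtain ⟨w, hw, hne⟩ := h.exists_meet hχ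
    obtain ⟨i, hi⟩ := hr.cover w hw
    rw [h.orbL_class hi, hcoef i χ] at hne
    exact ⟨i, by exact_mod_cast hne⟩

open scoped _root_.Classical in
/-- Assembling a frame from an enumeration of the supports. -/
theorem frame_of_coords {m : Model (k + 1) n l} {r : Fin n → ↥(P : Subgroup G)} (hr : Reps P z r)
    {fc : Fin n → IrrCharacter G → ℤ} (hfc : Coords h r fc)
    {slot : Fin (k + 1) → (Fin l ⊕ Fin n) ⊕ (Fin l ⊕ Fin l)} (hslot : Function.Bijective slot)
    {c : Fin n → Fin l → ℤ} {tA : Fin l → Fin l ⊕ Fin n → ℤ} {tgt : Fin l → Fin l → ℤ}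
    (hmF : ∀ i j, m.F i j = frameF c i (slot j)) (hmW : ∀ i j, m.W i j = frameW n i (slot j))
    (hmT : ∀ i j, m.T i j = frameT tA i (slot j))
    (htgt : ∀ i a, tgt i a = tA i (Sum.inl a) + ∑ p, tA i (Sum.inr p) * c p a)
    (hsol : ∀ N : Fin l → Fin l → ℤ,
      (∀ a b, ∑ i, N i a * N i b = (if a = b then 1 else 0) + ∑ p, c p a * c p b) →
        ∃ (π : Fin l → Fin l) (η : Fin l → ℤ), Function.Injective π ∧ (∀ i, η i * η i = 1) ∧
          ∀ i a, η i * N (π i) a = tgt i a)
    {g : Fin l ⊕ Fin n → IrrCharacter G} {S : Fin l ⊕ Fin n → ℤ} (hg : Function.Injective g)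
    (hS : ∀ x, S x * S x = 1)
    {x₀ : Fin l ⊕ Fin n} (hx₀ : slot 0 = Sum.inl x₀) (hg0 : g x₀ = triv G) (hS0 : S x₀ = 1)
    (hval : ∀ i x, fc i (g x) =
      Sum.elim (fun a => -c i a) (fun p => if p = i then 1 else 0) x * S x)
    (hout : ∀ i χ, (∀ x, g x ≠ χ) → fc i χ = 0)
    (hmem : ∀ x, g x ∈ APart M z 0) : ∃ f s, Frame h m r f s := by
  refine h.exists_frame hr.out hr.inj hr.cover hslot hmF hmW hmT htgt hsol hg (fun χ => ?_) hS hx₀
    hg0 hS0 fun i => ?_
  · refine ⟨fun hχ => ?_, ?_⟩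
    · by_contra hno
      push Not at hno
      obtain ⟨i, hi⟩ := hfc.meet χ hχ
      exact hi (hout i χ hno)
    · rintro ⟨x, rfl⟩
      exact hmem x
  · rw [hfc.expand i, ← Finset.sum_subset (Finset.subset_univ (Finset.univ.image g)) fun χ _ hχ => by
      rw [hout i χ fun x e' => hχ (Finset.mem_image.mpr ⟨x, Finset.mem_univ _, e'⟩), Int.cast_zero,
        zero_smul], Finset.sum_image hg.injOn]
    exact Finset.sum_congr rfl fun x _ => by rw [hval]

/-- The slots for trivial inertial quotient. -/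
def slot1 : Fin 11 → (Fin 1 ⊕ Fin 8) ⊕ (Fin 1 ⊕ Fin 1) :=
  ![.inl (.inl 0), .inl (.inr 0), .inl (.inr 1), .inl (.inr 2), .inl (.inr 3), .inl (.inr 4),
    .inl (.inr 5), .inl (.inr 6), .inl (.inr 7), .inr (.inl 0), .inr (.inr 0)]

def tA1 : Fin 1 → Fin 1 ⊕ Fin 8 → ℤ := fun _ =>
  Sum.elim (fun _ => 1) ![1, 1, 0, 0, 0, 0, 0, 0]

/-- The slots for inertial quotient of order two. -/
def slot2 : Fin 10 → (Fin 2 ⊕ Fin 4) ⊕ (Fin 2 ⊕ Fin 2) :=
  ![.inl (.inl 0), .inl (.inl 1), .inl (.inr 0), .inl (.inr 1), .inl (.inr 2), .inl (.inr 3),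
    .inr (.inl 0), .inr (.inl 1), .inr (.inr 0), .inr (.inr 1)]

def tA2 : Fin 2 → Fin 2 ⊕ Fin 4 → ℤ := fun a =>
  Sum.elim (fun b => if b = a then 1 else 0) ![1, 0, 0, 0]

/-- The slots for inertial quotient of order four. -/
def slot4 : Fin 14 → (Fin 4 ⊕ Fin 2) ⊕ (Fin 4 ⊕ Fin 4) :=
  ![.inl (.inl 0), .inl (.inl 1), .inl (.inl 2), .inl (.inl 3), .inl (.inr 0), .inl (.inr 1),
    .inr (.inl 0), .inr (.inl 1), .inr (.inl 2), .inr (.inl 3),
    .inr (.inr 0), .inr (.inr 1), .inr (.inr 2), .inr (.inr 3)]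

def tA4 : Fin 4 → Fin 4 ⊕ Fin 2 → ℤ := fun a =>
  Sum.elim (fun b => if b = a then 1 else 0) ![-1, 0]

/-- The slots for inertial quotient of order eight. -/
def slot8 : Fin 16 → (Fin 5 ⊕ Fin 1) ⊕ (Fin 5 ⊕ Fin 5) :=
  ![.inl (.inl 0), .inl (.inl 1), .inl (.inl 2), .inl (.inl 3), .inl (.inl 4), .inl (.inr 0),
    .inr (.inl 0), .inr (.inl 1), .inr (.inl 2), .inr (.inl 3), .inr (.inl 4),
    .inr (.inr 0), .inr (.inr 1), .inr (.inr 2), .inr (.inr 3), .inr (.inr 4)]

def tA8 : Fin 5 → Fin 5 ⊕ Fin 1 → ℤ := fun a =>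
  Sum.elim (fun b => if b = a ∨ (b : ℕ) = 4 then 1 else 0) fun _ => if (a : ℕ) = 4 then -1 else 0

end Cen

namespace Cen

variable {M : Ideal AlgInt} {P : Sylow 3 G} {z : G}

theorem frame1 (h : Cen M P z 1) : ∃ r : Fin 8 → ↥(P : Subgroup G), Reps P z r ∧
    ∃ f s, Frame h model1 r f s := by
  classical
  obtain ⟨n, r, hn, h1, h2, h3⟩ := h.set.exists_reps
  obtain rfl : n = 8 := by omega
  refine ⟨r, ⟨h1, h2, h3⟩, ?_⟩
  obtain ⟨fc, hfc⟩ := h.exists_coords (r := r) ⟨h1, h2, h3⟩
  have hq : ∀ i, ∃ q, q ≠ triv G ∧ fc i q * fc i q = 1 ∧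
      ∀ χ, χ ≠ triv G → χ ≠ q → fc i χ = 0 := by
    intro i
    obtain ⟨a, b, hab, ha, hb, hz⟩ := shape_two (u := fc i) (by rw [hfc.gram, if_pos rfl]; norm_num)
    by_cases hta : triv G = a
    · exact ⟨b, hta ▸ hab.symm, hb, fun χ x1 x2 => hz χ (hta ▸ x1) x2⟩
    · have htb : triv G = b := by
        by_contra htb
        have := hz _ hta htb
        rw [hfc.at_triv] at this
        norm_num at this
      exact ⟨a, htb ▸ hab, ha, fun χ x1 x2 => hz χ x2 (htb ▸ x1)⟩
  choose q hqt hq1 hqz using hq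
  have hqinj : Function.Injective q := by
    intro i j hij
    by_contra hne
    have hd := hfc.gram i j
    rw [dot_two (hqt i).symm (hqz i), hfc.at_triv, hfc.at_triv, if_neg hne] at hd
    norm_num at hd
    rcases hd with e | e
    · have := hq1 i; rw [e] at this; norm_num at this
    · have := hq1 j; rw [← hij, e] at this; norm_num at this
  refine h.frame_of_coords ⟨h1, h2, h3⟩ hfc (slot := slot1) (c := cc1) (tA := tA1) (tgt := tgt1)
    (by decide) (by decide +kernel) (by decide +kernel) (by decide +kernel) (by decide +kernel) solve1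
    (g := Sum.elim (fun _ => triv G) q) (S := Sum.elim (fun _ => 1) fun i => fc i (q i))
    (Function.Injective.sumElim (fun a b _ => Subsingleton.elim a b) hqinj fun a i => (hqt i).symm)
    ?_ (x₀ := Sum.inl 0) rfl rfl rfl ?_ ?_ ?_
  · rintro (a | i)
    exacts [rfl, hq1 i]
  · rintro i (a | j)
    · simpa [cc1] using hfc.at_triv i
    · by_cases hji : j = i
      · subst hji; simp
      · simp [hji, hqz i _ (hqt j) fun e => hji (hqinj e)]
  · intro i χ hχ
    exact hqz i χ (Ne.symm (hχ (Sum.inl 0))) (Ne.symm (hχ (Sum.inr i)))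
  · rintro (a | i)
    · exact h.triv_A0
    · exact hfc.supp i _ fun e => by
        have := hq1 i; rw [show fc i (q i) = 0 from e] at this; norm_num at this

theorem frame2 (h : Cen M P z 2) : ∃ r : Fin 4 → ↥(P : Subgroup G), Reps P z r ∧
    ∃ f s, Frame h model2 r f s := by
  classical
  obtain ⟨n, r, hn, h1, h2, h3⟩ := h.set.exists_reps
  obtain rfl : n = 4 := by omega
  refine ⟨r, ⟨h1, h2, h3⟩, ?_⟩
  obtain ⟨fc, hfc⟩ := h.exists_coords (r := r) ⟨h1, h2, h3⟩
  obtain ⟨c, δ, q, hδ, hqinj, hqc, hc, hq1, hqz⟩ :=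
    exists_center (m := 0) (fun i χ => if χ = triv G then 0 else fc i χ) fun i j => by
      have hd : dot (fun χ => if χ = triv G then 0 else fc i χ)
          (fun χ => if χ = triv G then 0 else fc j χ) = dot (fc i) (fc j) - 1 := by
        rw [eq_sub_iff_add_eq, dot, dot, ← Finset.add_sum_erase _ _ (Finset.mem_univ (triv G)),
          if_pos rfl, zero_mul, zero_add,
          ← Finset.add_sum_erase _ (fun χ => fc i χ * fc j χ) (Finset.mem_univ (triv G)),
          hfc.at_triv, hfc.at_triv, add_comm]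
        refine congrArg₂ (· + ·) (by norm_num) (Finset.sum_congr rfl fun χ hχ => ?_)
        rw [if_neg (Finset.mem_erase.mp hχ).1, if_neg (Finset.mem_erase.mp hχ).1]
      rw [hd, hfc.gram]
      split_ifs <;> norm_num
  have hct : c ≠ triv G := fun e => by
    have := hc 0
    rw [if_pos e] at this
    rw [← this] at hδ
    exact zero_ne_one hδ
  replace hc : ∀ i, fc i c = δ := fun i => by simpa [hct] using hc i
  have hqt : ∀ i, q i ≠ triv G := fun i e => by
    have := hq1 i
    rw [if_pos e] at this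
    exact zero_ne_one this
  replace hq1 : ∀ i, fc i (q i) * fc i (q i) = 1 := fun i => by simpa [hqt i] using hq1 i
  have hz : ∀ i χ, χ ≠ triv G → χ ≠ c → χ ≠ q i → fc i χ = 0 := fun i χ x1 x2 x3 => by
    simpa [x1] using hqz i χ x2 x3
  refine h.frame_of_coords ⟨h1, h2, h3⟩ hfc (slot := slot2) (c := cc2) (tA := tA2) (tgt := tgt2)
    (by decide) (by decide +kernel) (by decide +kernel) (by decide +kernel) (by decide +kernel) solve2
    (g := Sum.elim ![triv G, c] q) (S := Sum.elim ![1, -δ] fun i => fc i (q i))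
    ?_ ?_ (x₀ := Sum.inl 0) rfl rfl rfl ?_ ?_ ?_
  · refine Function.Injective.sumElim ?_ hqinj fun a i => ?_
    · intro a b hab
      fin_cases a <;> fin_cases b <;> simp_all [eq_comm]
    · fin_cases a
      exacts [(hqt i).symm, (hqc i).symm]
  · rintro (a | i)
    · fin_cases a
      exacts [rfl, by simpa using hδ]
    · exact hq1 i
  · rintro i (a | j)
    · fin_cases a
      · simpa [cc2] using hfc.at_triv i
      · simpa [cc2] using hc i
    · by_cases hji : j = i
      · subst hji; simp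
      · simp [hji, hz i _ (hqt j) (hqc j) fun e => hji (hqinj e)]
  · intro i χ hχ
    exact hz i χ (Ne.symm (hχ (Sum.inl 0))) (Ne.symm (hχ (Sum.inl 1))) (Ne.symm (hχ (Sum.inr i)))
  · rintro (a | i)
    · fin_cases a
      · exact h.triv_A0
      · exact hfc.supp 0 _ fun e => by
          rw [← hc 0, show fc 0 c = 0 from e] at hδ; exact zero_ne_one hδ
    · exact hfc.supp i _ fun e => by
        have := hq1 i; rw [show fc i (q i) = 0 from e] at this; norm_num at this

theorem frame4 (h : Cen M P z 4) : ∃ r : Fin 2 → ↥(P : Subgroup G), Reps P z r ∧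
    ∃ f s, Frame h model4 r f s := by
  classical
  obtain ⟨n, r, hn, h1, h2, h3⟩ := h.set.exists_reps
  obtain rfl : n = 2 := by omega
  refine ⟨r, ⟨h1, h2, h3⟩, ?_⟩
  obtain ⟨fc, hfc⟩ := h.exists_coords (r := r) ⟨h1, h2, h3⟩
  have hn5 : ∀ i, dot (fc i) (fc i) = 5 := fun i => by rw [hfc.gram, if_pos rfl]; norm_num
  have h01 : dot (fc 0) (fc 1) = 4 := by rw [hfc.gram, if_neg (by decide)]; norm_num
  have hsm : ∀ i χ, fc i χ = 0 ∨ fc i χ = 1 ∨ fc i χ = -1 := by
    intro i χ
    by_cases hχ : χ = triv G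
    · exact Or.inr (Or.inr (hχ ▸ hfc.at_triv i))
    by_contra hbig
    have hinj : Function.Injective ![triv G, χ] := by
      intro a b hab
      fin_cases a <;> fin_cases b <;> simp_all [eq_comm]
    have hge := norm_ge hinj (fc i)
    simp [Fin.sum_univ_two, hfc.at_triv, hn5] at hge
    have hsq : fc i χ * fc i χ = 4 := by
      have : fc i χ ≤ 2 := by nlinarith
      have : -2 ≤ fc i χ := by nlinarith
      rcases (show fc i χ = -2 ∨ fc i χ = 2 by omega) with e | e <;> rw [e] <;> norm_num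
    have hz : ∀ y, y ≠ triv G → y ≠ χ → fc i y = 0 := fun y y1 y2 =>
      eq_zero_outside hinj (by simp [Fin.sum_univ_two, hfc.at_triv, hn5, hsq])
        fun j => by fin_cases j <;> simp [Ne.symm y1, Ne.symm y2]
    obtain ⟨j, hj⟩ : ∃ j : Fin 2, i ≠ j := ⟨i + 1, by fin_cases i <;> decide⟩
    have hd := dot_two (Ne.symm hχ) hz (fc j)
    rw [hfc.at_triv, hfc.at_triv, hfc.gram, if_neg hj] at hd
    have h2 : (2 : ℤ) ∣ fc i χ * fc j χ := by
      refine Dvd.dvd.mul_right ?_ _
      rcases (show fc i χ = -2 ∨ fc i χ = 2 from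
        (mul_self_eq_mul_self_iff.mp (show fc i χ * fc i χ = 2 * 2 by rw [hsq]; norm_num)).symm)
        with e | e <;> rw [e] <;> norm_num
    omega
  have hsq : ∀ i χ, fc i χ ≠ 0 → fc i χ * fc i χ = 1 := fun i χ hne => by
    rcases hsm i χ with e | e | e
    · exact absurd e hne
    all_goals rw [e]; norm_num
  set s : Fin 2 → Finset (IrrCharacter G) := fun i =>
    ((Finset.univ.filter fun χ => fc i χ ≠ 0)).erase (triv G) with hs
  have hmem : ∀ i χ, χ ∈ s i ↔ χ ≠ triv G ∧ fc i χ ≠ 0 := fun i χ => by simp [hs]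
  have hcard : ∀ i, (s i).card = 4 := fun i => by
    have hc := card_support_eq (hsm i)
    rw [hn5] at hc
    rw [hs]
    simp only
    rw [Finset.card_erase_of_mem (by simp [hfc.at_triv])]
    omega
  have hsum : ∑ χ ∈ s 0 ∩ s 1, fc 0 χ * fc 1 χ = 3 := by
    rw [dot, ← Finset.add_sum_erase _ _ (Finset.mem_univ (triv G)), hfc.at_triv, hfc.at_triv,
      ← Finset.sum_subset (s₁ := s 0 ∩ s 1)
        (fun χ hχ => Finset.mem_erase.mpr
          ⟨((hmem _ _).mp (Finset.mem_inter.mp hχ).1).1, Finset.mem_univ _⟩)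
        fun χ hχ hn => ?_] at h01
    · linarith
    · by_contra hne
      rw [mul_eq_zero, not_or] at hne
      exact hn (Finset.mem_inter.mpr ⟨(hmem _ _).mpr ⟨(Finset.mem_erase.mp hχ).1, hne.1⟩,
        (hmem _ _).mpr ⟨(Finset.mem_erase.mp hχ).1, hne.2⟩⟩)
  have hprod : ∀ χ ∈ s 0 ∩ s 1, fc 0 χ * fc 1 χ = 1 ∨ fc 0 χ * fc 1 χ = -1 := fun χ hχ => by
    obtain ⟨a, b⟩ := Finset.mem_inter.mp hχ
    refine mul_self_eq_one_iff.mp ?_
    linear_combination (fc 1 χ * fc 1 χ) * hsq 0 χ ((hmem _ _).mp a).2 + hsq 1 χ ((hmem _ _).mp b).2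
  have hic : (s 0 ∩ s 1).card = 3 := by
    have hle : (s 0 ∩ s 1).card ≤ 4 := hcard 0 ▸ Finset.card_le_card Finset.inter_subset_left
    have hge : (3 : ℤ) ≤ (s 0 ∩ s 1).card := by
      rw [← hsum]
      refine (Finset.sum_le_card_nsmul _ _ 1 fun χ hχ => ?_).trans_eq (nsmul_one _)
      rcases hprod χ hχ with e | e <;> omega
    have h2 : (2 : ℤ) ∣ ((s 0 ∩ s 1).card : ℤ) - 3 := by
      rw [← hsum, Finset.card_eq_sum_ones, Nat.cast_sum, ← Finset.sum_sub_distrib]
      refine Finset.dvd_sum fun χ hχ => ?_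
      rcases hprod χ hχ with e | e <;> rw [e] <;> norm_num
    omega
  obtain ⟨x1, x2, x3, x12, x13, x23, hx⟩ := Finset.card_eq_three.mp hic
  obtain ⟨a, ha⟩ := Finset.card_eq_one.mp
    (show (s 0 \ s 1).card = 1 by
      have := Finset.card_sdiff_add_card_inter (s 0) (s 1); have := hcard 0; omega)
  obtain ⟨b, hb⟩ := Finset.card_eq_one.mp
    (show (s 1 \ s 0).card = 1 by
      have := Finset.card_sdiff_add_card_inter (s 1) (s 0); have := hcard 1
      rw [Finset.inter_comm (s 1) (s 0)] at *; omega)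
  have heq : ∀ χ ∈ s 0 ∩ s 1, fc 1 χ = fc 0 χ := by
    intro χ hχ
    have h0 : ∀ y ∈ s 0 ∩ s 1, (0 : ℤ) ≤ 1 - fc 0 y * fc 1 y := fun y hy => by
      rcases hprod y hy with e | e <;> omega
    have hz := (Finset.sum_eq_zero_iff_of_nonneg h0).mp (by
      rw [Finset.sum_sub_distrib, hsum, Finset.sum_const, nsmul_one, hic]; norm_num) χ hχ
    linear_combination (-fc 1 χ) * hsq 0 χ ((hmem _ _).mp (Finset.mem_inter.mp hχ).1).2 -
      fc 0 χ * hz
  have hma : a ∈ s 0 ∧ a ∉ s 1 := Finset.mem_sdiff.mp (ha ▸ Finset.mem_singleton_self a)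
  have hmb : b ∈ s 1 ∧ b ∉ s 0 := Finset.mem_sdiff.mp (hb ▸ Finset.mem_singleton_self b)
  obtain ⟨m10, m11⟩ : x1 ∈ s 0 ∧ x1 ∈ s 1 := Finset.mem_inter.mp (by simp [hx])
  obtain ⟨m20, m21⟩ : x2 ∈ s 0 ∧ x2 ∈ s 1 := Finset.mem_inter.mp (by simp [hx])
  obtain ⟨m30, m31⟩ : x3 ∈ s 0 ∧ x3 ∈ s 1 := Finset.mem_inter.mp (by simp [hx])
  have hx' : ∀ χ ∈ ({x1, x2, x3} : Finset (IrrCharacter G)), fc 1 χ = fc 0 χ := hx ▸ heq
  have n1 := hx' x1 (by simp)
  have n2 := hx' x2 (by simp)
  have n3 := hx' x3 (by simp)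
  have hout : ∀ i χ, χ ∈ s i → χ = x1 ∨ χ = x2 ∨ χ = x3 ∨ χ = a ∨ χ = b := by
    intro i χ hχ
    by_cases h0 : χ ∈ s 0
    · by_cases h1' : χ ∈ s 1
      · have : χ ∈ ({x1, x2, x3} : Finset (IrrCharacter G)) := hx ▸ Finset.mem_inter.mpr ⟨h0, h1'⟩
        simp at this; tauto
      · have : χ ∈ ({a} : Finset (IrrCharacter G)) := ha ▸ Finset.mem_sdiff.mpr ⟨h0, h1'⟩
        simp at this; tauto
    · have h1' : χ ∈ s 1 := by fin_cases i; exacts [absurd hχ h0, hχ]
      have : χ ∈ ({b} : Finset (IrrCharacter G)) := hb ▸ Finset.mem_sdiff.mpr ⟨h1', h0⟩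
      simp at this; tauto
  have ha1 : fc 1 a = 0 := by
    by_contra hne; exact hma.2 ((hmem _ _).mpr ⟨((hmem _ _).mp hma.1).1, hne⟩)
  have hb0 : fc 0 b = 0 := by
    by_contra hne; exact hmb.2 ((hmem _ _).mpr ⟨((hmem _ _).mp hmb.1).1, hne⟩)
  obtain ⟨ta, fa⟩ := (hmem _ _).mp hma.1
  obtain ⟨tb, fb⟩ := (hmem _ _).mp hmb.1
  obtain ⟨t1, f1⟩ := (hmem _ _).mp m10
  obtain ⟨t2, f2⟩ := (hmem _ _).mp m20
  obtain ⟨t3, f3⟩ := (hmem _ _).mp m30
  have a1 : a ≠ x1 := fun e => hma.2 (e ▸ m11)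
  have a2 : a ≠ x2 := fun e => hma.2 (e ▸ m21)
  have a3 : a ≠ x3 := fun e => hma.2 (e ▸ m31)
  have b1 : b ≠ x1 := fun e => hmb.2 (e ▸ m10)
  have b2 : b ≠ x2 := fun e => hmb.2 (e ▸ m20)
  have b3 : b ≠ x3 := fun e => hmb.2 (e ▸ m30)
  have ab : a ≠ b := fun e => hmb.2 (e ▸ hma.1)
  refine h.frame_of_coords ⟨h1, h2, h3⟩ hfc (slot := slot4) (c := cc4) (tA := tA4) (tgt := tgt4)
    (by decide) (by decide +kernel) (by decide +kernel) (by decide +kernel) (by decide +kernel) solve4
    (g := Sum.elim ![triv G, x1, x2, x3] ![a, b])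
    (S := Sum.elim ![1, -fc 0 x1, -fc 0 x2, -fc 0 x3] ![fc 0 a, fc 1 b])
    ?_ ?_ (x₀ := Sum.inl 0) rfl rfl rfl ?_ ?_ ?_
  · rintro (i | i) (j | j) hij <;> fin_cases i <;> fin_cases j <;> simp_all [eq_comm]
  · rintro (i | i) <;> fin_cases i <;>
      simp [hsq 0 a fa, hsq 1 b fb, hsq 0 _ f1, hsq 0 _ f2, hsq 0 _ f3]
  · rintro i (j | j) <;> fin_cases i <;> fin_cases j <;>
      simp [cc4, hfc.at_triv, ha1, hb0, n1, n2, n3]
  · intro i χ hχ
    by_contra hne
    have := hout i χ ((hmem _ _).mpr ⟨Ne.symm (hχ (Sum.inl 0)), hne⟩)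
    rcases this with e | e | e | e | e
    exacts [hχ (Sum.inl 1) e.symm, hχ (Sum.inl 2) e.symm, hχ (Sum.inl 3) e.symm,
      hχ (Sum.inr 0) e.symm, hχ (Sum.inr 1) e.symm]
  · rintro (i | i) <;> fin_cases i
    exacts [h.triv_A0, hfc.supp 0 _ f1, hfc.supp 0 _ f2, hfc.supp 0 _ f3, hfc.supp 0 _ fa,
      hfc.supp 1 _ fb]

theorem frame8 (h : Cen M P z 8) : ∃ r : Fin 1 → ↥(P : Subgroup G), Reps P z r ∧
    ∃ f s, Frame h model8 r f s := by
  classical
  obtain ⟨n, r, hn, h1, h2, h3⟩ := h.set.exists_reps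
  obtain rfl : n = 1 := by omega
  refine ⟨r, ⟨h1, h2, h3⟩, ?_⟩
  obtain ⟨fc, hfc⟩ := h.exists_coords (r := r) ⟨h1, h2, h3⟩
  set u := fc 0 with hu
  have h9 : dot u u = 9 := by rw [hu, hfc.gram, if_pos rfl]; norm_num
  have hval : ∀ χ, u χ * u χ = 0 ∨ u χ * u χ = 1 ∨ u χ * u χ = 4 := by
    intro χ
    by_cases hχ : χ = triv G
    · exact Or.inr (Or.inl (by rw [hχ, hu, hfc.at_triv]; norm_num))
    have hinj : Function.Injective ![triv G, χ] := by
      intro a b hab
      fin_cases a <;> fin_cases b <;> simp_all [eq_comm]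
    have hge := norm_ge hinj u
    simp [Fin.sum_univ_two, hu, hfc.at_triv] at hge
    rw [← hu, h9] at hge
    have : u χ ≤ 2 := by nlinarith
    have : -2 ≤ u χ := by nlinarith
    rcases (show u χ = -2 ∨ u χ = -1 ∨ u χ = 0 ∨ u χ = 1 ∨ u χ = 2 by omega)
      with e | e | e | e | e <;> rw [e] <;> norm_num
  set O := Finset.univ.filter fun χ => u χ * u χ = 1 with hO
  set T := Finset.univ.filter fun χ => u χ * u χ = 4 with hT
  have hcount : (O.card : ℤ) + 4 * T.card = 9 := by
    rw [← h9, dot, hO, hT, Finset.natCast_card_filter, Finset.natCast_card_filter, Finset.mul_sum,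
      ← Finset.sum_add_distrib]
    refine Finset.sum_congr rfl fun χ _ => ?_
    rcases hval χ with e | e | e <;> simp [e]
  have htO : triv G ∈ O := by simp [hO, hu, hfc.at_triv]
  have hO1 : 1 ≤ O.card := Finset.card_pos.mpr ⟨_, htO⟩
  have hclass : ∀ χ, u χ ≠ 0 → χ ∈ O ∨ χ ∈ T := fun χ hne => by
    rcases hval χ with e | e | e
    · exact absurd (mul_self_eq_zero.mp e) hne
    · exact Or.inl (by simp [hO, e])
    · exact Or.inr (by simp [hT, e])
  rcases (show T.card = 0 ∨ T.card = 1 ∨ T.card = 2 by omega) with hT0 | hT1 | hT2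
  · -- eight further characters of coefficient one
    exfalso
    have hO9 : (O.erase (triv G)).card = 8 := by rw [Finset.card_erase_of_mem htO]; omega
    let q : Fin 8 → IrrCharacter G := fun a => ((O.erase (triv G)).equivFinOfCardEq hO9).symm a
    have hqmem : ∀ a, q a ∈ O.erase (triv G) := fun a => Subtype.coe_prop _
    have hqinj : Function.Injective q := fun a b e =>
      ((O.erase (triv G)).equivFinOfCardEq hO9).symm.injective (Subtype.ext e)
    have hqsurj : ∀ χ ∈ O.erase (triv G), ∃ a, q a = χ := fun χ hχ =>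
      ⟨(O.erase (triv G)).equivFinOfCardEq hO9 ⟨χ, hχ⟩, by simp [q]⟩
    have hqt : ∀ a, q a ≠ triv G := fun a => (Finset.mem_erase.mp (hqmem a)).1
    have hq1 : ∀ a, u (q a) * u (q a) = 1 := fun a => by
      simpa [hO] using (Finset.mem_erase.mp (hqmem a)).2
    let g : Fin 8 ⊕ Fin 1 → IrrCharacter G := Sum.elim q fun _ => triv G
    have hg : Function.Injective g :=
      Function.Injective.sumElim hqinj (fun a b _ => Subsingleton.elim a b) fun a _ => hqt a
    have hcov : ∀ χ, χ ∈ APart M z 0 ↔ ∃ x, g x = χ := by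
      intro χ
      constructor
      · intro hχ
        obtain ⟨i, hi⟩ := hfc.meet χ hχ
        fin_cases i
        by_cases hχt : χ = triv G
        · exact ⟨Sum.inr 0, hχt.symm⟩
        · rcases hclass χ hi with hm | hm
          · obtain ⟨a, rfl⟩ := hqsurj χ (Finset.mem_erase.mpr ⟨hχt, hm⟩)
            exact ⟨Sum.inl a, rfl⟩
          · rw [Finset.card_eq_zero.mp hT0] at hm; simp at hm
      · rintro ⟨a | a, rfl⟩
        · exact hfc.supp 0 _ fun e => by
            have := hq1 a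
            rw [show u (q a) = 0 from e] at this
            norm_num at this
        · exact h.triv_A0
    have hl8 : Nat.card (APart M z 1) = 8 := by
      have := h.card_A1 (n := 1) h1 h2 h3 hg hcov
      simpa using this
    have hreg : ∀ v : G, ¬ 3 ∣ orderOf v → (triv G : G → ℂ) v = ∑ a, (u (q a) : ℂ) * (q a : G → ℂ) v := by
      intro v hv
      have e1 := congrFun (hfc.expand 0) v
      rw [(h.orbL_adm (h1 0)).reg v hv, Finset.sum_apply,
        ← Finset.sum_subset (Finset.subset_univ (Finset.univ.image g)) fun χ _ hχ => ?_,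
        Finset.sum_image hg.injOn, Fintype.sum_sum_type, Fin.sum_univ_one] at e1
      · simp only [g, Sum.elim_inl, Sum.elim_inr, Pi.smul_apply, smul_eq_mul, hfc.at_triv] at e1
        simp only [hu]
        push_cast at e1
        linear_combination e1
      · have : fc 0 χ = 0 := by
          by_contra hne
          obtain ⟨x, hx⟩ := (hcov χ).mp (hfc.supp 0 χ hne)
          exact hχ (Finset.mem_image.mpr ⟨x, Finset.mem_univ _, hx⟩)
        simp [this]
    let D : IrrCharacter G → Fin 8 → ℤ := fun χ a =>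
      if χ = triv G then u (q a) else if χ = q a then 1 else 0
    obtain ⟨ζ, N, -, -, -, hNN⟩ := h.exists_N hl8 q (fun a => (hcov _).mpr ⟨Sum.inl a, rfl⟩) D
      fun χ hχ v hv => by
        obtain ⟨x | x, rfl⟩ := (hcov χ).mp hχ
        · rw [Finset.sum_eq_single x (fun b _ hb => by simp [g, D, hqt x, hqinj.eq_iff, Ne.symm hb])
            (fun hn => absurd (Finset.mem_univ x) hn)]
          simp [g, D, hqt x]
        · simp only [g, D, Sum.elim_inr, if_pos]
          exact hreg v hv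
    refine no_solve N (fun a => u (q a)) hq1 fun a b => ?_
    rw [hNN a b, show (Finset.univ : Finset (IrrCharacter G)).filter (fun s => s ∈ APart M z 0) =
      Finset.univ.image g by ext χ; simp [hcov], Finset.sum_image hg.injOn, Fintype.sum_sum_type,
      Fin.sum_univ_one]
    simp only [g, D, Sum.elim_inl, Sum.elim_inr, if_pos, if_neg (hqt _)]
    congr 1
    rw [Finset.sum_eq_single a (fun x _ hx => by simp [hqinj.eq_iff, hx])
      (fun hn => absurd (Finset.mem_univ a) hn)]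
    simp [hqinj.eq_iff]
  · obtain ⟨five, hfive⟩ := Finset.card_eq_one.mp hT1
    have hO4 : (O.erase (triv G)).card = 4 := by rw [Finset.card_erase_of_mem htO]; omega
    let q : Fin 4 → IrrCharacter G := fun a => ((O.erase (triv G)).equivFinOfCardEq hO4).symm a
    have hqmem : ∀ a, q a ∈ O.erase (triv G) := fun a => Subtype.coe_prop _
    have hqinj : Function.Injective q := fun a b e =>
      ((O.erase (triv G)).equivFinOfCardEq hO4).symm.injective (Subtype.ext e)
    have hqsurj : ∀ χ ∈ O.erase (triv G), ∃ a, q a = χ := fun χ hχ =>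
      ⟨(O.erase (triv G)).equivFinOfCardEq hO4 ⟨χ, hχ⟩, by simp [q]⟩
    have hqt : ∀ a, q a ≠ triv G := fun a => (Finset.mem_erase.mp (hqmem a)).1
    have hq1 : ∀ a, u (q a) * u (q a) = 1 := fun a => by
      simpa [hO] using (Finset.mem_erase.mp (hqmem a)).2
    have hf4 : u five * u five = 4 := by
      have : five ∈ T := hfive ▸ Finset.mem_singleton_self five
      simpa [hT] using this
    obtain ⟨σ, hσ, hσ5⟩ : ∃ σ : ℤ, σ * σ = 1 ∧ u five = -2 * σ := by
      rcases mul_self_eq_mul_self_iff.mp (show u five * u five = 2 * 2 by rw [hf4]; norm_num)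
        with e | e
      · exact ⟨-1, by norm_num, by rw [e]; norm_num⟩
      · exact ⟨1, by norm_num, by rw [e]; norm_num⟩
    have hft : five ≠ triv G := fun e => by
      rw [e, hu, hfc.at_triv] at hf4; norm_num at hf4
    have hfq : ∀ a, five ≠ q a := fun a e => by
      rw [e, hq1 a] at hf4; norm_num at hf4
    refine h.frame_of_coords ⟨h1, h2, h3⟩ hfc (slot := slot8) (c := cc8) (tA := tA8) (tgt := tgt8)
      (by decide) (by decide +kernel) (by decide +kernel) (by decide +kernel) (by decide +kernel) solve8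
      (g := Sum.elim ![triv G, q 0, q 1, q 2, five] fun _ => q 3)
      (S := Sum.elim ![1, -u (q 0), -u (q 1), -u (q 2), σ] fun _ => u (q 3))
      ?_ ?_ (x₀ := Sum.inl 0) rfl rfl rfl ?_ ?_ ?_
    · rintro (i | i) (j | j) hij <;> fin_cases i <;> fin_cases j <;>
        simp [hqinj.eq_iff, hfq, fun a => (hfq a).symm, hqt, fun a => (hqt a).symm, hft,
          hft.symm] at hij ⊢
    · rintro (i | i) <;> fin_cases i <;> simp [hσ, hq1]
    · rintro i (j | j) <;> fin_cases i <;> fin_cases j <;>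
        simp [cc8, hu, hfc.at_triv, hσ5] <;> linarith
    · intro i χ hχ
      fin_cases i
      by_contra hne
      rcases hclass χ hne with hm | hm
      · obtain ⟨a, rfl⟩ := hqsurj χ (Finset.mem_erase.mpr ⟨Ne.symm (hχ (Sum.inl 0)), hm⟩)
        fin_cases a
        exacts [hχ (Sum.inl 1) rfl, hχ (Sum.inl 2) rfl, hχ (Sum.inl 3) rfl, hχ (Sum.inr 0) rfl]
      · rw [hfive, Finset.mem_singleton] at hm
        exact hχ (Sum.inl 4) hm.symm
    · have hu0 : ∀ a, q a ∈ APart M z 0 := fun a => hfc.supp 0 _ fun e => by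
        have := hq1 a
        rw [show u (q a) = 0 from e] at this
        norm_num at this
      rintro (i | i) <;> fin_cases i
      exacts [h.triv_A0, hu0 0, hu0 1, hu0 2, hfc.supp 0 _ fun e => by
        rw [show u five = 0 from e] at hf4; norm_num at hf4, hu0 3]
  · -- parity of the degrees
    exfalso
    have hO' : O = {triv G} := by
      refine Finset.eq_singleton_iff_unique_mem.mpr ⟨htO, fun χ hχ => ?_⟩
      exact Finset.card_le_one.mp (by omega) χ hχ _ htO
    choose d hd using fun χ : IrrCharacter G => charOne_eq_natCast (irr_isCharacter χ.2)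
    have e1 := congrFun (hfc.expand 0) 1
    rw [(h.orbL_adm (h1 0)).reg 1 (by simp), Finset.sum_apply] at e1
    simp only [Pi.smul_apply, smul_eq_mul, hd] at e1
    have e2 : ∑ χ, u χ * (d χ : ℤ) = 0 := by exact_mod_cast e1.symm
    rw [← Finset.add_sum_erase _ _ (Finset.mem_univ (triv G))] at e2
    have hd1 : d (triv G) = 1 := by
      have := hd (triv G)
      rw [triv_apply] at this
      exact_mod_cast this.symm
    have h2' : (2 : ℤ) ∣ ∑ χ ∈ Finset.univ.erase (triv G), u χ * (d χ : ℤ) := by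
      refine Finset.dvd_sum fun χ hχ => Dvd.dvd.mul_right ?_ _
      rcases hval χ with e | e | e
      · rw [mul_self_eq_zero.mp e]; exact dvd_zero _
      · have : χ ∈ O := by simp [hO, e]
        rw [hO', Finset.mem_singleton] at this
        exact absurd this (Finset.mem_erase.mp hχ).1
      · rcases mul_self_eq_mul_self_iff.mp (show u χ * u χ = 2 * 2 by rw [e]; norm_num)
          with e' | e' <;> rw [e'] <;> norm_num
    rw [hd1, show u (triv G) = -1 from hfc.at_triv 0] at e2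
    omega

end Cen

end Cfsg.Agent.Char.X27
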