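import Cfsg.Agent.Lib.Char.X27.Pairing
import Cfsg.Agent.Lib.Char.GaloisConj
import Cfsg.Agent.Lib.Char.Coherence

/-!
# The principal block when the centre of the Sylow subgroup is central
-/

set_option autoImplicit false
set_option linter.unusedSectionVars false
set_option linter.style.haveILetI false

namespace Cfsg.Agent.Char.X27

open Cfsg Module
open scoped ComplexConjugate

universe u

variable {G : Type u} [Group G] [Fintype G] [Fact (Nat.Prime 3)]

/-- The setting with `z` central. -/
structure Cen (M : Ideal AlgInt) (P : Sylow 3 G) (z : G) (e : ℕ) : Prop where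
  set : Setting P z e
  hz : ∀ g, z * g = g * z
  hM : IsPModular 3 M

/-- The trivial character. -/
noncomputable def triv (G : Type u) [Group G] [Fintype G] : IrrCharacter G :=
  ⟨fun _ => 1, isIrrCharacter_one⟩

theorem triv_apply (g : G) : (triv G : G → ℂ) g = 1 := rfl

theorem triv_mem (M : Ideal AlgInt) (hM : IsPModular 3 M) : triv G ∈ principalBlock M G :=
  self_mem_blockOf (pmod_prime hM) (triv G)

/-- An irreducible character other than the trivial one in the principal block has non-zero sum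
over the regular elements. -/
theorem sum_regular_ne {M : Ideal AlgInt} (hM : IsPModular 3 M) {χ : IrrCharacter G}
    (hχ : χ ∈ principalBlock M G) : einner 3 (χ : G → ℂ) (triv G : G → ℂ) ≠ 0 := by
  intro h0
  refine (lam_regInd_unit_iff hM χ).mpr hχ ?_
  have hsum : ∑ x : G, (regInd 3 : G → ℂ) x * (χ : G → ℂ) x = 0 := by
    simp only [einner, classInner, triv_apply, Pi.mul_apply, map_one, mul_one, mul_eq_zero,
      inv_eq_zero, Nat.cast_eq_zero, Nat.card_pos.ne', false_or] at h0
    rw [← h0]
    exact Finset.sum_congr rfl fun x _ => mul_comm _ _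
  rw [lam, hsum, zero_div]
  exact memLI_zero (pmod_prime hM)

/-- The block part of a member of the block. -/
theorem blockPart_self {B : Set (IrrCharacter G)} {χ : IrrCharacter G} (hχ : χ ∈ B) :
    blockPart B (χ : G → ℂ) = (χ : G → ℂ) := by
  classical
  funext g
  rw [blockPart_eq, Finset.sum_eq_single χ]
  · rw [irr_self χ.2, one_mul]
  · intro ψ _ hne
    rw [irr_orth χ.2 ψ.2, if_neg (fun e => hne (Subtype.ext e).symm), zero_mul]
  · intro hn
    exact absurd (Finset.mem_filter.mpr ⟨Finset.mem_univ _, hχ⟩) hn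

/-- The value of the central character on `z`. -/
noncomputable def omv (z : G) (χ : IrrCharacter G) : ℂ := (χ : G → ℂ) z / (χ : G → ℂ) 1

/-- The members of the principal block with given value on `z`. -/
def APart (M : Ideal AlgInt) (z : G) (j : ℕ) : Set (IrrCharacter G) :=
  {χ | χ ∈ principalBlock M G ∧ omv z χ = om3 ^ j}

namespace Cen

variable {M : Ideal AlgInt} {P : Sylow 3 G} {z : G} {e : ℕ} (h : Cen M P z e)
include h

theorem z3 : z ^ 3 = 1 := h.set.core.cube z h.set.core.z_mem

theorem shift_val (χ : IrrCharacter G) (g : G) :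
    (χ : G → ℂ) (z * g) = omv z χ * (χ : G → ℂ) g :=
  h.set.core.center_val χ.2 h.hz g

theorem shift_pow (χ : IrrCharacter G) (a : ℕ) (g : G) :
    (χ : G → ℂ) (z ^ a * g) = omv z χ ^ a * (χ : G → ℂ) g := by
  induction a with
  | zero => simp
  | succ a ih => rw [pow_succ', mul_assoc, h.shift_val, ih, pow_succ', mul_assoc]

theorem omv_cube (χ : IrrCharacter G) : omv z χ ^ 3 = 1 := by
  have := h.shift_pow χ 3 1
  rw [h.z3, one_mul] at this
  exact (mul_eq_right₀ (irr_one_ne_zero χ.2)).mp this.symm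

theorem exists_omv (χ : IrrCharacter G) : ∃ j : Fin 3, omv z χ = om3 ^ (j : ℕ) :=
  exists_om3_pow (h.omv_cube χ)

theorem omv_triv : omv z (triv G) = 1 := by simp [omv, triv_apply]

theorem triv_A0 : triv G ∈ APart M z 0 := ⟨triv_mem M h.hM, by rw [h.omv_triv, pow_zero]⟩

theorem zp_central {t : G} (ht : t ∈ Subgroup.zpowers z) (g : G) : t * g = g * t := by
  obtain ⟨k, rfl⟩ := mem_powers_iff_mem_zpowers.mpr ht
  exact ((show Commute z g from h.hz g).pow_left k).eq

theorem sec_char {χ : IrrCharacter G} (hχ : χ ∈ principalBlock M G) : Sec P z (χ : G → ℂ) :=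
  ⟨isClassFunction_character (irr_isCharacter χ.2), fun _ hy hyn v hc hv =>
    OrderNine.principal_const_loc h.hM hχ (h.set.core.loc hy hyn)
      ⟨v, Subgroup.mem_centralizer_singleton_iff.mpr hc.eq.symm⟩
      (by rwa [Subgroup.orderOf_mk])⟩

/-- Characters with non-trivial value on `z` vanish off the centre of `P`. -/
theorem vanish {χ : IrrCharacter G} (hχ : omv z χ ≠ 1) {y : G} (hy : y ∈ (P : Subgroup G))
    (hyn : y ∉ Subgroup.zpowers z) : (χ : G → ℂ) y = 0 := by
  obtain ⟨w, -, hw⟩ := h.set.core.pre.shift hy hyn (Subgroup.mem_zpowers z)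
  have h1 : (χ : G → ℂ) (y * z) = (χ : G → ℂ) y := by
    rw [← hw]
    exact isClassFunction_character (irr_isCharacter χ.2) y w
  rw [← h.hz y, h.shift_val] at h1
  have h2 : (omv z χ - 1) * (χ : G → ℂ) y = 0 := by rw [sub_mul, h1, one_mul, sub_self]
  exact (mul_eq_zero.mp h2).resolve_left (sub_ne_zero.mpr hχ)

theorem pinv_of_cls {f : G → ℂ} (hf : IsClassFunction G f) :
    PInv P (fun y => if (y : G) ∈ Subgroup.zpowers z then 0 else f y) := by
  classical
  intro y y' hc
  obtain ⟨c, hc'⟩ := isConj_iff.mp hc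
  by_cases hy : (y : G) ∈ Subgroup.zpowers z
  · simp only [if_pos hy, if_pos ((h.set.core.pre.conj_zp y'.2 hy hc).symm ▸ hy)]
  · have hy' : (y' : G) ∉ Subgroup.zpowers z := fun hm =>
      hy ((h.set.core.pre.conj_zp y.2 hm hc.symm).symm ▸ hm)
    simp only [if_neg hy, if_neg hy']
    rw [← hc']
    exact (hf _ _).symm

open scoped _root_.Classical in
/-- The average over the non-central sections. -/
noncomputable def xsum (_h : Cen M P z e) (f : G → ℂ) : ℂ :=
  (27 * e : ℂ)⁻¹ * ∑ y : ↥(P : Subgroup G), if (y : G) ∈ Subgroup.zpowers z then 0 else f y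

/-- The average over the regular elements. -/
noncomputable def rsum (_h : Cen M P z e) (f : G → ℂ) : ℂ := classInner (f * regInd 3) fun _ => 1

open scoped _root_.Classical in
/-- The average of a function constant on the non-central sections. -/
theorem avg_split {f : G → ℂ} (hf : Sec P z f) :
    (Nat.card G : ℂ)⁻¹ * ∑ g : G, f g =
      h.rsum f + h.rsum (fun g => f (z * g)) + h.rsum (fun g => f (z ^ 2 * g)) + h.xsum f := by
  rw [h.set.avg_eq hf, xsum, Finset.mul_sum]
  have hterm : ∀ t : G, t ∈ Subgroup.zpowers z →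
      (Nat.card (Subgroup.centralizer ({t} : Set G)) : ℂ)⁻¹ *
        ∑ v : Subgroup.centralizer ({t} : Set G) with ¬ 3 ∣ orderOf v, f (t * (v : G)) =
      h.rsum fun g => f (t * g) := by
    intro t ht
    have hall : ∀ g : G, g ∈ Subgroup.centralizer ({t} : Set G) := fun g =>
      Subgroup.mem_centralizer_singleton_iff.mpr (h.zp_central ht g).symm
    let φ : Subgroup.centralizer ({t} : Set G) ≃ G :=
      ⟨Subtype.val, fun g => ⟨g, hall g⟩, fun _ => rfl, fun _ => rfl⟩
    rw [Nat.card_congr φ, rsum, classInner]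
    congr 1
    rw [Finset.sum_filter]
    refine Fintype.sum_equiv φ _ _ fun v => ?_
    show _ = f (t * (v : G)) * regInd 3 (v : G) * conj (1 : ℂ)
    rw [regInd, Subgroup.orderOf_coe, map_one, mul_one]
    by_cases hv : 3 ∣ orderOf v <;> simp [hv]
  rw [Finset.sum_congr rfl (g := fun y : ↥(P : Subgroup G) =>
    (if (y : G) ∈ Subgroup.zpowers z then h.rsum (fun g => f ((y : G) * g)) else 0) +
      (27 * e : ℂ)⁻¹ * (if (y : G) ∈ Subgroup.zpowers z then 0 else f y)) fun y _ => ?_]
  swap
  · split_ifs with hy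
    · rw [hterm _ hy, mul_zero, add_zero]
    · rw [zero_add]; ring
  rw [Finset.sum_add_distrib]
  congr 1
  obtain ⟨hne1, hne2⟩ := h.set.core.z_sq_ne
  rw [← Finset.sum_filter,
    show (Finset.univ.filter fun y : ↥(P : Subgroup G) => (y : G) ∈ Subgroup.zpowers z) =
      {1, ⟨z, h.set.core.z_mem⟩, ⟨z ^ 2, pow_mem h.set.core.z_mem 2⟩} from ?_,
    Finset.sum_insert, Finset.sum_insert, Finset.sum_singleton]
  · simp [add_assoc]
  · simp [Subtype.ext_iff, Ne.symm hne1]
  · simp [Subtype.ext_iff, Ne.symm h.set.core.z_ne, Ne.symm hne2]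
  · ext y
    simp only [Finset.mem_filter, Finset.mem_univ, true_and, Finset.mem_insert,
      Finset.mem_singleton, h.set.core.pre.mem_zp, Subtype.ext_iff, OneMemClass.coe_one]

/-- Inner products in the principal block. -/
theorem inner_eq {χ ψ : IrrCharacter G} (hχ : χ ∈ principalBlock M G)
    (hψ : ψ ∈ principalBlock M G) :
    classInner (χ : G → ℂ) (ψ : G → ℂ) =
      (1 + omv z χ * conj (omv z ψ) + (omv z χ * conj (omv z ψ)) ^ 2) *
        einner 3 (χ : G → ℂ) (ψ : G → ℂ) +
      h.xsum (fun g => (χ : G → ℂ) g * conj ((ψ : G → ℂ) g)) := by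
  have hs : Sec P z fun g => (χ : G → ℂ) g * conj ((ψ : G → ℂ) g) :=
    ⟨fun g k => by simp [(h.sec_char hχ).cls g k, (h.sec_char hψ).cls g k],
      fun y hy hyn v hc hv => by
        simp [(h.sec_char hχ).sec y hy hyn v hc hv, (h.sec_char hψ).sec y hy hyn v hc hv]⟩
  have hr : ∀ a : ℕ, h.rsum (fun g => (χ : G → ℂ) (z ^ a * g) * conj ((ψ : G → ℂ) (z ^ a * g))) =
      (omv z χ * conj (omv z ψ)) ^ a * einner 3 (χ : G → ℂ) (ψ : G → ℂ) := by
    intro a
    simp only [rsum, einner, classInner, Pi.mul_apply, h.shift_pow, Finset.mul_sum, map_mul, map_pow,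
      map_one, mul_one]
    exact Finset.sum_congr rfl fun g _ => by ring
  rw [classInner, h.avg_split hs]
  have h0 := hr 0
  have h1 := hr 1
  have h2 := hr 2
  simp only [pow_zero, one_mul, pow_one] at h0 h1
  rw [h0, h1, h2]
  ring

/-- Products of the value on `z`. -/
theorem omv_mul_conj {χ ψ : IrrCharacter G} {i j : ℕ} (hχ : omv z χ = om3 ^ i)
    (hψ : omv z ψ = om3 ^ j) : omv z χ * conj (omv z ψ) = om3 ^ (i + 2 * j) := by
  rw [hχ, hψ, map_pow, conj_om3, ← pow_mul, ← pow_add]

/-- The characters with non-trivial value on `z` are orthonormal on the regular elements. -/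
theorem einner_twisted {j : ℕ} (hj : om3 ^ j ≠ 1) {χ ψ : IrrCharacter G} (hχ : χ ∈ APart M z j)
    (hψ : ψ ∈ APart M z j) :
    3 * einner 3 (χ : G → ℂ) (ψ : G → ℂ) = classInner (χ : G → ℂ) (ψ : G → ℂ) := by
  classical
  rw [h.inner_eq hχ.1 hψ.1, h.omv_mul_conj hχ.2 hψ.2, om3_pow_sum, if_pos (by omega), xsum,
    Finset.sum_eq_zero, mul_zero, add_zero]
  intro y _
  split_ifs with hy
  · rfl
  · rw [h.vanish (by rw [hχ.2]; exact hj) y.2 hy, zero_mul]

/-- A function with eigenvalue `w` for `z` only meets characters with that value. -/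
theorem coef_eigen {f : G → ℂ} {w : ℂ} (hf : ∀ g, f (z * g) = w * f g) {χ : IrrCharacter G}
    (hχ : w * conj (omv z χ) ≠ 1) : classInner f (χ : G → ℂ) = 0 := by
  have h1 : classInner f (χ : G → ℂ) = w * conj (omv z χ) * classInner f (χ : G → ℂ) := by
    conv_lhs => rw [classInner, ← Equiv.sum_comp (Equiv.mulLeft z)]
    simp only [classInner, Equiv.coe_mulLeft, hf, h.shift_val, map_mul, Finset.mul_sum]
    exact Finset.sum_congr rfl fun g _ => by ring
  have h2 : (1 - w * conj (omv z χ)) * classInner f (χ : G → ℂ) = 0 := by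
    rw [sub_mul, ← h1, one_mul, sub_self]
  exact (mul_eq_zero.mp h2).resolve_left (sub_ne_zero.mpr hχ.symm)

theorem coef_eigen_pow {f : G → ℂ} {j : ℕ} (hf : ∀ g, f (z * g) = om3 ^ j * f g)
    {χ : IrrCharacter G} (hχ : omv z χ ≠ om3 ^ j) : classInner f (χ : G → ℂ) = 0 := by
  refine h.coef_eigen hf fun h1 => hχ ?_
  have hn : ‖omv z χ‖ = 1 := Complex.norm_eq_one_of_pow_eq_one (h.omv_cube χ) (by norm_num)
  rw [← Complex.inv_eq_conj hn, ← div_eq_mul_inv,
    div_eq_one_iff_eq (fun e => by simp [e] at hn)] at h1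
  exact h1.symm

open scoped _root_.Classical in
/-- Twisting by a power of the character of the centre. -/
noncomputable def twist (_h : Cen M P z e) (j : ℕ) (f : G → ℂ) : G → ℂ := fun g =>
  if ppt 3 g ∈ Subgroup.zpowers z then zc z (ppt 3 g) ^ j * f (preg 3 g) else 0

theorem twist_val (j : ℕ) (f : G → ℂ) {t v : G} (ht : t ∈ Subgroup.zpowers z)
    (hv : ¬ 3 ∣ orderOf v) : h.twist j f (t * v) = zc z t ^ j * f v := by
  have hc : Commute t v := h.zp_central ht v
  have hk := OrderNine.ppower (P := P) (h.set.core.pre.zp_le ht)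
  rw [twist, ppt_mul Nat.prime_three hc hk hv, preg_of_mul Nat.prime_three hc hk hv, if_pos ht]

theorem twist_reg (j : ℕ) (f : G → ℂ) {v : G} (hv : ¬ 3 ∣ orderOf v) : h.twist j f v = f v := by
  have := h.twist_val j f (one_mem _) hv
  rwa [one_mul, h.set.core.zc_one, one_pow, one_mul] at this

theorem preg_shift {t : G} (ht : t ∈ Subgroup.zpowers z) (g : G) :
    ppt 3 (t * g) = t * ppt 3 g ∧ preg 3 (t * g) = preg 3 g := by
  obtain ⟨w, hw, hc, ⟨k, hk⟩, hr⟩ := isPPart_ppt Nat.prime_three g
  have hc2 : Commute (t * ppt 3 g) w :=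
    (show Commute t w from h.zp_central ht w).mul_left hc
  obtain ⟨m, hm⟩ := OrderNine.ppower (P := P) (h.set.core.pre.zp_le ht)
  have hd := (show Commute t (ppt 3 g) from h.zp_central ht _).orderOf_mul_dvd_mul_orderOf
  rw [hm, hk, ← pow_add] at hd
  obtain ⟨i, -, hi⟩ := (Nat.dvd_prime_pow Nat.prime_three).mp hd
  have e1 : t * g = t * ppt 3 g * w := by rw [mul_assoc, hw]
  refine ⟨by rw [e1, ppt_mul Nat.prime_three hc2 ⟨i, hi⟩ hr],
    by rw [e1, preg_of_mul Nat.prime_three hc2 ⟨i, hi⟩ hr, ← preg_of_mul Nat.prime_three hc ⟨k, hk⟩ hr, hw]⟩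

theorem twist_eigen (j : ℕ) (f : G → ℂ) (g : G) :
    h.twist j f (z * g) = om3 ^ j * h.twist j f g := by
  obtain ⟨h1, h2⟩ := h.preg_shift (Subgroup.mem_zpowers z) g
  simp only [twist, h1, h2, Subgroup.mul_mem_cancel_left _ (Subgroup.mem_zpowers z)]
  split_ifs with hg
  · rw [h.set.core.zc_mul (Subgroup.mem_zpowers z) hg, mul_pow, mul_assoc]
    congr 2
    have := h.set.core.zc_pow 1
    rwa [pow_one, pow_one] at this
  · rw [mul_zero]

theorem twist_sec (j : ℕ) {f : G → ℂ} (hf : IsClassFunction G f) : Sec P z (h.twist j f) := by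
  refine ⟨fun g k => ?_, fun y hy hyn v hc hv => ?_⟩
  · simp only [twist, ppt_conj Nat.prime_three, preg_conj Nat.prime_three, hf]
    by_cases hg : ppt 3 g ∈ Subgroup.zpowers z
    · rw [← h.zp_central hg k, mul_inv_cancel_right, hf (preg 3 g) k]
    · have hk : k * ppt 3 g * k⁻¹ ∉ Subgroup.zpowers z := fun hm => hg (by
        have e1 := h.zp_central hm k
        rw [inv_mul_cancel_right] at e1
        rwa [mul_left_cancel e1])
      rw [if_neg hg, if_neg hk]
  · have hk := OrderNine.ppower (P := P) hy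
    rw [twist, twist, ppt_mul Nat.prime_three hc hk hv, ppt_of_ppower Nat.prime_three hk,
      if_neg hyn, if_neg hyn]

/-- The orbit functions lifted to `G`. -/
noncomputable def orbL (h : Cen M P z e) (w : ↥(P : Subgroup G)) : G → ℂ :=
  liftP P (h.set.orbF w)

theorem orbL_adm {w : ↥(P : Subgroup G)} (hw : (w : G) ∉ Subgroup.zpowers z) :
    Adm P z (h.orbL w) :=
  adm_liftP (h.set.orbF_inv w) (h.set.orbF_zp hw (one_mem _))

theorem orbL_central {w : ↥(P : Subgroup G)} (hw : (w : G) ∉ Subgroup.zpowers z) {t v : G}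
    (ht : t ∈ Subgroup.zpowers z) (hv : ¬ 3 ∣ orderOf v) : h.orbL w (t * v) = 0 := by
  rw [orbL, liftP_val (h.set.orbF_inv w) ⟨t, h.set.core.pre.zp_le ht⟩ (h.zp_central ht v) hv,
    h.set.orbF_zp hw ht]

theorem orbL_coe (w y : ↥(P : Subgroup G)) : h.orbL w y = h.set.orbF w y :=
  liftP_eq (h.set.orbF_inv w) (by rw [ppt_of_ppower Nat.prime_three (OrderNine.ppower (P := P) y.2)])

theorem orbL_gen {w : ↥(P : Subgroup G)} (hw : (w : G) ∉ Subgroup.zpowers z) :
    IsGeneralizedCharacter G (h.orbL w) :=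
  isGen_liftP (h.set.orbF_inv w) (h.set.orbF_zp hw (one_mem _)) (h.set.orbF_gen hw)

open scoped _root_.Classical in
/-- Inner products with orbit functions. -/
theorem inner_orbL {f : G → ℂ} (hf : Sec P z f) {w : ↥(P : Subgroup G)}
    (hw : (w : G) ∉ Subgroup.zpowers z) :
    classInner f (h.orbL w) = (27 * e : ℂ)⁻¹ * ∑ y : ↥(P : Subgroup G),
      (if (y : G) ∈ Subgroup.zpowers z then 0 else f y) * conj (h.set.orbF w y) := by
  have hA := h.orbL_adm hw
  have hs : Sec P z fun g => f g * conj (h.orbL w g) :=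
    ⟨fun g k => by simp [hf.cls g k, hA.cls g k], fun y hy hyn v hc hv => by
      simp [hf.sec y hy hyn v hc hv, hA.sec y hy hyn v hc hv]⟩
  have hr : ∀ t, t ∈ Subgroup.zpowers z →
      h.rsum (fun g => f (t * g) * conj (h.orbL w (t * g))) = 0 := by
    intro t ht
    rw [rsum, classInner, Finset.sum_eq_zero, mul_zero]
    intro g _
    by_cases hg : 3 ∣ orderOf g
    · simp [regInd_of_sing hg]
    · simp [h.orbL_central hw ht hg]
  have h0 := hr 1 (one_mem _)
  simp only [one_mul] at h0
  rw [classInner, h.avg_split hs, h0, hr z (Subgroup.mem_zpowers z),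
    hr (z ^ 2) (pow_mem (Subgroup.mem_zpowers z) 2), zero_add, zero_add, zero_add, xsum]
  congr 1
  refine Finset.sum_congr rfl fun y _ => ?_
  split_ifs with hy
  · rw [zero_mul]
  · rw [h.orbL_coe]

open scoped _root_.Classical in
theorem orbL_gram {w w' : ↥(P : Subgroup G)} (hw : (w : G) ∉ Subgroup.zpowers z)
    (hw' : (w' : G) ∉ Subgroup.zpowers z) :
    classInner (h.orbL w) (h.orbL w') = e + (if pclass P w = pclass P w' then 1 else 0) := by
  rw [h.inner_orbL (h.orbL_adm hw).toSec hw', ← h.set.orbF_gram hw hw']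
  congr 1
  refine Finset.sum_congr rfl fun y _ => ?_
  split_ifs with hy
  · rw [h.set.orbF_zp hw hy]
  · rw [h.orbL_coe]

theorem orbL_triv {w : ↥(P : Subgroup G)} (hw : (w : G) ∉ Subgroup.zpowers z) :
    classInner (h.orbL w) (triv G : G → ℂ) = -1 := by
  classical
  rw [← classInner_symm, h.inner_orbL (h.sec_char (triv_mem M h.hM)) hw]
  have he : (e : ℂ) ≠ 0 := Nat.cast_ne_zero.mpr h.set.e_pos.ne'
  rw [Finset.sum_congr rfl (g := fun y : ↥(P : Subgroup G) => conj (h.set.orbF w y)) fun y _ => by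
    split_ifs with hy
    · rw [h.set.orbF_zp hw hy, map_zero, zero_mul]
    · rw [triv_apply, one_mul], ← map_sum, h.set.sum_orbF hw]
  simp [map_ofNat]
  field_simp

/-- The orbit functions only meet the part of the principal block trivial on `z`. -/
theorem orbL_mem {w : ↥(P : Subgroup G)} (hw : (w : G) ∉ Subgroup.zpowers z) {χ : IrrCharacter G}
    (hne : classInner (h.orbL w) (χ : G → ℂ) ≠ 0) : χ ∈ APart M z 0 := by
  classical
  by_cases hB : χ ∈ principalBlock M G
  · refine ⟨hB, ?_⟩
    rw [pow_zero]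
    by_contra hom
    refine hne ?_
    rw [← classInner_symm, h.inner_orbL (h.sec_char hB) hw, Finset.sum_eq_zero, mul_zero, map_zero]
    intro y _
    split_ifs with hy
    · rw [zero_mul]
    · rw [h.vanish hom y.2 hy, zero_mul]
  · refine absurd ?_ hne
    have hA := h.orbL_adm hw
    rw [classInner, OrderNine.sum_eq P (F := fun g => h.orbL w g * conj ((χ : G → ℂ) g))
      (fun g k => by simp [hA.cls g k, isClassFunction_character (irr_isCharacter χ.2) g k]),
      Finset.sum_eq_zero, mul_zero]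
    intro y _
    by_cases hy : (y : G) ∈ Subgroup.zpowers z
    · rw [Finset.sum_eq_zero, mul_zero, mul_zero]
      intro v hv
      rw [h.orbL_central hw hy (by rw [Subgroup.orderOf_coe]; exact (Finset.mem_filter.mp hv).2),
        zero_mul]
    · rw [Finset.sum_congr rfl (g := fun v : Subgroup.centralizer ({(y : G)} : Set G) =>
          h.orbL w y * conj ((χ : G → ℂ) ((y : G) * (v : G)))) fun v hv => by
        rw [hA.sec y y.2 hy v (cent_mul_comm v)
          (by rw [Subgroup.orderOf_coe]; exact (Finset.mem_filter.mp hv).2)],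
        ← Finset.mul_sum, ← map_sum,
        OrderNine.nonprincipal_sum_zero_loc h.hM hB (h.set.core.loc y.2 hy)]
      simp

open scoped _root_.Classical in
/-- A function constant on sections orthogonal to all orbit functions vanishes off the centre. -/
theorem zero_of_orth {f : G → ℂ} (hf : Sec P z f)
    (horth : ∀ w : ↥(P : Subgroup G), (w : G) ∉ Subgroup.zpowers z →
      classInner f (h.orbL w) = 0) {y : G} (hy : y ∈ (P : Subgroup G))
    (hyn : y ∉ Subgroup.zpowers z) : f y = 0 := by
  set d : ↥(P : Subgroup G) → ℂ :=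
    fun v => conj (if (v : G) ∈ Subgroup.zpowers z then 0 else f v) with hd
  have hd0 : d = 0 := by
    refine h.set.orbF_inversion ?_ (fun v hv => by simp [hd, hv]) fun w hw => ?_
    · intro a b hab
      simp only [hd]
      exact congrArg _ (h.pinv_of_cls hf.cls a b hab)
    · have h0 := horth w hw
      rw [h.inner_orbL hf hw, mul_eq_zero, inv_eq_zero, mul_eq_zero] at h0
      have h1 := h0.resolve_left (by
        rintro (h2 | h2)
        · norm_num at h2
        · exact h.set.e_pos.ne' (Nat.cast_eq_zero.mp h2))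
      have h2 := congrArg conj h1
      rw [map_sum, map_zero] at h2
      rw [← h2]
      refine Finset.sum_congr rfl fun v _ => ?_
      simp only [hd, map_mul, Complex.conj_conj]
  have h3 := congrFun hd0 ⟨y, hy⟩
  simpa [hd, hyn] using h3

/-- Regular parts of the twisted parts fill the whole block. -/
theorem blockSpan_part (j : ℕ) :
    blockSpan 3 (APart M z j) = blockSpan 3 (principalBlock M G) := by
  classical
  refine le_antisymm (Submodule.span_mono (Set.image_mono fun χ hχ => hχ.1)) ?_
  refine Submodule.span_le.mpr ?_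
  rintro _ ⟨s, hs, rfl⟩
  set θ := h.twist j (s : G → ℂ)
  have hmem : blockPart (principalBlock M G) θ ∈ charSpan (APart M z j) := by
    have e1 : blockPart (principalBlock M G) θ = ∑ χ : IrrCharacter G with χ ∈ APart M z j,
        classInner θ (χ : G → ℂ) • (χ : G → ℂ) := by
      funext g
      rw [blockPart_eq, Finset.sum_apply]
      refine (Finset.sum_subset (fun χ hχ => ?_) fun χ hχ hn => ?_).symm
      · exact Finset.mem_filter.mpr ⟨Finset.mem_univ _, ((Finset.mem_filter.mp hχ).2).1⟩
      · show classInner θ (χ : G → ℂ) * _ = 0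
        rw [h.coef_eigen_pow (h.twist_eigen j _) fun e1 => hn (Finset.mem_filter.mpr
          ⟨Finset.mem_univ _, (Finset.mem_filter.mp hχ).2, e1⟩), zero_mul]
    rw [e1]
    exact Submodule.sum_mem _ fun χ hχ => Submodule.smul_mem _ _
      (Submodule.subset_span ⟨χ, (Finset.mem_filter.mp hχ).2, rfl⟩)
  have e2 : pRegularPart 3 (s : G → ℂ) = regPartL 3 (blockPart (principalBlock M G) θ) := by
    funext g
    by_cases hg : 3 ∣ orderOf g
    · rw [regPartL_of_sing hg]; simp [pRegularPart, IsPRegular, hg]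
    · rw [regPartL_of_reg hg, blockPart_regular_congr h.hM (isPBlock_principalBlock M)
        (f' := (s : G → ℂ)) (fun c hc => h.twist_reg j _ hc) hg, blockPart_self hs]
      simp [pRegularPart, IsPRegular, hg]
  show pRegularPart 3 (s : G → ℂ) ∈ blockSpan 3 (APart M z j)
  rw [e2]
  exact (Submodule.map_span_le (regPartL 3) _ _).mpr
    (by rintro _ ⟨χ, hχ, rfl⟩; exact Submodule.subset_span ⟨χ, hχ, rfl⟩) ⟨_, hmem, rfl⟩

open scoped _root_.Classical in
/-- The part with value `ω` gives a basis of the regular parts. -/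
theorem blockRank_eq : blockRank 3 (principalBlock M G) = Nat.card (APart M z 1) := by
  show finrank ℂ (blockSpan 3 (principalBlock M G)) = _
  rw [← h.blockSpan_part 1]
  have hli : LinearIndependent ℂ
      fun χ : APart M z 1 => pRegularPart 3 ((χ : IrrCharacter G) : G → ℂ) := by
    rw [Fintype.linearIndependent_iff]
    intro c hc ψ
    have h1 := congrArg (fun f => 3 * classInner f ((ψ : IrrCharacter G) : G → ℂ)) hc
    simp only [classInner_sum_left, classInner_smul_left, Finset.mul_sum] at h1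
    rw [Finset.sum_eq_single ψ] at h1
    · rw [mul_left_comm, pRegularPart_eq_mul] at h1
      change c ψ * (3 * einner 3 _ _) = _ at h1
      rw [h.einner_twisted (by simpa using om3_ne) ψ.2 ψ.2, irr_self ψ.1.2, mul_one] at h1
      rw [h1]
      simp [classInner]
    · intro χ _ hne
      rw [mul_left_comm, pRegularPart_eq_mul]
      show c χ * (3 * einner 3 _ _) = 0
      rw [h.einner_twisted (by simpa using om3_ne) χ.2 ψ.2, irr_orth χ.1.2 ψ.1.2,
        if_neg fun e => hne (Subtype.ext (Subtype.ext e)), mul_zero]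
    · intro hn
      exact absurd (Finset.mem_univ ψ) hn
  have himg : ((fun χ : IrrCharacter G => pRegularPart 3 (χ : G → ℂ)) '' APart M z 1) =
      Set.range fun χ : APart M z 1 => pRegularPart 3 ((χ : IrrCharacter G) : G → ℂ) :=
    Set.image_eq_range _ _
  rw [blockSpan, himg, finrank_span_eq_card hli, Nat.card_eq_fintype_card]

open scoped _root_.Classical in
/-- A function of the untwisted part vanishing on regular elements vanishes on all central
sections. -/
theorem kernel_central {f : G → ℂ} (hf : f ∈ charSpan (APart M z 0)) {t v : G}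
    (ht : t ∈ Subgroup.zpowers z) : f (t * v) = f v := by
  induction hf using Submodule.span_induction with
  | mem a ha =>
    obtain ⟨χ, hχ, rfl⟩ := ha
    obtain ⟨k, rfl⟩ := mem_powers_iff_mem_zpowers.mpr ht
    show (χ : G → ℂ) (z ^ k * v) = (χ : G → ℂ) v
    rw [h.shift_pow, hχ.2, pow_zero, one_pow, one_mul]
  | zero => rfl
  | add a b _ _ ha hb => simp [ha, hb]
  | smul c a _ ha => simp [ha]

theorem charSpan_sec {B : Set (IrrCharacter G)} (hB : B ⊆ principalBlock M G) {f : G → ℂ}
    (hf : f ∈ charSpan B) : Sec P z f := by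
  refine ⟨isClassFunction_of_charSpan hf, fun y hy hyn v hc hv => ?_⟩
  induction hf using Submodule.span_induction with
  | mem a ha =>
    obtain ⟨χ, hχ, rfl⟩ := ha
    exact (h.sec_char (hB hχ)).sec y hy hyn v hc hv
  | zero => rfl
  | add a b _ _ ha hb => simp [ha, hb]
  | smul c a _ ha => simp [ha]

/-- Every element is in a central or a non-central section. -/
theorem eq_zero_of_sections {f : G → ℂ} (hf : Sec P z f)
    (h0 : ∀ t ∈ Subgroup.zpowers z, ∀ v, ¬ 3 ∣ orderOf v → f (t * v) = 0)
    (h1 : ∀ y ∈ (P : Subgroup G), y ∉ Subgroup.zpowers z → f y = 0) : f = 0 := by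
  funext g
  obtain ⟨y, hy⟩ := FrobSylow.exists_conj_ppt (P := P) g
  obtain ⟨c, hc⟩ := isConj_iff.mp hy
  rw [← hf.cls g c]
  obtain ⟨w, hw, hcm, -, hr⟩ := isPPart_ppt Nat.prime_three (c * g * c⁻¹)
  rw [ppt_conj Nat.prime_three, hc] at hw hcm
  rw [← hw]
  by_cases hyz : (y : G) ∈ Subgroup.zpowers z
  · exact h0 _ hyz w hr
  · rw [hf.sec y y.2 hyz w hcm hr]
    exact h1 _ y.2 hyz

open scoped _root_.Classical in
/-- The orbit functions are independent. -/
theorem orbL_independent {n : ℕ} {r : Fin n → ↥(P : Subgroup G)}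
    (hr : ∀ i, (r i : G) ∉ Subgroup.zpowers z)
    (hinj : ∀ i j, pclass P (r i) = pclass P (r j) → i = j) :
    LinearIndependent ℂ fun i => h.orbL (r i) := by
  rw [Fintype.linearIndependent_iff]
  intro c hc i
  have key : ∀ k, (e : ℂ) * (∑ a, c a) + c k = 0 := by
    intro k
    have h1 := congrArg (fun f => classInner f (h.orbL (r k))) hc
    simp only [classInner_sum_left, classInner_smul_left, h.orbL_gram (hr _) (hr k)] at h1
    rw [show classInner (0 : G → ℂ) (h.orbL (r k)) = 0 by simp [classInner]] at h1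
    have h2 : ∀ a, c a * ((e : ℂ) + if pclass P (r a) = pclass P (r k) then 1 else 0) =
        (e : ℂ) * c a + if a = k then c a else 0 := fun a => by
      by_cases hak : a = k
      · subst hak; simp; ring
      · rw [if_neg (fun he => hak (hinj a k he)), if_neg hak]; ring
    rw [Finset.sum_congr rfl fun a _ => h2 a, Finset.sum_add_distrib, Finset.sum_ite_eq',
      if_pos (Finset.mem_univ k), ← Finset.mul_sum] at h1
    exact h1
  have hsum : (∑ a, c a) * ((e : ℂ) * n + 1) = 0 := by
    have h2 : ∑ k : Fin n, ((e : ℂ) * (∑ a, c a) + c k) = 0 :=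
      Finset.sum_eq_zero fun k _ => key k
    rw [Finset.sum_add_distrib, Finset.sum_const, Finset.card_univ, Fintype.card_fin,
      nsmul_eq_mul] at h2
    linear_combination h2
  have hne : ((e : ℂ) * n + 1) ≠ 0 := by exact_mod_cast Nat.succ_ne_zero (e * n)
  have := key i
  rwa [(mul_eq_zero.mp hsum).resolve_right hne, mul_zero, zero_add] at this

open scoped _root_.Classical in
/-- The untwisted part has one character for each regular dimension and each orbit. -/
theorem card_part_zero {n : ℕ} {r : Fin n → ↥(P : Subgroup G)}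
    (hr : ∀ i, (r i : G) ∉ Subgroup.zpowers z)
    (hinj : ∀ i j, pclass P (r i) = pclass P (r j) → i = j)
    (hall : ∀ w : ↥(P : Subgroup G), (w : G) ∉ Subgroup.zpowers z →
      ∃ i, pclass P w = pclass P (r i)) :
    Nat.card (APart M z 0) = Nat.card (APart M z 1) + n := by
  rw [← h.blockRank_eq, ← finrank_charSpan (APart M z 0)]
  set V := charSpan (APart M z 0) with hV
  let L : V →ₗ[ℂ] (G → ℂ) := (regPartL 3).comp V.subtype
  have hrange : LinearMap.range L = blockSpan 3 (principalBlock M G) := by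
    rw [← h.blockSpan_part 0, LinearMap.range_comp, Submodule.range_subtype, hV, charSpan,
      blockSpan, Submodule.map_span, ← Set.image_comp]
    rfl
  rw [← LinearMap.finrank_range_add_finrank_ker L, hrange]
  congr 1
  refine le_antisymm ?_ ?_
  · let E : LinearMap.ker L →ₗ[ℂ] (Fin n → ℂ) :=
      { toFun := fun f i => classInner ((f : V) : G → ℂ) (h.orbL (r i))
        map_add' := fun f g => funext fun i => classInner_add_left _ _ _
        map_smul' := fun c f => funext fun i => classInner_smul_left _ _ _ }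
    have hE : Function.Injective E := by
      intro f g hfg
      refine Subtype.ext (Subtype.ext (sub_eq_zero.mp ?_))
      set d := ((f : V) : G → ℂ) - ((g : V) : G → ℂ) with hd
      have hdV : d ∈ charSpan (APart M z 0) := Submodule.sub_mem _ (f : V).2 (g : V).2
      have hsec := h.charSpan_sec (fun χ hχ => hχ.1) hdV
      refine h.eq_zero_of_sections hsec (fun t ht v hv => ?_) fun y hy hyn =>
        h.zero_of_orth hsec (fun w hw => ?_) hy hyn
      · rw [h.kernel_central hdV ht]
        have h1 := congrFun (LinearMap.mem_ker.mp f.2) v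
        have h2 := congrFun (LinearMap.mem_ker.mp g.2) v
        rw [show L (f : V) v = ((f : V) : G → ℂ) v from regPartL_of_reg hv _] at h1
        rw [show L (g : V) v = ((g : V) : G → ℂ) v from regPartL_of_reg hv _] at h2
        simp [hd, h1, h2]
      · obtain ⟨i, hi⟩ := hall w hw
        have e1 : h.orbL w = h.orbL (r i) := by
          have : h.set.orbF w = h.set.orbF (r i) := by
            funext v; simp only [Setting.orbF, hi]
          rw [orbL, orbL, this]
        rw [e1, hd, sub_eq_add_neg, classInner_add_left, ← neg_one_smul ℂ ((g : V) : G → ℂ),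
          classInner_smul_left, show classInner ((f : V) : G → ℂ) (h.orbL (r i)) =
            classInner ((g : V) : G → ℂ) (h.orbL (r i)) from congrFun hfg i]
        ring
    exact (LinearMap.finrank_le_finrank_of_injective hE).trans (by simp)
  · have hmem : ∀ i, h.orbL (r i) ∈ V := by
      intro i
      rw [classFun_expansion (h.orbL_adm (hr i)).cls]
      refine Submodule.sum_mem _ fun χ _ => ?_
      by_cases h0 : classInner (h.orbL (r i)) (χ : G → ℂ) = 0
      · rw [h0, zero_smul]; exact zero_mem _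
      · exact Submodule.smul_mem _ _ (Submodule.subset_span ⟨χ, h.orbL_mem (hr i) h0, rfl⟩)
    have hker : ∀ i, (⟨h.orbL (r i), hmem i⟩ : V) ∈ LinearMap.ker L := fun i => by
      rw [LinearMap.mem_ker]
      funext g
      show regPartL 3 (h.orbL (r i)) g = 0
      by_cases hg : 3 ∣ orderOf g
      · exact regPartL_of_sing hg _
      · rw [regPartL_of_reg hg, (h.orbL_adm (hr i)).reg g hg]
    have hli : LinearIndependent ℂ fun i => (⟨_, hker i⟩ : LinearMap.ker L) := by
      refine LinearIndependent.of_comp (V.subtype.comp (LinearMap.ker L).subtype) ?_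
      exact h.orbL_independent hr hinj
    simpa using hli.fintype_card_le_finrank

open scoped _root_.Classical in
/-- Every untwisted character meets an orbit function. -/
theorem exists_meet {s : IrrCharacter G} (hs : s ∈ APart M z 0) :
    ∃ w : ↥(P : Subgroup G), (w : G) ∉ Subgroup.zpowers z ∧
      classInner (h.orbL w) (s : G → ℂ) ≠ 0 := by
  by_contra hno
  push Not at hno
  have hsx : ∀ y ∈ (P : Subgroup G), y ∉ Subgroup.zpowers z → (s : G → ℂ) y = 0 :=
    fun y hy hyn => h.zero_of_orth (h.sec_char hs.1) (fun w hw => by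
      rw [← classInner_symm, hno w hw, map_zero]) hy hyn
  have hst : s ≠ triv G := by
    rintro rfl
    obtain ⟨n, r, hn, hr, -, -⟩ := h.set.exists_reps
    have hn0 : 0 < n := Nat.pos_of_ne_zero fun e0 => by simp [e0] at hn
    have := hno (r ⟨0, hn0⟩) (hr _)
    rw [h.orbL_triv (hr _)] at this
    norm_num at this
  refine sum_regular_ne h.hM hs.1 ?_
  have h1 := h.inner_eq hs.1 (triv_mem M h.hM)
  rw [irr_orth s.2 (triv G).2, if_neg fun e => hst (Subtype.ext e), h.omv_triv, hs.2, pow_zero,
    map_one, mul_one, xsum, Finset.sum_eq_zero, mul_zero, add_zero] at h1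
  · exact (mul_eq_zero.mp h1.symm).resolve_left (by norm_num)
  · intro y _
    split_ifs with hy
    · rfl
    · rw [hsx y y.2 hy, zero_mul]

/-- The Galois twist between the two twisted parts. -/
theorem exists_sigma : ∃ σ : APart M z 1 → APart M z 2, Function.Bijective σ ∧
    ∀ χ : APart M z 1, ∀ v : G, ¬ 3 ∣ orderOf v →
      (((σ χ : IrrCharacter G)) : G → ℂ) v = ((χ : IrrCharacter G) : G → ℂ) v := by
  classical
  set N := Nat.card G with hN
  set a := N.factorization 3 with ha
  set m := N / 3 ^ a with hm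
  have hN0 : N ≠ 0 := Nat.card_pos.ne'
  have hcop : Nat.Coprime (3 ^ a) m := Nat.Coprime.pow_left _
    (Nat.coprime_ordCompl Nat.prime_three hN0)
  have hmul : 3 ^ a * m = N := Nat.ordProj_mul_ordCompl_eq_self N 3
  have ha1 : 1 ≤ a := by
    refine (Nat.Prime.pow_dvd_iff_le_factorization Nat.prime_three hN0).mp ?_
    rw [pow_one, ← h.set.core.pre.ord_z]
    exact orderOf_dvd_natCard z
  obtain ⟨k, hk1, hk2⟩ := Nat.chineseRemainder hcop (3 ^ a - 1) 1
  have hk3 : k ≡ 2 [MOD 3] := by
    refine (hk1.of_dvd (dvd_pow_self 3 (by omega))).trans ?_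
    obtain ⟨b, hb⟩ := dvd_pow_self 3 (show a ≠ 0 by omega)
    have : 1 ≤ 3 ^ a := Nat.one_le_pow _ _ (by norm_num)
    unfold Nat.ModEq
    omega
  have hkN : k.Coprime N := by
    rw [← hmul]
    refine Nat.Coprime.mul_right ?_ ?_
    · refine Nat.Coprime.pow_right _ ((Nat.prime_three.coprime_iff_not_dvd.mpr fun h3 => ?_).symm)
      unfold Nat.ModEq at hk3
      omega
    · exact (hk2.gcd_eq.trans (Nat.gcd_one_left m) : Nat.gcd k m = 1)
  have hreg : ∀ v : G, ¬ 3 ∣ orderOf v → v ^ k = v := by
    intro v hv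
    have hdvd : orderOf v ∣ m := by
      refine ((Nat.prime_three.coprime_iff_not_dvd.mpr hv).pow_left a).symm.dvd_of_dvd_mul_left ?_
      rw [hmul]
      exact orderOf_dvd_natCard v
    conv_rhs => rw [← pow_one v]
    exact pow_eq_pow_iff_modEq.mpr (hk2.of_dvd hdvd)
  have hzk : z ^ k = z ^ 2 := pow_eq_pow_iff_modEq.mpr (by rw [h.set.core.pre.ord_z]; exact hk3)
  let gal : IrrCharacter G → IrrCharacter G := fun χ =>
    ⟨fun g => (χ : G → ℂ) (g ^ k), isIrrCharacter_pow χ.2 hkN⟩
  have hom : ∀ χ, omv z (gal χ) = omv z χ ^ 2 := fun χ => by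
    show (χ : G → ℂ) (z ^ k) / (χ : G → ℂ) (1 ^ k) = _
    have h2 := h.shift_pow χ 2 1
    rw [mul_one] at h2
    rw [hzk, one_pow, h2, mul_div_assoc, div_self (irr_one_ne_zero χ.2), mul_one]
  have hB : ∀ χ, χ ∈ principalBlock M G → gal χ ∈ principalBlock M G := fun χ hχ => by
    rw [← lam_regInd_unit_iff (p := 3) h.hM] at hχ ⊢
    refine fun h0 => hχ ?_
    convert h0 using 1
    simp only [lam]
    congr 1
    · refine Finset.sum_congr rfl fun x _ => ?_
      by_cases hx : 3 ∣ orderOf x
      · simp [regInd_of_sing hx]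
      · show _ = _ * (χ : G → ℂ) (x ^ k)
        rw [hreg x hx]
    · show _ = (χ : G → ℂ) (1 ^ k)
      rw [one_pow]
  have ext : ∀ χ ψ : IrrCharacter G, χ ∈ principalBlock M G → ψ ∈ principalBlock M G →
      omv z χ = omv z ψ → omv z χ ≠ 1 →
      (∀ v, ¬ 3 ∣ orderOf v → (χ : G → ℂ) v = (ψ : G → ℂ) v) → χ = ψ := by
    intro χ ψ hχ hψ ho hne hv
    refine Subtype.ext (sub_eq_zero.mp (h.eq_zero_of_sections ⟨fun g k => by
      simp [(h.sec_char hχ).cls g k, (h.sec_char hψ).cls g k], fun y hy hyn v hc hv => by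
      simp [(h.sec_char hχ).sec y hy hyn v hc hv, (h.sec_char hψ).sec y hy hyn v hc hv]⟩
      (fun t ht v hv' => ?_) fun y hy hyn => ?_))
    · obtain ⟨i, rfl⟩ := mem_powers_iff_mem_zpowers.mpr ht
      simp [h.shift_pow, ho, hv v hv']
    · simp [h.vanish hne hy hyn, h.vanish (ho ▸ hne) hy hyn]
  have h12 : (om3 ^ 2) ^ 2 = om3 := by
    rw [← pow_mul, om3_mod (2 * 2)]
    norm_num
  refine ⟨fun χ => ⟨gal χ, hB _ χ.2.1, by rw [hom, χ.2.2, pow_one]⟩, ⟨fun χ χ' he => ?_, fun ψ => ?_⟩,
    fun χ v hv => by show ((χ : IrrCharacter G) : G → ℂ) (v ^ k) = _; rw [hreg v hv]⟩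
  · refine Subtype.ext (ext _ _ χ.2.1 χ'.2.1 (by rw [χ.2.2, χ'.2.2])
      (by rw [χ.2.2, pow_one]; exact om3_ne) fun v hv => ?_)
    have := congrArg (fun s : APart M z 2 => ((s : IrrCharacter G) : G → ℂ) v) he
    simpa [gal, hreg v hv] using this
  · refine ⟨⟨gal ψ, hB _ ψ.2.1, by rw [hom, ψ.2.2, h12, pow_one]⟩, Subtype.ext ?_⟩
    refine ext _ _ (hB _ (hB _ ψ.2.1)) ψ.2.1 ?_ ?_ fun v hv => ?_
    · rw [hom, hom, ψ.2.2, h12]
    · rw [hom, hom, ψ.2.2, h12]; exact om3_sq_ne
    · show (ψ.1 : G → ℂ) ((v ^ k) ^ k) = _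
      rw [hreg v hv, hreg v hv]

end Cen

end Cfsg.Agent.Char.X27
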