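import Cfsg.Agent.Lib.Char.X27.Star

/-!
# The models are determined by their inner products
-/

set_option autoImplicit false

namespace Cfsg.Agent.Char.X27

variable {ι : Type*} [Fintype ι]

/-- All coordinates of a star. -/
def coords {m : ℕ} (p : Fin m → ι) (r : ι) (a b : Fin m → ι) :
    Fin m ⊕ Unit ⊕ Fin m ⊕ Fin m → ι :=
  Sum.elim p (Sum.elim (fun _ => r) (Sum.elim a b))

theorem coords_injective {m : ℕ} {p : Fin m → ι} {r : ι} {a b : Fin m → ι}
    (pp : ∀ i j, p i = p j → i = j) (aa : ∀ i j, a i = a j → i = j) (bb : ∀ i j, b i = b j → i = j)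
    (hr : ∀ i, r ≠ p i ∧ r ≠ a i ∧ r ≠ b i) (hpp : ∀ i j, p i ≠ a j ∧ p i ≠ b j)
    (hab : ∀ i j, a i ≠ b j) : Function.Injective (coords p r a b) := by
  rintro (i | u | i | i) (j | v | j | j) e <;> simp only [coords, Sum.elim_inl, Sum.elim_inr] at e
  · rw [pp i j e]
  · exact absurd e.symm (hr i).1
  · exact absurd e (hpp i j).1
  · exact absurd e (hpp i j).2
  · exact absurd e (hr j).1
  · rfl
  · exact absurd e (hr j).2.1
  · exact absurd e (hr j).2.2
  · exact absurd e.symm (hpp j i).1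
  · exact absurd e.symm (hr i).2.1
  · rw [aa i j e]
  · exact absurd e (hab i j)
  · exact absurd e.symm (hpp j i).2
  · exact absurd e.symm (hr i).2.2
  · exact absurd e.symm (hab j i)
  · rw [bb i j e]

/-- The norm carried by the coordinates of a star. -/
theorem coords_norm {m : ℕ} (p : Fin m → ι) (r : ι) (a b : Fin m → ι) (u : ι → ℤ) :
    ∑ x, u (coords p r a b x) * u (coords p r a b x) =
      ∑ i, u (p i) * u (p i) + (u r * u r +
        (∑ i, u (a i) * u (a i) + ∑ i, u (b i) * u (b i))) := by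
  simp [coords, Fintype.sum_sum_type]

theorem dot_outside {κ : Type*} [Fintype κ] {g : κ → ι} (hg : Function.Injective g) {u : ι → ℤ}
    (h : ∀ i, (∀ x, g x ≠ i) → u i = 0) (v : ι → ℤ) :
    dot u v = ∑ x, u (g x) * v (g x) := by
  classical
  rw [dot, ← Finset.sum_image (f := fun i => u i * v i) hg.injOn]
  refine (Finset.sum_subset (Finset.subset_univ _) fun i _ hi => ?_).symm
  rw [h i fun x e => hi (Finset.mem_image.mpr ⟨x, Finset.mem_univ _, e⟩), zero_mul]

theorem exists_outside {κ : Type*} [Fintype κ] {g : κ → ι} (hg : Function.Injective g) {u : ι → ℤ}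
    (h : ∑ x, u (g x) * u (g x) + 1 = dot u u) :
    ∃ q, (∀ x, g x ≠ q) ∧ u q * u q = 1 ∧ ∀ i, (∀ x, g x ≠ i) → i ≠ q → u i = 0 := by
  classical
  obtain ⟨q, hq, hne⟩ : ∃ q, (∀ x, g x ≠ q) ∧ u q ≠ 0 := by
    by_contra hno
    push Not at hno
    rw [dot_outside hg (u := u) (fun i hi => hno i hi)] at h
    omega
  have h1 := norm_rest hg u hq
  have h2 := mul_self_pos.mpr hne
  refine ⟨q, hq, by omega, fun i hi hiq => ?_⟩
  have hg' : Function.Injective (Sum.elim g (fun _ : Unit => q)) := by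
    rintro (x | x) (y | y) e <;> simp only [Sum.elim_inl, Sum.elim_inr] at e
    · rw [hg e]
    · exact absurd e (hq x)
    · exact absurd e.symm (hq y)
    · rfl
  refine eq_zero_outside hg' ?_ (i := i) fun x => ?_
  · simp only [Fintype.sum_sum_type, Sum.elim_inl, Sum.elim_inr, Finset.sum_const, Finset.card_univ,
      Fintype.card_unit, one_smul]
    omega
  · rcases x with x | x
    exacts [hi x, Ne.symm hiq]

theorem sq_of_mul {s x y : ℤ} (hs : s * s = 1) (h : s * x = y) : x * x = y * y := by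
  subst h
  linear_combination (-(x * x)) * hs

theorem val_of_mul {s x y : ℤ} (hs : s * s = 1) (h : s * x = y) : x = s * y := by
  subst h
  linear_combination (-x) * hs

theorem small_box {x : ℤ} (h : x * x ≤ 4) : ∃ i : Fin 5, x = ((i : ℕ) : ℤ) - 2 := by
  have h1 : x ≤ 2 := by nlinarith
  have h2 : -2 ≤ x := by nlinarith
  exact ⟨⟨(x + 2).toNat, by omega⟩, by simp; omega⟩

/-- The value of a vector orthogonal to a pair at its two points. -/
theorem Pairs.pair_val {n : ℕ} {o : ι} {W T : Fin (n + 1) → ι → ℤ} {a b : Fin (n + 1) → ι}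
    {sa sb : Fin (n + 1) → ℤ} (h : Pairs o W T a b sa sb) {u : ι → ℤ} {i : Fin (n + 1)}
    (hu : dot u (W i) = 0) : sb i * u (b i) = -(sa i * u (a i)) := by
  rw [dot_comm, h.dotW] at hu
  linarith

/-- The inner product with a vector of the star. -/
theorem star_dot {n : ℕ} {T : Fin (n + 1) → ι → ℤ} {a p : Fin (n + 1) → ι} {r : ι}
    {sa : Fin (n + 1) → ℤ} {i : Fin (n + 1)} (hTa : T i (a i) = -sa i) (hTr : T i r = T 0 r)
    (hr : r ≠ p i ∧ r ≠ a i) (hpa : p i ≠ a i)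
    (hz : ∀ x, x ≠ p i → x ≠ r → x ≠ a i → T i x = 0) (u : ι → ℤ) :
    dot u (T i) = T i (p i) * u (p i) + T 0 r * u r - sa i * u (a i) := by
  rw [dot_comm, dot_three hr.1.symm hpa hr.2 hz, hTa, hTr]
  ring

/-- The slots of a star. -/
abbrev Slot (m : ℕ) := Fin m ⊕ Unit ⊕ Fin m ⊕ Fin m

/-- The model of a difference vector on the slots. -/
def sW {m : ℕ} (i : Fin m) : Slot m → ℤ :=
  Sum.elim (fun _ => 0) (Sum.elim (fun _ => 0)
    (Sum.elim (fun k => if k = i then 1 else 0) (fun k => if k = i then -1 else 0)))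

/-- The model of a mixed vector on the slots. -/
def sT {m : ℕ} (εp : Fin m → ℤ) (εr : ℤ) (i : Fin m) : Slot m → ℤ :=
  Sum.elim (fun k => if k = i then εp k else 0) (Sum.elim (fun _ => εr)
    (Sum.elim (fun k => if k = i then -1 else 0) (fun _ => 0)))

/-- The complete description of a star. -/
structure StarData {n : ℕ} (o : ι) (W T : Fin (n + 1) → ι → ℤ) (a b : Fin (n + 1) → ι)
    (sa sb : Fin (n + 1) → ℤ) (r : ι) (p : Fin (n + 1) → ι) : Prop where
  pairs : Pairs o W T a b sa sb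
  p0 : p 0 = o
  Tr : ∀ i, T i r = T 0 r
  r2 : T 0 r * T 0 r = 1
  p2 : ∀ i, T i (p i) * T i (p i) = 1
  Tz : ∀ i x, x ≠ p i → x ≠ r → x ≠ a i → T i x = 0
  hr : ∀ i, r ≠ p i ∧ r ≠ a i ∧ r ≠ b i
  hp : ∀ i j, p i ≠ a j ∧ p i ≠ b j
  pinj : ∀ i j, p i = p j → i = j

theorem exists_starData {n : ℕ} {o : ι} {W T : Fin (n + 1) → ι → ℤ}
    {a b : Fin (n + 1) → ι} {sa sb : Fin (n + 1) → ℤ} (hP : Pairs o W T a b sa sb)
    (hTT : ∀ i j, dot (T i) (T j) = if i = j then 3 else 1)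
    (hTW : ∀ i j, dot (T i) (W j) = if i = j then -1 else 0)
    (hTo : ∀ i, T i o = if i = 0 then 1 else 0) (hexc : ∀ j, j ≠ 0 → T j (a 0) = 0) :
    ∃ r p, StarData o W T a b sa sb r p := by
  obtain ⟨r, p, hp0, hTr, hTir, hp2, hpz, hr, hpp, hpinj⟩ := hP.star hTT hTW hTo hexc
  refine ⟨r, p, hP, hp0, hTir, ?_, hp2, hpz, hr, hpp, hpinj⟩
  rcases small_entry (u := T 0) (by simp [hTT]) r with e | e | e
  exacts [absurd e hTr, by rw [e]; norm_num, by rw [e]; norm_num]

namespace StarData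

variable {n : ℕ} {o : ι} {W T : Fin (n + 1) → ι → ℤ} {a b : Fin (n + 1) → ι}
  {sa sb : Fin (n + 1) → ℤ} {r : ι} {p : Fin (n + 1) → ι} (h : StarData o W T a b sa sb r p)
include h

theorem inj : Function.Injective (coords p r a b) :=
  coords_injective h.pinj h.pairs.aa h.pairs.bb h.hr h.hp h.pairs.hab

theorem dotT (i : Fin (n + 1)) (u : ι → ℤ) :
    dot u (T i) = T i (p i) * u (p i) + T 0 r * u r - sa i * u (a i) :=
  star_dot (h.pairs.Ta i) (h.Tr i) ⟨(h.hr i).1, (h.hr i).2.1⟩ (h.hp i i).1 (h.Tz i) u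

omit h in
/-- The signs of a star. -/
def signs (T : Fin (n + 1) → ι → ℤ) (sa sb : Fin (n + 1) → ℤ) (r : ι) (p : Fin (n + 1) → ι)
    (εp : Fin (n + 1) → ℤ) (εr : ℤ) : Slot (n + 1) → ℤ :=
  Sum.elim (fun k => εp k * T k (p k)) (Sum.elim (fun _ => εr * T 0 r)
    (Sum.elim sa (fun k => -sb k)))

theorem signs_sq {εp : Fin (n + 1) → ℤ} {εr : ℤ} (hεp : ∀ k, εp k * εp k = 1)
    (hεr : εr * εr = 1) : ∀ c, signs T sa sb r p εp εr c * signs T sa sb r p εp εr c = 1 := by
  rintro (k | k | k | k) <;> simp only [signs, Sum.elim_inl, Sum.elim_inr]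
  · linear_combination (εp k * εp k) * h.p2 k + hεp k
  · linear_combination (εr * εr) * h.r2 + hεr
  · exact h.pairs.sa2 k
  · simpa using h.pairs.sb2 k

theorem W_val {εp : Fin (n + 1) → ℤ} {εr : ℤ} (i : Fin (n + 1)) (c : Slot (n + 1)) :
    W i (coords p r a b c) = signs T sa sb r p εp εr c * sW i c := by
  rcases c with k | k | k | k <;> simp only [coords, signs, sW, Sum.elim_inl, Sum.elim_inr]
  · rw [h.pairs.Wz i _ (h.hp k i).1 (h.hp k i).2, mul_zero]
  · rw [h.pairs.Wz i _ (h.hr i).2.1 (h.hr i).2.2, mul_zero]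
  · split_ifs with hk
    · subst hk; rw [h.pairs.Wa, mul_one]
    · rw [h.pairs.Wz i _ (fun e => hk (h.pairs.aa k i e)) (h.pairs.hab k i), mul_zero]
  · split_ifs with hk
    · subst hk; rw [h.pairs.Wb]; ring
    · rw [h.pairs.Wz i _ (fun e => h.pairs.hab i k e.symm) (fun e => hk (h.pairs.bb k i e)),
        mul_zero]

theorem T_val {εp : Fin (n + 1) → ℤ} {εr : ℤ} (hεp : ∀ k, εp k * εp k = 1) (hεr : εr * εr = 1)
    (i : Fin (n + 1)) (c : Slot (n + 1)) :
    T i (coords p r a b c) = signs T sa sb r p εp εr c * sT εp εr i c := by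
  rcases c with k | k | k | k <;> simp only [coords, signs, sT, Sum.elim_inl, Sum.elim_inr]
  · split_ifs with hk
    · subst hk; linear_combination (-(T k (p k))) * hεp k
    · rw [h.Tz i _ (fun e => hk (h.pinj k i e)) (h.hr k).1.symm (h.hp k i).1, mul_zero]
  · rw [h.Tr i]; linear_combination (-(T 0 r)) * hεr
  · split_ifs with hk
    · subst hk; rw [h.pairs.Ta]; ring
    · rw [h.Tz i _ (fun e => (h.hp i k).1 e.symm) (h.hr k).2.1.symm
        (fun e => hk (h.pairs.aa k i e)), mul_zero]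
  · rw [mul_zero]
    rcases eq_or_ne k i with rfl | hk
    · exact h.pairs.Tb k
    · exact h.Tz i _ (fun e => (h.hp i k).2 e.symm) (h.hr k).2.2.symm
        (fun e => h.pairs.hab i k e.symm)

theorem W_out (i : Fin (n + 1)) {y : ι} (hy : ∀ c, coords p r a b c ≠ y) : W i y = 0 :=
  h.pairs.Wz i y (fun e => hy (Sum.inr (Sum.inr (Sum.inl i))) e.symm)
    (fun e => hy (Sum.inr (Sum.inr (Sum.inr i))) e.symm)

theorem T_out (i : Fin (n + 1)) {y : ι} (hy : ∀ c, coords p r a b c ≠ y) : T i y = 0 :=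
  h.Tz i y (fun e => hy (Sum.inl i) e.symm) (fun e => hy (Sum.inr (Sum.inl ())) e.symm)
    (fun e => hy (Sum.inr (Sum.inr (Sum.inl i))) e.symm)

end StarData

/-- A push assembled from slots. -/
theorem push_of_slots {κ : Type*} {k : ℕ} {slot : Fin k → κ} (hslot : Function.Surjective slot)
    {g : κ → ι} {S : κ → ℤ} {v : Fin k → ℤ} {V : κ → ℤ} {w : ι → ℤ}
    (hv : ∀ j, v j = V (slot j)) (hw : ∀ c, w (g c) = S c * V c)
    (hout : ∀ y, (∀ c, g c ≠ y) → w y = 0) : Push (g ∘ slot) (S ∘ slot) v w :=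
  ⟨fun j => by simp only [Function.comp_apply, hw, hv], fun y hy => hout y fun c => by
    obtain ⟨j, rfl⟩ := hslot c
    exact hy j⟩

/-- The coordinates of a star with further points. -/
def coordsExt {m c : ℕ} (p : Fin m → ι) (r : ι) (a b : Fin m → ι) (q : Fin c → ι) :
    Slot m ⊕ Fin c → ι :=
  Sum.elim (coords p r a b) q

theorem StarData.injExt {n : ℕ} {o : ι} {W T : Fin (n + 1) → ι → ℤ} {a b : Fin (n + 1) → ι}
    {sa sb : Fin (n + 1) → ℤ} {r : ι} {p : Fin (n + 1) → ι} (h : StarData o W T a b sa sb r p)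
    {c : ℕ} {q : Fin c → ι} (hq : ∀ j x, coords p r a b x ≠ q j) (hqi : Function.Injective q) :
    Function.Injective (coordsExt p r a b q) := by
  rintro (x | x) (y | y) e <;> simp only [coordsExt, Sum.elim_inl, Sum.elim_inr] at e
  · rw [h.inj e]
  · exact absurd e (hq y x)
  · exact absurd e.symm (hq x y)
  · rw [hqi e]

theorem StarData.W_ext {n : ℕ} {o : ι} {W T : Fin (n + 1) → ι → ℤ} {a b : Fin (n + 1) → ι}
    {sa sb : Fin (n + 1) → ℤ} {r : ι} {p : Fin (n + 1) → ι} (h : StarData o W T a b sa sb r p)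
    {c : ℕ} {q : Fin c → ι} (hq : ∀ j x, coords p r a b x ≠ q j) {εp : Fin (n + 1) → ℤ} {εr : ℤ}
    (S : Fin c → ℤ) (i : Fin (n + 1)) (x : Slot (n + 1) ⊕ Fin c) :
    W i (coordsExt p r a b q x) =
      Sum.elim (StarData.signs T sa sb r p εp εr) S x * Sum.elim (sW i) 0 x := by
  rcases x with x | x
  · exact h.W_val i x
  · simp only [coordsExt, Sum.elim_inr, Pi.zero_apply, mul_zero]
    exact h.W_out i (hq x)

theorem StarData.T_ext {n : ℕ} {o : ι} {W T : Fin (n + 1) → ι → ℤ} {a b : Fin (n + 1) → ι}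
    {sa sb : Fin (n + 1) → ℤ} {r : ι} {p : Fin (n + 1) → ι} (h : StarData o W T a b sa sb r p)
    {c : ℕ} {q : Fin c → ι} (hq : ∀ j x, coords p r a b x ≠ q j) {εp : Fin (n + 1) → ℤ} {εr : ℤ}
    (hεp : ∀ k, εp k * εp k = 1) (hεr : εr * εr = 1)
    (S : Fin c → ℤ) (i : Fin (n + 1)) (x : Slot (n + 1) ⊕ Fin c) :
    T i (coordsExt p r a b q x) =
      Sum.elim (StarData.signs T sa sb r p εp εr) S x * Sum.elim (sT εp εr i) 0 x := by
  rcases x with x | x
  · exact h.T_val hεp hεr i x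
  · simp only [coordsExt, Sum.elim_inr, Pi.zero_apply, mul_zero]
    exact h.T_out i (hq x)

section Eight

theorem box8 : ∀ x : Fin 5 → Fin 5,
    1 + ((((x 0 : ℕ) : ℤ) - 2) - 2) * ((((x 0 : ℕ) : ℤ) - 2) - 2) +
      ((((x 1 : ℕ) : ℤ) - 2) - (((x 0 : ℕ) : ℤ) - 2) - 1) * ((((x 1 : ℕ) : ℤ) - 2) - (((x 0 : ℕ) : ℤ) - 2) - 1) +
      ((((x 2 : ℕ) : ℤ) - 2) - (((x 0 : ℕ) : ℤ) - 2) - 1) * ((((x 2 : ℕ) : ℤ) - 2) - (((x 0 : ℕ) : ℤ) - 2) - 1) +
      ((((x 3 : ℕ) : ℤ) - 2) - (((x 0 : ℕ) : ℤ) - 2) - 1) * ((((x 3 : ℕ) : ℤ) - 2) - (((x 0 : ℕ) : ℤ) - 2) - 1) +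
      ((((x 4 : ℕ) : ℤ) - 2) - (((x 0 : ℕ) : ℤ) - 2) - 1) * ((((x 4 : ℕ) : ℤ) - 2) - (((x 0 : ℕ) : ℤ) - 2) - 1) +
      2 * ∑ i, (((x i : ℕ) : ℤ) - 2) * (((x i : ℕ) : ℤ) - 2) ≤ 9 → ∀ i, (x i : ℕ) = 2 := by
  decide +kernel

theorem model8_gram : (∀ i j, dot (model8.W i) (model8.W j) = if i = j then 2 else 0) ∧
    (∀ i j, dot (model8.T i) (model8.W j) = if i = j then -1 else 0) ∧
    (∀ i j, dot (model8.T i) (model8.T j) = if i = j then 3 else 1) ∧
    (∀ i j, dot (model8.F i) (model8.W j) = 0) ∧ (∀ i j, dot (model8.F i) (model8.T j) = -3) ∧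
    (∀ i, dot (model8.F i) (model8.F i) = 9) ∧ (∀ i, model8.W i 0 = 0) ∧
    (∀ i, model8.T i 0 = if i = 0 then 1 else 0) ∧ ∀ i, model8.F i 0 = -1 := by
  decide +kernel

/-- The slots of the last model. -/
def slot8 : Fin 16 → Fin 5 ⊕ Unit ⊕ Fin 5 ⊕ Fin 5 :=
  ![Sum.inl 0, Sum.inl 1, Sum.inl 2, Sum.inl 3, Sum.inr (Sum.inl ()), Sum.inl 4,
    Sum.inr (Sum.inr (Sum.inl 0)), Sum.inr (Sum.inr (Sum.inl 1)), Sum.inr (Sum.inr (Sum.inl 2)),
    Sum.inr (Sum.inr (Sum.inl 3)), Sum.inr (Sum.inr (Sum.inl 4)),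
    Sum.inr (Sum.inr (Sum.inr 0)), Sum.inr (Sum.inr (Sum.inr 1)), Sum.inr (Sum.inr (Sum.inr 2)),
    Sum.inr (Sum.inr (Sum.inr 3)), Sum.inr (Sum.inr (Sum.inr 4))]

theorem slot8_surj : Function.Surjective slot8 := by decide +kernel

theorem slot8_inj : Function.Injective slot8 := by decide +kernel

/-- The signs in the last model. -/
def eps8 (k : Fin 5) : ℤ := if k = 4 then -1 else 1

theorem eps8_sq : ∀ k, eps8 k * eps8 k = 1 := by decide

theorem model8_slots : ∀ i j, model8.W i j = sW i (slot8 j) ∧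
    model8.T i j = sT eps8 1 i (slot8 j) := by
  decide +kernel

/-- The model orbit vector on the slots. -/
def sF8 : Slot 5 → ℤ :=
  Sum.elim (fun k => if k = 4 then 1 else -1) (Sum.elim (fun _ => -2) (Sum.elim 0 0))

theorem model8_F : ∀ i j, model8.F i j = sF8 (slot8 j) := by decide +kernel

theorem fits8 {o : ι} {F : Fin 1 → ι → ℤ} {W T : Fin 5 → ι → ℤ} (h : Config model8 o F W T) :
    ∃ f s, Fits model8 F W T f s := by
  obtain ⟨gWW, gTW, gTT, gFW, gFT, gFF, gWo, gTo, gFo⟩ := model8_gram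
  have hWW : ∀ i j, dot (W i) (W j) = if i = j then 2 else 0 := fun i j => by rw [h.WW, gWW]
  have hTW : ∀ i j, dot (T i) (W j) = if i = j then -1 else 0 := fun i j => by rw [h.TW, gTW]
  have hTT : ∀ i j, dot (T i) (T j) = if i = j then 3 else 1 := fun i j => by rw [h.TT, gTT]
  have hTo : ∀ i, T i o = if i = 0 then 1 else 0 := fun i => by rw [h.To, gTo]
  obtain ⟨a, b, sa, sb, hP⟩ := exists_pairs (n := 4) (o := o) hWW hTW (fun i => by simp [hTT])
    (fun i => small_entry (by simp [hTT])) (fun i => by rw [h.Wo, gWo])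
  obtain ⟨r, p, hS⟩ := exists_starData hP hTT hTW hTo fun j hj =>
    hP.not_exceptional hTT hTW hTo (by norm_num) hj
  -- the orbit vector
  set u := F 0 with hu
  set x : Fin 5 → ℤ := fun i => sa i * u (a i) with hx
  have hb : ∀ i, sb i * u (b i) = -x i := fun i => hP.pair_val (by rw [h.FW, gFW])
  have hT : ∀ i, T i (p i) * u (p i) + T 0 r * u r - x i = -3 := fun i => by
    rw [← hS.dotT i u, h.FT, gFT]
  have hu0 : T 0 (p 0) * u (p 0) = -1 := by
    rw [hS.p0, hTo, if_pos rfl, hu, h.Fo, gFo, one_mul]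
  have hru : T 0 r * u r = x 0 - 2 := by have := hT 0; linarith
  have hpu : ∀ i, i ≠ 0 → T i (p i) * u (p i) = x i - x 0 - 1 := fun i _ => by
    have := hT i; linarith
  have hnorm := norm_ge hS.inj u
  have hsum : ∑ c, u (coords p r a b c) * u (coords p r a b c) =
      1 + (x 0 - 2) * (x 0 - 2) + (x 1 - x 0 - 1) * (x 1 - x 0 - 1) +
        (x 2 - x 0 - 1) * (x 2 - x 0 - 1) + (x 3 - x 0 - 1) * (x 3 - x 0 - 1) +
        (x 4 - x 0 - 1) * (x 4 - x 0 - 1) + 2 * ∑ i, x i * x i := by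
    rw [coords_norm, sq_of_mul hS.r2 hru,
      Finset.sum_congr rfl fun i _ => sq_of_mul (hP.sa2 i) (y := x i) rfl,
      Finset.sum_congr rfl fun i _ => sq_of_mul (hP.sb2 i) (hb i), Fin.sum_univ_five,
      sq_of_mul (hS.p2 0) hu0, sq_of_mul (hS.p2 1) (hpu 1 (by decide)),
      sq_of_mul (hS.p2 2) (hpu 2 (by decide)), sq_of_mul (hS.p2 3) (hpu 3 (by decide)),
      sq_of_mul (hS.p2 4) (hpu 4 (by decide))]
    simp only [neg_mul_neg]
    ring
  rw [hsum, h.FF, gFF] at hnorm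
  have hbox : ∀ i, ∃ t : Fin 5, x i = ((t : ℕ) : ℤ) - 2 := fun i => by
    refine small_box ?_
    have h1 := Finset.single_le_sum (f := fun i => x i * x i) (fun j _ => mul_self_nonneg _)
      (Finset.mem_univ i)
    nlinarith
  choose t ht using hbox
  have ht2 : ∀ i, (t i : ℕ) = 2 := box8 t (by simp only [← ht]; linarith)
  have hx0 : ∀ i, x i = 0 := fun i => by rw [ht, ht2]; norm_num
  refine ⟨coords p r a b ∘ slot8, StarData.signs T sa sb r p eps8 1 ∘ slot8,
    hS.inj.comp slot8_inj, fun j => hS.signs_sq eps8_sq rfl _, fun i => ?_,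
    fun i => push_of_slots slot8_surj (fun j => (model8_slots i j).1) (hS.W_val i)
      (fun y hy => hS.W_out i hy),
    fun i => push_of_slots slot8_surj (fun j => (model8_slots i j).2) (hS.T_val eps8_sq rfl i)
      (fun y hy => hS.T_out i hy)⟩
  obtain rfl : i = 0 := Subsingleton.elim _ _
  refine push_of_slots slot8_surj (model8_F 0) (fun c => ?_) (fun y hy => eq_zero_outside hS.inj ?_ hy)
  · rcases c with k | k | k | k <;>
      simp only [coords, StarData.signs, sF8, Sum.elim_inl, Sum.elim_inr, Pi.zero_apply, mul_zero]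
    · rcases eq_or_ne k 0 with rfl | hk
      · rw [← hu, val_of_mul (hS.p2 0) hu0]
        simp [eps8]
      · rw [← hu, val_of_mul (hS.p2 k) (hpu k hk), hx0 k, hx0 0]
        simp only [eps8]
        split_ifs <;> ring
    · rw [← hu, val_of_mul hS.r2 hru, hx0 0]; ring
    · simpa using val_of_mul (hP.sa2 k) (hx0 k)
    · have := val_of_mul (hP.sb2 k) (hb k)
      simpa [hx0] using this
  · rw [hsum, h.FF, gFF]
    simp [hx0]

end Eight

section Four

theorem box4 : ∀ x : Fin 4 → Fin 5, ∀ d : Fin 2,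
    ((d : ℕ) = 1 → 1 - (((x 0 : ℕ) : ℤ) - 2) - (((((x 1 : ℕ) : ℤ) - 2) - (((x 0 : ℕ) : ℤ) - 2) - 1) +
      ((((x 2 : ℕ) : ℤ) - 2) - (((x 0 : ℕ) : ℤ) - 2) - 1) +
      ((((x 3 : ℕ) : ℤ) - 2) - (((x 0 : ℕ) : ℤ) - 2) - 1)) = 4) →
    1 + ((((x 0 : ℕ) : ℤ) - 2) - (1 - (d : ℕ))) * ((((x 0 : ℕ) : ℤ) - 2) - (1 - (d : ℕ))) +
      ((((x 1 : ℕ) : ℤ) - 2) - (((x 0 : ℕ) : ℤ) - 2) - 1) * ((((x 1 : ℕ) : ℤ) - 2) - (((x 0 : ℕ) : ℤ) - 2) - 1) +
      ((((x 2 : ℕ) : ℤ) - 2) - (((x 0 : ℕ) : ℤ) - 2) - 1) * ((((x 2 : ℕ) : ℤ) - 2) - (((x 0 : ℕ) : ℤ) - 2) - 1) +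
      ((((x 3 : ℕ) : ℤ) - 2) - (((x 0 : ℕ) : ℤ) - 2) - 1) * ((((x 3 : ℕ) : ℤ) - 2) - (((x 0 : ℕ) : ℤ) - 2) - 1) +
      2 * ∑ i, (((x i : ℕ) : ℤ) - 2) * (((x i : ℕ) : ℤ) - 2) ≤ 5 → ∀ i, (x i : ℕ) = 2 := by
  decide +kernel

theorem model4_gram : (∀ i j, dot (model4.W i) (model4.W j) = if i = j then 2 else 0) ∧
    (∀ i j, dot (model4.T i) (model4.W j) = if i = j then -1 else 0) ∧
    (∀ i j, dot (model4.T i) (model4.T j) = if i = j then 3 else 1) ∧
    (∀ i j, dot (model4.F i) (model4.W j) = 0) ∧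
    (∀ i j, dot (model4.F i) (model4.T j) = -2 + ((i : ℕ) : ℤ)) ∧
    (∀ i, dot (model4.F i) (model4.F i) = 5) ∧ (∀ i, model4.W i 0 = 0) ∧
    (∀ i, model4.T i 0 = if i = 0 then 1 else 0) ∧ ∀ i, model4.F i 0 = -1 := by
  decide +kernel

/-- The slots of the third model. -/
def slot4 : Fin 14 → Slot 4 ⊕ Fin 1 :=
  ![Sum.inl (Sum.inl 0), Sum.inl (Sum.inl 1), Sum.inl (Sum.inl 2), Sum.inl (Sum.inl 3),
    Sum.inl (Sum.inr (Sum.inl ())), Sum.inr 0,
    Sum.inl (Sum.inr (Sum.inr (Sum.inl 0))), Sum.inl (Sum.inr (Sum.inr (Sum.inl 1))),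
    Sum.inl (Sum.inr (Sum.inr (Sum.inl 2))), Sum.inl (Sum.inr (Sum.inr (Sum.inl 3))),
    Sum.inl (Sum.inr (Sum.inr (Sum.inr 0))), Sum.inl (Sum.inr (Sum.inr (Sum.inr 1))),
    Sum.inl (Sum.inr (Sum.inr (Sum.inr 2))), Sum.inl (Sum.inr (Sum.inr (Sum.inr 3)))]

theorem slot4_surj : Function.Surjective slot4 := by decide +kernel

theorem slot4_inj : Function.Injective slot4 := by decide +kernel

/-- The model orbit vectors on the slots. -/
def sF4 (i : Fin 2) : Slot 4 ⊕ Fin 1 → ℤ :=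
  Sum.elim (Sum.elim (fun _ => -1)
    (Sum.elim (fun _ => if i = 0 then 1 else 0) (Sum.elim 0 0))) (fun _ => if i = 1 then 1 else 0)

theorem model4_slots : (∀ i j, model4.W i j = Sum.elim (sW i) 0 (slot4 j)) ∧
    (∀ i j, model4.T i j = Sum.elim (sT (fun _ => 1) (-1) i) 0 (slot4 j)) ∧
    ∀ i j, model4.F i j = sF4 i (slot4 j) := by
  decide +kernel

theorem fits4 {o : ι} {F : Fin 2 → ι → ℤ} {W T : Fin 4 → ι → ℤ} (h : Config model4 o F W T) :
    ∃ f s, Fits model4 F W T f s := by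
  obtain ⟨gWW, gTW, gTT, gFW, gFT, gFF, gWo, gTo, gFo⟩ := model4_gram
  obtain ⟨mW, mT, mF⟩ := model4_slots
  have hWW : ∀ i j, dot (W i) (W j) = if i = j then 2 else 0 := fun i j => by rw [h.WW, gWW]
  have hTW : ∀ i j, dot (T i) (W j) = if i = j then -1 else 0 := fun i j => by rw [h.TW, gTW]
  have hTT : ∀ i j, dot (T i) (T j) = if i = j then 3 else 1 := fun i j => by rw [h.TT, gTT]
  have hTo : ∀ i, T i o = if i = 0 then 1 else 0 := fun i => by rw [h.To, gTo]
  obtain ⟨a, b, sa, sb, hP⟩ := exists_pairs (n := 3) (o := o) hWW hTW (fun i => by simp [hTT])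
    (fun i => small_entry (by simp [hTT])) (fun i => by rw [h.Wo, gWo])
  obtain ⟨r, p, hS⟩ := exists_starData hP hTT hTW hTo fun j hj =>
    hP.not_exceptional hTT hTW hTo (by norm_num) hj
  have key' : ∀ d : Fin 2, ((d : ℕ) = 1 →
        (T 0 r * F 0 r = -1) ∧ (∀ k, T k (p k) * F 0 (p k) = -1) ∧ (∀ k, F 0 (a k) = 0) ∧
          (∀ k, F 0 (b k) = 0) ∧ ∀ y, (∀ c, coords p r a b c ≠ y) → F 0 y = 0) →
      (T 0 r * F d r = -1 + ((d : ℕ) : ℤ)) ∧ (∀ k, T k (p k) * F d (p k) = -1) ∧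
      (∀ k, F d (a k) = 0) ∧ (∀ k, F d (b k) = 0) ∧
      ∑ c, F d (coords p r a b c) * F d (coords p r a b c) = 5 - ((d : ℕ) : ℤ) := by
    intro d hd0
    set x : Fin 4 → ℤ := fun i => sa i * F d (a i) with hx
    have hb : ∀ i, sb i * F d (b i) = -x i := fun i => hP.pair_val (by rw [h.FW, gFW])
    have hT : ∀ i, T i (p i) * F d (p i) + T 0 r * F d r - x i = -2 + ((d : ℕ) : ℤ) := fun i => by
      rw [← hS.dotT i (F d), h.FT, gFT]
    have hu0 : T 0 (p 0) * F d (p 0) = -1 := by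
      rw [hS.p0, hTo, if_pos rfl, h.Fo, gFo, one_mul]
    have hru : T 0 r * F d r = x 0 - (1 - ((d : ℕ) : ℤ)) := by have := hT 0; linarith
    have hpu : ∀ i, i ≠ 0 → T i (p i) * F d (p i) = x i - x 0 - 1 := fun i _ => by
      have := hT i; linarith
    have hnorm := norm_ge hS.inj (F d)
    have hsum : ∑ c, F d (coords p r a b c) * F d (coords p r a b c) =
        1 + (x 0 - (1 - ((d : ℕ) : ℤ))) * (x 0 - (1 - ((d : ℕ) : ℤ))) +
          (x 1 - x 0 - 1) * (x 1 - x 0 - 1) + (x 2 - x 0 - 1) * (x 2 - x 0 - 1) +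
          (x 3 - x 0 - 1) * (x 3 - x 0 - 1) + 2 * ∑ i, x i * x i := by
      rw [coords_norm, sq_of_mul hS.r2 hru,
        Finset.sum_congr rfl fun i _ => sq_of_mul (hP.sa2 i) (y := x i) rfl,
        Finset.sum_congr rfl fun i _ => sq_of_mul (hP.sb2 i) (hb i), Fin.sum_univ_four,
        sq_of_mul (hS.p2 0) hu0, sq_of_mul (hS.p2 1) (hpu 1 (by decide)),
        sq_of_mul (hS.p2 2) (hpu 2 (by decide)), sq_of_mul (hS.p2 3) (hpu 3 (by decide))]
      simp only [neg_mul_neg]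
      ring
    rw [hsum, h.FF, gFF] at hnorm
    have hbox : ∀ i, ∃ t : Fin 5, x i = ((t : ℕ) : ℤ) - 2 := fun i => by
      refine small_box ?_
      have h1 := Finset.single_le_sum (f := fun i => x i * x i) (fun j _ => mul_self_nonneg _)
        (Finset.mem_univ i)
      nlinarith
    choose t ht using hbox
    have hside : (d : ℕ) = 1 →
        1 - x 0 - ((x 1 - x 0 - 1) + (x 2 - x 0 - 1) + (x 3 - x 0 - 1)) = 4 := by
      intro h1
      obtain ⟨k1, k2, k3, k4, k5⟩ := hd0 h1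
      obtain rfl : d = 1 := Fin.ext h1
      have hd4 := h.FF 0 1
      rw [show dot (model4.F 0) (model4.F 1) = 4 by decide, dot_outside hS.inj k5] at hd4
      simp only [coords, Fintype.sum_sum_type, Sum.elim_inl, Sum.elim_inr,
        Finset.sum_const, Finset.card_univ, Fintype.card_unit, one_smul, k3, k4, zero_mul,
        smul_zero, add_zero] at hd4
      rw [Fin.sum_univ_four, val_of_mul (hS.p2 0) (k2 0), val_of_mul (hS.p2 1) (k2 1), val_of_mul (hS.p2 2) (k2 2),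
        val_of_mul (hS.p2 3) (k2 3), val_of_mul hS.r2 k1] at hd4
      have e0 : T 0 (p 0) * F 1 (p 0) = -1 := hu0
      have e1 := hpu 1 (by decide)
      have e2 := hpu 2 (by decide)
      have e3 := hpu 3 (by decide)
      have er : T 0 r * F 1 r = x 0 := by rw [hru]; norm_num
      linear_combination hd4 + e0 + e1 + e2 + e3 + er
    have ht2 : ∀ i, (t i : ℕ) = 2 := box4 t d (by simp only [← ht]; exact hside)
      (by simp only [← ht]; linarith)
    have hx0 : ∀ i, x i = 0 := fun i => by rw [ht, ht2]; norm_num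
    refine ⟨by rw [hru, hx0 0]; ring, fun k => ?_, fun k => ?_, fun k => ?_, ?_⟩
    · rcases eq_or_ne k 0 with rfl | hk
      · exact hu0
      · rw [hpu k hk, hx0, hx0]; ring
    · simpa using val_of_mul (hP.sa2 k) (hx0 k)
    · simpa [hx0] using val_of_mul (hP.sb2 k) (hb k)
    · rw [hsum]
      simp only [hx0]
      fin_cases d <;> simp
  have k0 := key' 0 (fun hh => absurd hh (by decide))
  have key := fun d => key' d fun _ => ⟨by simpa using k0.1, k0.2.1, k0.2.2.1, k0.2.2.2.1,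
    fun y hy => eq_zero_outside hS.inj (u := F 0) (by rw [k0.2.2.2.2, h.FF, gFF]; norm_num) hy⟩
  obtain ⟨q, hq, hq2, hqz⟩ := exists_outside hS.inj (u := F 1) (by
    rw [(key 1).2.2.2.2, h.FF, gFF]; norm_num)
  have hqv : ∀ (j : Fin 1) x, coords p r a b x ≠ (fun _ : Fin 1 => q) j := fun _ x => hq x
  have hg := hS.injExt hqv (fun i j _ => Subsingleton.elim i j)
  have hF0q : F 0 q = 0 := eq_zero_outside hS.inj (u := F 0) (by
    rw [(key 0).2.2.2.2, h.FF, gFF]; norm_num) hq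
  set S : Slot 4 ⊕ Fin 1 → ℤ :=
    Sum.elim (StarData.signs T sa sb r p (fun _ => 1) (-1)) (fun _ => F 1 q) with hSdef
  refine ⟨coordsExt p r a b (fun _ => q) ∘ slot4, S ∘ slot4, hg.comp slot4_inj, fun j => ?_,
    fun d => push_of_slots slot4_surj (mF d) (fun c => ?_) (fun y hy => ?_),
    fun i => push_of_slots slot4_surj (mW i) (hS.W_ext hqv _ i)
      (fun y hy => hS.W_out i fun c => hy (Sum.inl c)),
    fun i => push_of_slots slot4_surj (mT i) (hS.T_ext hqv (fun _ => rfl) rfl _ i)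
      (fun y hy => hS.T_out i fun c => hy (Sum.inl c))⟩
  · rcases hc : slot4 j with c | c
    · simp only [Function.comp_apply, hSdef, hc, Sum.elim_inl]
      exact hS.signs_sq (fun _ => rfl) rfl c
    · simp only [Function.comp_apply, hSdef, hc, Sum.elim_inr]
      exact hq2
  · obtain ⟨kr, kp, ka, kb, -⟩ := key d
    rcases c with (k | k | k | k) | k <;>
      simp only [coordsExt, coords, hSdef, StarData.signs, sF4, Sum.elim_inl, Sum.elim_inr,
        Pi.zero_apply, mul_zero, one_mul]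
    · rw [val_of_mul (hS.p2 k) (kp k)]
    · rw [val_of_mul hS.r2 kr]
      fin_cases d <;> simp
    · exact ka k
    · exact kb k
    · fin_cases d <;> simp [hF0q]
  · have hout : ∀ c, coords p r a b c ≠ y := fun c => hy (Sum.inl c)
    obtain rfl | rfl : d = 0 ∨ d = 1 := by omega
    · refine eq_zero_outside hS.inj ?_ hout
      rw [(key 0).2.2.2.2, h.FF, gFF]; norm_num
    · exact hqz y hout (fun e => hy (Sum.inr 0) e.symm)

end Four

section Two

theorem box2 : ∀ x y : Fin 5, ∀ d : Fin 2,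
    1 + ((((x : ℕ) : ℤ) - 2) + (d : ℕ)) * ((((x : ℕ) : ℤ) - 2) + (d : ℕ)) +
      ((((y : ℕ) : ℤ) - 2) - (((x : ℕ) : ℤ) - 2) - 1) * ((((y : ℕ) : ℤ) - 2) - (((x : ℕ) : ℤ) - 2) - 1) +
      2 * ((((x : ℕ) : ℤ) - 2) * (((x : ℕ) : ℤ) - 2) + (((y : ℕ) : ℤ) - 2) * (((y : ℕ) : ℤ) - 2)) ≤ 3 →
    ((x : ℕ) = 2 ∧ (y : ℕ) = 2) ∨ ((d : ℕ) = 1 ∧ (x : ℕ) = 1 ∧ (y : ℕ) = 2) ∨
      ((d : ℕ) = 0 ∧ (x : ℕ) = 2 ∧ (y : ℕ) = 3) := by
  decide +kernel

theorem box2exc : ∀ x : Fin 5, ∀ d : Fin 2,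
    1 + ((((x : ℕ) : ℤ) - 2) + (d : ℕ)) * ((((x : ℕ) : ℤ) - 2) + (d : ℕ)) +
      2 * ((((x : ℕ) : ℤ) - 2) * (((x : ℕ) : ℤ) - 2)) +
      2 * ((1 - (d : ℕ) - 2 * (((x : ℕ) : ℤ) - 2)) * (1 - (d : ℕ) - 2 * (((x : ℕ) : ℤ) - 2))) ≤ 3 →
    (x : ℕ) = 2 := by
  decide +kernel

theorem model2_gram : (∀ i j, dot (model2.W i) (model2.W j) = if i = j then 2 else 0) ∧
    (∀ i j, dot (model2.T i) (model2.W j) = if i = j then -1 else 0) ∧
    (∀ i j, dot (model2.T i) (model2.T j) = if i = j then 3 else 1) ∧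
    (∀ i j, dot (model2.F i) (model2.W j) = 0) ∧
    (∀ i j, dot (model2.F i) (model2.T j) = if i = 0 then 0 else -1) ∧
    (∀ i j, dot (model2.F i) (model2.F j) = if i = j then 3 else 2) ∧ (∀ i, model2.W i 0 = 0) ∧
    (∀ i, model2.T i 0 = if i = 0 then 1 else 0) ∧ ∀ i, model2.F i 0 = -1 := by
  decide +kernel

/-- The slots of the second model. -/
def slot2 : Fin 10 → Slot 2 ⊕ Fin 3 :=
  ![Sum.inl (Sum.inl 0), Sum.inl (Sum.inl 1), Sum.inl (Sum.inr (Sum.inl ())), Sum.inr 0,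
    Sum.inr 1, Sum.inr 2, Sum.inl (Sum.inr (Sum.inr (Sum.inl 0))),
    Sum.inl (Sum.inr (Sum.inr (Sum.inl 1))), Sum.inl (Sum.inr (Sum.inr (Sum.inr 0))),
    Sum.inl (Sum.inr (Sum.inr (Sum.inr 1)))]

theorem slot2_surj : Function.Surjective slot2 := by decide +kernel

theorem slot2_inj : Function.Injective slot2 := by decide +kernel

/-- The model orbit vectors on the slots. -/
def sF2 (i : Fin 4) : Slot 2 ⊕ Fin 3 → ℤ :=
  Sum.elim (Sum.elim (fun _ => -1)
    (Sum.elim (fun _ => if i = 0 then 1 else 0) (Sum.elim 0 0)))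
    (fun k => if i = k.succ then 1 else 0)

theorem model2_slots : (∀ i j, model2.W i j = Sum.elim (sW i) 0 (slot2 j)) ∧
    (∀ i j, model2.T i j = Sum.elim (sT (fun _ => 1) 1 i) 0 (slot2 j)) ∧
    ∀ i j, model2.F i j = sF2 i (slot2 j) := by
  decide +kernel

theorem fits2 {o : ι} {F : Fin 4 → ι → ℤ} {W T : Fin 2 → ι → ℤ} (h : Config model2 o F W T) :
    ∃ f s, Fits model2 F W T f s := by
  classical
  obtain ⟨gWW, gTW, gTT, gFW, gFT, gFF, gWo, gTo, gFo⟩ := model2_gram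
  obtain ⟨mW, mT, mF⟩ := model2_slots
  have hWW : ∀ i j, dot (W i) (W j) = if i = j then 2 else 0 := fun i j => by rw [h.WW, gWW]
  have hTW : ∀ i j, dot (T i) (W j) = if i = j then -1 else 0 := fun i j => by rw [h.TW, gTW]
  have hTT : ∀ i j, dot (T i) (T j) = if i = j then 3 else 1 := fun i j => by rw [h.TT, gTT]
  have hTo : ∀ i, T i o = if i = 0 then 1 else 0 := fun i => by rw [h.To, gTo]
  have hFF : ∀ i j, dot (F i) (F j) = if i = j then 3 else 2 := fun i j => by rw [h.FF, gFF]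
  obtain ⟨a, b, sa, sb, hP⟩ := exists_pairs (n := 1) (o := o) hWW hTW (fun i => by simp [hTT])
    (fun i => small_entry (by simp [hTT])) (fun i => by rw [h.Wo, gWo])
  -- the exceptional shape is impossible
  have hexc : ∀ j : Fin 2, j ≠ 0 → T j (a 0) = 0 := by
    intro j hj
    obtain rfl : j = 1 := by omega
    by_contra he
    obtain ⟨hA, hB, hz⟩ := hP.exceptional hTT hTW hTo hj he
    obtain ⟨r, hro, hr, hTr, hrz⟩ := hP.exists_r hTT hTW hTo
    have hr2 : T 0 r * T 0 r = 1 := by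
      rcases small_entry (u := T 0) (by simp [hTT]) r with e | e | e
      exacts [absurd e hTr, by rw [e]; norm_num, by rw [e]; norm_num]
    have haj : a 1 ≠ a 0 := fun e => hj (hP.aa 1 0 e)
    let g : Fin 6 → ι := ![o, r, a 0, b 0, a 1, b 1]
    have hg : Function.Injective g := by
      intro x y e
      fin_cases x <;> fin_cases y <;>
        first
          | rfl
          | (exfalso
             simp [g] at e
             rcases hr 0 with ⟨h1, h2⟩
             rcases hr 1 with ⟨h3, h4⟩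
             first
               | exact hro e | exact hro e.symm | exact hP.oa _ e | exact hP.oa _ e.symm
               | exact hP.ob _ e | exact hP.ob _ e.symm | exact h1 e | exact h1 e.symm
               | exact h2 e | exact h2 e.symm | exact h3 e | exact h3 e.symm
               | exact h4 e | exact h4 e.symm | exact hP.hab _ _ e | exact hP.hab _ _ e.symm
               | exact haj e | exact haj e.symm
               | exact absurd (hP.bb _ _ e) (by decide))
    -- the values of the last orbit vectors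
    have key : ∀ i : Fin 4, i ≠ 0 → F i o = -1 ∧ T 0 r * F i r = 0 ∧ F i (a 0) = 0 ∧ F i (b 0) = 0 ∧
        sa 1 * F i (a 1) = 1 ∧ sb 1 * F i (b 1) = -1 := by
      intro i hi
      set x := sa 0 * F i (a 0) with hx
      set y := sa 1 * F i (a 1) with hy
      have hb0 : sb 0 * F i (b 0) = -x := hP.pair_val (by rw [h.FW, gFW])
      have hb1 : sb 1 * F i (b 1) = -y := hP.pair_val (by rw [h.FW, gFW])
      have hFo : F i o = -1 := by rw [h.Fo, gFo]
      have h0 := h.FT i 0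
      rw [gFT, if_neg hi, dot_comm, dot_three (hP.oa 0) hro.symm (hr 0).1.symm hrz, hTo,
        if_pos rfl, hFo, hP.Ta] at h0
      have h1 := h.FT i 1
      rw [gFT, if_neg hi, dot_comm, dot_three haj (hP.hab 1 0) (hP.hab 0 0) hz, hP.Ta, hA, hB] at h1
      have hru : T 0 r * F i r = x := by rw [hx]; linarith
      have hy1 : y = 1 - 2 * x := by rw [hy, hx] at *; linarith
      have hn := norm_ge hg (F i)
      rw [hFF, if_pos rfl, Fin.sum_univ_six] at hn
      simp only [g, Matrix.cons_val] at hn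
      rw [hFo, sq_of_mul hr2 hru, sq_of_mul (hP.sa2 0) (y := x) rfl, sq_of_mul (hP.sb2 0) hb0,
        sq_of_mul (hP.sa2 1) (y := y) rfl, sq_of_mul (hP.sb2 1) hb1, hy1] at hn
      obtain ⟨t, ht⟩ := small_box (x := x) (by nlinarith)
      have ht2 := box2exc t 0 (by rw [← ht]; simp; linarith)
      have hx0 : x = 0 := by rw [ht, ht2]; norm_num
      have hy2 : y = 1 := by rw [hy1, hx0]; norm_num
      refine ⟨hFo, by rw [hru, hx0], ?_, ?_, hy2, by rw [hb1, hy2]⟩
      · simpa [hx0] using val_of_mul (hP.sa2 0) (y := x) rfl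
      · simpa [hx0] using val_of_mul (hP.sb2 0) hb0
    obtain ⟨f0, f1, f2, f3, f4, f5⟩ := key 1 (by decide)
    obtain ⟨g0, g1, g2, g3, g4, g5⟩ := key 2 (by decide)
    have hout : ∀ i, (∀ c, g c ≠ i) → F 1 i = 0 := fun i hi => by
      refine eq_zero_outside hg ?_ hi
      rw [hFF, if_pos rfl, Fin.sum_univ_six]
      simp only [g, Matrix.cons_val]
      rw [f0, f2, f3, sq_of_mul hr2 f1, sq_of_mul (hP.sa2 1) f4, sq_of_mul (hP.sb2 1) f5]
      norm_num
    have h12 := hFF 1 2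
    rw [if_neg (by decide), dot_outside hg hout, Fin.sum_univ_six] at h12
    simp only [g, Matrix.cons_val] at h12
    rw [f0, f2, f3, g0, val_of_mul hr2 f1, val_of_mul (hP.sa2 1) f4, val_of_mul (hP.sb2 1) f5,
      val_of_mul (hP.sa2 1) g4, val_of_mul (hP.sb2 1) g5] at h12
    have := hP.sa2 1
    have := hP.sb2 1
    simp only [mul_one, mul_neg, neg_mul, zero_mul, mul_zero, add_zero, neg_neg] at h12
    omega
  obtain ⟨r, p, hS⟩ := exists_starData hP hTT hTW hTo hexc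
  -- the values of the orbit vectors
  have kval : ∀ i : Fin 4, F i (p 0) = -1 ∧ ∃ x y : ℤ, sa 0 * F i (a 0) = x ∧ sb 0 * F i (b 0) = -x ∧
      sa 1 * F i (a 1) = y ∧ sb 1 * F i (b 1) = -y ∧
      T 0 r * F i r = x + (if i = 0 then 1 else 0) ∧ T 1 (p 1) * F i (p 1) = y - x - 1 ∧
      ((x = 0 ∧ y = 0) ∨ (i = 0 ∧ x = -1 ∧ y = 0) ∨ (i ≠ 0 ∧ x = 0 ∧ y = 1)) := by
    intro i
    set x := sa 0 * F i (a 0) with hx
    set y := sa 1 * F i (a 1) with hy
    have hb0 : sb 0 * F i (b 0) = -x := hP.pair_val (by rw [h.FW, gFW])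
    have hb1 : sb 1 * F i (b 1) = -y := hP.pair_val (by rw [h.FW, gFW])
    have hFo : F i (p 0) = -1 := by rw [hS.p0, h.Fo, gFo]
    have h0 := hS.dotT 0 (F i)
    rw [h.FT, gFT, hS.p0, hTo, if_pos rfl, ← hS.p0, hFo, ← hx] at h0
    have h1 := hS.dotT 1 (F i)
    rw [h.FT, gFT, ← hy] at h1
    have hru : T 0 r * F i r = x + (if i = 0 then 1 else 0) := by split_ifs at h0 ⊢ <;> linarith
    have hpu : T 1 (p 1) * F i (p 1) = y - x - 1 := by split_ifs at h1 hru <;> linarith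
    refine ⟨hFo, x, y, rfl, hb0, rfl, hb1, hru, hpu, ?_⟩
    have hn := norm_ge hS.inj (F i)
    rw [hFF, if_pos rfl, coords_norm, Fin.sum_univ_two, Fin.sum_univ_two, Fin.sum_univ_two, hFo,
      sq_of_mul hS.r2 hru, sq_of_mul (hS.p2 1) hpu, sq_of_mul (hP.sa2 0) (y := x) rfl,
      sq_of_mul (hP.sb2 0) hb0, sq_of_mul (hP.sa2 1) (y := y) rfl, sq_of_mul (hP.sb2 1) hb1] at hn
    have hd : ∃ d : Fin 2, (if i = 0 then (1 : ℤ) else 0) = ((d : ℕ) : ℤ) ∧ ((d : ℕ) = 1 ↔ i = 0) := by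
      by_cases hi : i = 0
      · exact ⟨1, by simp [hi], by simp [hi]⟩
      · exact ⟨0, by simp [hi], by simp [hi]⟩
    obtain ⟨d, hd, hdi⟩ := hd
    rw [hd] at hn
    obtain ⟨t, ht⟩ := small_box (x := x) (by nlinarith)
    obtain ⟨t', ht'⟩ := small_box (x := y) (by nlinarith)
    rcases box2 t t' d (by rw [← ht, ← ht']; linarith) with ⟨e1, e2⟩ | ⟨e0, e1, e2⟩ | ⟨e0, e1, e2⟩
    · exact Or.inl ⟨by rw [ht, e1]; norm_num, by rw [ht', e2]; norm_num⟩
    · exact Or.inr (Or.inl ⟨hdi.mp e0, by rw [ht, e1]; norm_num, by rw [ht', e2]; norm_num⟩)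
    · refine Or.inr (Or.inr ⟨fun hi => ?_, by rw [ht, e1]; norm_num, by rw [ht', e2]; norm_num⟩)
      have := hdi.mpr hi
      omega
  choose hFo x y hxa hxb hya hyb hxr hyp hcases using kval
  have hnorm : ∀ i, ∑ c, F i (coords p r a b c) * F i (coords p r a b c) =
      1 + (x i + if i = 0 then 1 else 0) * (x i + if i = 0 then 1 else 0) +
        (y i - x i - 1) * (y i - x i - 1) + 2 * (x i * x i + y i * y i) := fun i => by
    rw [coords_norm, Fin.sum_univ_two, Fin.sum_univ_two, Fin.sum_univ_two, hFo,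
      sq_of_mul hS.r2 (hxr i), sq_of_mul (hS.p2 1) (hyp i), sq_of_mul (hP.sa2 0) (hxa i),
      sq_of_mul (hP.sb2 0) (hxb i), sq_of_mul (hP.sa2 1) (hya i), sq_of_mul (hP.sb2 1) (hyb i)]
    simp only [neg_mul_neg]
    ring
  have hfull : ∀ i, ∑ c, F i (coords p r a b c) * F i (coords p r a b c) = 3 →
      ∀ z, (∀ c, coords p r a b c ≠ z) → F i z = 0 := fun i hi z hz =>
    eq_zero_outside hS.inj (by rw [hi, hFF, if_pos rfl]) hz
  have hdot : ∀ i j, (∀ z, (∀ c, coords p r a b c ≠ z) → F i z = 0) → dot (F i) (F j) =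
      1 + (x i + if i = 0 then 1 else 0) * (x j + if j = 0 then 1 else 0) +
        (y i - x i - 1) * (y j - x j - 1) + 2 * (x i * x j + y i * y j) := fun i j hi => by
    rw [dot_outside hS.inj hi]
    simp only [coords, Fintype.sum_sum_type, Sum.elim_inl, Sum.elim_inr, Fin.sum_univ_two,
      Finset.sum_const, Finset.card_univ, Fintype.card_unit, one_smul]
    rw [Fin.sum_univ_two, Fin.sum_univ_two, Fin.sum_univ_two, hFo, hFo,
      val_of_mul (hS.p2 1) (hyp i), val_of_mul (hS.p2 1) (hyp j),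
      val_of_mul hS.r2 (hxr i), val_of_mul hS.r2 (hxr j), val_of_mul (hP.sa2 0) (hxa i),
      val_of_mul (hP.sa2 0) (hxa j), val_of_mul (hP.sb2 0) (hxb i), val_of_mul (hP.sb2 0) (hxb j),
      val_of_mul (hP.sa2 1) (hya i), val_of_mul (hP.sa2 1) (hya j), val_of_mul (hP.sb2 1) (hyb i),
      val_of_mul (hP.sb2 1) (hyb j)]
    linear_combination (y i - x i - 1) * (y j - x j - 1) * hS.p2 1 +
      (x i + if i = 0 then 1 else 0) * (x j + if j = 0 then 1 else 0) * hS.r2 +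
      x i * x j * (hP.sa2 0 + hP.sb2 0) + y i * y j * (hP.sa2 1 + hP.sb2 1)
  -- no orbit vector is full except the first one of the standard kind
  have hzero : ∀ i, x i = 0 ∧ y i = 0 := by
    intro i
    rcases hcases i with hc | ⟨hi, hxi, hyi⟩ | ⟨hi, hxi, hyi⟩
    · exact hc
    all_goals
      exfalso
      have hfi : ∑ c, F i (coords p r a b c) * F i (coords p r a b c) = 3 := by
        rw [hnorm, hxi, hyi]; simp [hi]
      obtain ⟨j, hji, hj0⟩ : ∃ j : Fin 4, j ≠ i ∧ j ≠ 0 := by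
        rcases eq_or_ne i 1 with e | e
        · exact ⟨2, by rw [e]; decide, by decide⟩
        · exact ⟨1, Ne.symm e, by decide⟩
      have hd := hdot i j (hfull i hfi)
      rw [hFF, if_neg hji.symm, hxi, hyi] at hd
      rcases hcases j with ⟨hxj, hyj⟩ | ⟨hj, -, -⟩ | ⟨-, hxj, hyj⟩
      · rw [hxj, hyj] at hd
        simp [hi, hj0] at hd
      · exact hj0 hj
      · rw [hxj, hyj] at hd
        simp [hi, hj0] at hd
  have hn0 : ∑ c, F 0 (coords p r a b c) * F 0 (coords p r a b c) = 3 := by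
    rw [hnorm, (hzero 0).1, (hzero 0).2]; norm_num
  have hq : ∀ k : Fin 3, ∃ q, (∀ c, coords p r a b c ≠ q) ∧ F k.succ q * F k.succ q = 1 ∧
      ∀ z, (∀ c, coords p r a b c ≠ z) → z ≠ q → F k.succ z = 0 := fun k =>
    exists_outside hS.inj (by
      rw [hnorm, (hzero _).1, (hzero _).2, hFF, if_pos rfl, if_neg (Fin.succ_ne_zero k)]
      norm_num)
  choose q hqo hq2 hqz using hq
  have hqi : Function.Injective q := by
    intro k k' e
    by_contra hne
    have hg : Function.Injective (coordsExt p r a b (fun _ : Fin 1 => q k)) :=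
      hS.injExt (fun _ c => hqo k c) (fun i j _ => Subsingleton.elim i j)
    have h2 := hFF k.succ k'.succ
    rw [if_neg (fun e' => hne (Fin.succ_injective _ e')), dot_outside hg (fun z hz =>
      hqz k z (fun c => hz (Sum.inl c)) (fun e' => hz (Sum.inr 0) e'.symm))] at h2
    simp only [coordsExt, coords, Fintype.sum_sum_type, Sum.elim_inl, Sum.elim_inr,
      Fin.sum_univ_two, Finset.sum_const, Finset.card_univ, Fintype.card_unit, one_smul,
      Fintype.card_fin] at h2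
    have hne' : F k.succ (q k) * F k'.succ (q k) ≠ 0 := by
      have h3 := hq2 k'
      rw [← e] at h3
      exact mul_ne_zero (fun e' => by simpa [e'] using hq2 k) (fun e' => by simpa [e'] using h3)
    rw [Fin.sum_univ_two, Fin.sum_univ_two, Fin.sum_univ_two, hFo, hFo, val_of_mul (hS.p2 1) (hyp k.succ), val_of_mul (hS.p2 1) (hyp k'.succ),
      val_of_mul hS.r2 (hxr k.succ), val_of_mul hS.r2 (hxr k'.succ),
      val_of_mul (hP.sa2 0) (hxa k.succ), val_of_mul (hP.sb2 0) (hxb k.succ),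
      val_of_mul (hP.sa2 1) (hya k.succ), val_of_mul (hP.sb2 1) (hyb k.succ),
      (hzero k.succ).1, (hzero k.succ).2, (hzero k'.succ).1, (hzero k'.succ).2] at h2
    simp only [Fin.succ_ne_zero, if_false, add_zero, sub_zero, mul_zero, zero_mul, neg_zero,
      zero_sub, mul_neg, mul_one, neg_mul, neg_neg, hS.p2 1] at h2
    exact hne' (by linarith)
  have hqv : ∀ k c, coords p r a b c ≠ q k := hqo
  have hg := hS.injExt hqv hqi
  set S : Slot 2 ⊕ Fin 3 → ℤ :=
    Sum.elim (StarData.signs T sa sb r p (fun _ => 1) 1) (fun k => F k.succ (q k)) with hSdef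
  refine ⟨coordsExt p r a b q ∘ slot2, S ∘ slot2, hg.comp slot2_inj, fun j => ?_,
    fun i => push_of_slots slot2_surj (mF i) (fun c => ?_) (fun z hz => ?_),
    fun i => push_of_slots slot2_surj (mW i) (hS.W_ext hqv _ i)
      (fun y hy => hS.W_out i fun c => hy (Sum.inl c)),
    fun i => push_of_slots slot2_surj (mT i) (hS.T_ext hqv (fun _ => rfl) rfl _ i)
      (fun y hy => hS.T_out i fun c => hy (Sum.inl c))⟩
  · rcases hc : slot2 j with c | c
    · simp only [Function.comp_apply, hSdef, hc, Sum.elim_inl]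
      exact hS.signs_sq (fun _ => rfl) rfl c
    · simp only [Function.comp_apply, hSdef, hc, Sum.elim_inr]
      exact hq2 c
  · obtain ⟨hxi, hyi⟩ := hzero i
    rcases c with (k | k | k | k) | k <;>
      simp only [coordsExt, coords, hSdef, StarData.signs, sF2, Sum.elim_inl, Sum.elim_inr,
        Pi.zero_apply, mul_zero, one_mul]
    · fin_cases k
      · simp [hFo, hS.p0, hTo]
        exact (hS.p0 ▸ hFo i)
      · simp [val_of_mul (hS.p2 1) (hyp i), hxi, hyi]
    · rw [val_of_mul hS.r2 (hxr i), hxi]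
      simp
    · fin_cases k
      · simpa [hxi] using val_of_mul (hP.sa2 0) (hxa i)
      · simpa [hyi] using val_of_mul (hP.sa2 1) (hya i)
    · fin_cases k
      · simpa [hxi] using val_of_mul (hP.sb2 0) (hxb i)
      · simpa [hyi] using val_of_mul (hP.sb2 1) (hyb i)
    · split_ifs with hik
      · rw [hik, mul_one]
      · rw [mul_zero]
        rcases Fin.eq_zero_or_eq_succ i with rfl | ⟨k', rfl⟩
        · exact hfull 0 hn0 _ (hqo k)
        · exact hqz k' _ (hqo k) fun e => hik (by rw [hqi e])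
  · have hout : ∀ c, coords p r a b c ≠ z := fun c => hz (Sum.inl c)
    rcases Fin.eq_zero_or_eq_succ i with rfl | ⟨k', rfl⟩
    · exact hfull 0 hn0 z hout
    · exact hqz k' z hout fun e => hz (Sum.inr k') e.symm

end Two

section One

theorem model1_gram : (∀ i j, dot (model1.F i) (model1.F j) = if i = j then 2 else 1) ∧
    (∀ i j, dot (model1.F i) (model1.W j) = 0) ∧
    (∀ i j, dot (model1.F i) (model1.T j) = if (i : ℕ) < 2 then 0 else -1) ∧
    dot (model1.W 0) (model1.W 0) = 2 ∧ dot (model1.T 0) (model1.W 0) = -1 ∧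
    dot (model1.T 0) (model1.T 0) = 4 ∧ model1.W 0 0 = 0 ∧ model1.T 0 0 = 1 ∧
    ∀ i, model1.F i 0 = -1 := by
  decide +kernel

/-- The slots of the first model. -/
def slot1 : Fin 11 → Unit ⊕ Fin 8 ⊕ Fin 2 :=
  ![Sum.inl (), Sum.inr (Sum.inl 0), Sum.inr (Sum.inl 1), Sum.inr (Sum.inl 2),
    Sum.inr (Sum.inl 3), Sum.inr (Sum.inl 4), Sum.inr (Sum.inl 5), Sum.inr (Sum.inl 6),
    Sum.inr (Sum.inl 7), Sum.inr (Sum.inr 0), Sum.inr (Sum.inr 1)]

theorem slot1_surj : Function.Surjective slot1 := by decide +kernel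

theorem slot1_inj : Function.Injective slot1 := by decide +kernel

theorem model1_slots : (∀ (i : Fin 8) (j : Fin 11), model1.F i j =
      Sum.elim (fun _ : Unit => (-1 : ℤ))
        (Sum.elim (fun k : Fin 8 => if k = i then 1 else 0) (0 : Fin 2 → ℤ)) (slot1 j)) ∧
    (∀ (i : Fin 1) (j : Fin 11), model1.W i j =
      Sum.elim (0 : Unit → ℤ) (Sum.elim (0 : Fin 8 → ℤ) ![(1 : ℤ), -1]) (slot1 j)) ∧
    ∀ (i : Fin 1) (j : Fin 11), model1.T i j =
      Sum.elim (fun _ : Unit => (1 : ℤ))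
        (Sum.elim (fun k : Fin 8 => if (k : ℕ) < 2 then 1 else 0) ![-1, 0]) (slot1 j) := by
  decide +kernel

theorem fits1 {o : ι} {F : Fin 8 → ι → ℤ} {W T : Fin 1 → ι → ℤ} (h : Config model1 o F W T) :
    ∃ f s, Fits model1 F W T f s := by
  classical
  obtain ⟨gFF, gFW, gFT, gWW, gTW, gTT, gWo, gTo, gFo⟩ := model1_gram
  obtain ⟨mF, mW, mT⟩ := model1_slots
  have hFo : ∀ i, F i o = -1 := fun i => by rw [h.Fo, gFo]
  have hq : ∀ i, ∃ q, q ≠ o ∧ F i q * F i q = 1 ∧ ∀ z, z ≠ o → z ≠ q → F i z = 0 := fun i => by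
    obtain ⟨q, hq, hq2, hqz⟩ := exists_outside (g := fun _ : Unit => o)
      (fun a b _ => Subsingleton.elim a b) (u := F i) (by
        rw [h.FF, gFF, if_pos rfl]; simp [hFo])
    exact ⟨q, fun e => hq () e.symm, hq2, fun z hz hz' => hqz z (fun _ e => hz e.symm) hz'⟩
  choose q hqo hq2 hqz using hq
  have hdotF : ∀ i (u : ι → ℤ), dot (F i) u = -u o + F i (q i) * u (q i) := fun i u => by
    rw [dot_two (hqo i).symm (hqz i), hFo]; ring
  have hqne : ∀ i, F i (q i) ≠ 0 := fun i e => by simpa [e] using hq2 i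
  have hqi : Function.Injective q := by
    intro i j e
    by_contra hne
    have h1 := h.FF i j
    rw [gFF, if_neg hne, hdotF, hFo] at h1
    rw [e] at h1
    rcases mul_eq_zero.mp (by linarith : F i (q j) * F j (q j) = 0) with e' | e'
    · exact hqne i (e ▸ e')
    · exact hqne j e'
  have hWo : W 0 o = 0 := by rw [h.Wo, gWo]
  have hTo : T 0 o = 1 := by rw [h.To, gTo]
  have hWq : ∀ i, W 0 (q i) = 0 := fun i => by
    have h1 := h.FW i 0
    rw [gFW, hdotF, hWo, neg_zero, zero_add] at h1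
    exact (mul_eq_zero.mp h1).resolve_left (hqne i)
  have hTq : ∀ i : Fin 8, F i (q i) * T 0 (q i) = if (i : ℕ) < 2 then 1 else 0 := fun i => by
    have h1 := h.FT i 0
    rw [gFT, hdotF, hTo] at h1
    split_ifs at h1 ⊢ <;> linarith
  obtain ⟨a₀, b₀, hab₀, ha₀, hb₀, hWz₀⟩ := shape_two (u := W 0) (by rw [h.WW, gWW])
  have hTW := h.TW 0 0
  rw [gTW, dot_comm, dot_two hab₀ hWz₀] at hTW
  have hne : ∀ {c}, W 0 c * W 0 c = 1 → o ≠ c ∧ ∀ i, q i ≠ c := fun {c} hc =>
    ⟨fun e => by subst e; simp [hWo] at hc, fun i e => by subst e; simp [hWq] at hc⟩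
  have hg0 : ∀ {a b : ι}, a ≠ b → W 0 a * W 0 a = 1 → W 0 b * W 0 b = 1 →
      Function.Injective (Sum.elim (fun _ : Unit => o) (Sum.elim q ![a, b])) := by
    intro a b hab ha hb
    rintro (i | i | i) (j | j | j) e <;> simp only [Sum.elim_inl, Sum.elim_inr] at e
    · rfl
    · exact absurd e.symm (hqo j)
    · fin_cases j
      · exact absurd e (hne ha).1
      · exact absurd e (hne hb).1
    · exact absurd e (hqo i)
    · rw [hqi e]
    · fin_cases j
      · exact absurd e ((hne ha).2 i)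
      · exact absurd e ((hne hb).2 i)
    · fin_cases i
      · exact absurd e.symm (hne ha).1
      · exact absurd e.symm (hne hb).1
    · fin_cases i
      · exact absurd e.symm ((hne ha).2 j)
      · exact absurd e.symm ((hne hb).2 j)
    · fin_cases i <;> fin_cases j
      · rfl
      · exact absurd e hab
      · exact absurd e.symm hab
      · rfl
  have hTsum : ∑ i, T 0 (q i) * T 0 (q i) = 2 := by
    rw [Finset.sum_congr rfl fun i _ => sq_of_mul (hq2 i) (hTq i), Fin.sum_univ_eight]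
    norm_num
  have hT4 : T 0 a₀ * T 0 a₀ + T 0 b₀ * T 0 b₀ ≤ 1 := by
    have := norm_ge (hg0 hab₀ ha₀ hb₀) (T 0)
    rw [h.TT, gTT] at this
    simp [Fintype.sum_sum_type, hTo, hTsum] at this
    linarith
  obtain ⟨a, b, hab, ha, hb, hWz, hTa, hTb⟩ : ∃ a b, a ≠ b ∧ W 0 a * W 0 a = 1 ∧
      W 0 b * W 0 b = 1 ∧ (∀ z, z ≠ a → z ≠ b → W 0 z = 0) ∧ T 0 a = -W 0 a ∧ T 0 b = 0 := by
    have h0 : T 0 a₀ = 0 ∨ T 0 b₀ = 0 := by
      by_contra hh
      push Not at hh
      have := mul_self_pos.mpr hh.1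
      have := mul_self_pos.mpr hh.2
      omega
    rcases h0 with f | f
    · refine ⟨b₀, a₀, hab₀.symm, hb₀, ha₀, fun z h1 h2 => hWz₀ z h2 h1, ?_, f⟩
      rw [f, mul_zero, zero_add] at hTW
      linear_combination W 0 b₀ * hTW - T 0 b₀ * hb₀
    · refine ⟨a₀, b₀, hab₀, ha₀, hb₀, hWz₀, ?_, f⟩
      rw [f, mul_zero, add_zero] at hTW
      linear_combination W 0 a₀ * hTW - T 0 a₀ * ha₀
  have hg := hg0 hab ha hb
  set S : Unit ⊕ Fin 8 ⊕ Fin 2 → ℤ :=
    Sum.elim (fun _ => 1) (Sum.elim (fun i => F i (q i)) ![W 0 a, -W 0 b]) with hSdef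
  refine ⟨Sum.elim (fun _ => o) (Sum.elim q ![a, b]) ∘ slot1, S ∘ slot1, hg.comp slot1_inj,
    fun j => ?_,
    fun i => push_of_slots slot1_surj (mF i) (fun c => ?_)
      (fun z hz => hqz i z (fun e => hz (Sum.inl ()) e.symm)
        (fun e => hz (Sum.inr (Sum.inl i)) e.symm)),
    fun i => push_of_slots slot1_surj (mW i) (fun c => ?_) (fun z hz => ?_),
    fun i => push_of_slots slot1_surj (mT i) (fun c => ?_) (fun z hz => ?_)⟩
  · simp only [Function.comp_apply, hSdef]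
    rcases slot1 j with c | c | c
    · rfl
    · exact hq2 c
    · fin_cases c <;> simp [ha, hb]
  · rcases c with k | k | k <;>
      simp only [hSdef, Sum.elim_inl, Sum.elim_inr, Pi.zero_apply, mul_zero]
    · rw [hFo]; norm_num
    · split_ifs with hk
      · rw [hk, mul_one]
      · rw [mul_zero]; exact hqz i _ (hqo k) fun e => hk (hqi e)
    · fin_cases k
      · exact hqz i _ (hne ha).1.symm ((hne ha).2 i).symm
      · exact hqz i _ (hne hb).1.symm ((hne hb).2 i).symm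
  · obtain rfl : i = 0 := Subsingleton.elim _ _
    rcases c with k | k | k <;>
      simp only [hSdef, Sum.elim_inl, Sum.elim_inr, Pi.zero_apply, mul_zero]
    · exact hWo
    · exact hWq k
    · fin_cases k <;> simp
  · obtain rfl : i = 0 := Subsingleton.elim _ _
    exact hWz z (fun e => hz (Sum.inr (Sum.inr 0)) e.symm) (fun e => hz (Sum.inr (Sum.inr 1)) e.symm)
  · obtain rfl : i = 0 := Subsingleton.elim _ _
    rcases c with k | k | k <;>
      simp only [hSdef, Sum.elim_inl, Sum.elim_inr, Pi.zero_apply, mul_zero]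
    · rw [hTo]; norm_num
    · exact val_of_mul (hq2 k) (hTq k)
    · fin_cases k <;> simp [hTa, hTb]
  · obtain rfl : i = 0 := Subsingleton.elim _ _
    refine eq_zero_outside hg (le_of_eq ?_) hz
    rw [h.TT, gTT]
    simp [Fintype.sum_sum_type, hTo, hTsum, hTa, hTb, ha]

end One

end Cfsg.Agent.Char.X27
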