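import Cfsg.Agent.Lib.Char.X27.Vec

/-!
# Model lattices for the principal three-block
-/

set_option autoImplicit false

namespace Cfsg.Agent.Char.X27

/-- A family of vectors split into orbit vectors, differences and mixed vectors. -/
structure Model (k n l : ℕ) where
  F : Fin n → Fin k → ℤ
  W : Fin l → Fin k → ℤ
  T : Fin l → Fin k → ℤ

/-- The model for trivial inertial quotient. -/
def model1 : Model 11 8 1 where
  F i j := if (j : ℕ) = 0 then -1 else if (j : ℕ) = i + 1 then 1 else 0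
  W _ := ![0, 0, 0, 0, 0, 0, 0, 0, 0, 1, -1]
  T _ := ![1, 1, 1, 0, 0, 0, 0, 0, 0, -1, 0]

/-- The model for inertial quotient of order two. -/
def model2 : Model 10 4 2 where
  F i j := if (j : ℕ) ≤ 1 then -1 else if (j : ℕ) = i + 2 then 1 else 0
  W := ![![0, 0, 0, 0, 0, 0, 1, 0, -1, 0], ![0, 0, 0, 0, 0, 0, 0, 1, 0, -1]]
  T := ![![1, 0, 1, 0, 0, 0, -1, 0, 0, 0], ![0, 1, 1, 0, 0, 0, 0, -1, 0, 0]]

/-- The model for inertial quotient of order four. -/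
def model4 : Model 14 2 4 where
  F i j := if (j : ℕ) ≤ 3 then -1 else if (j : ℕ) = i + 4 then 1 else 0
  W i j := if (j : ℕ) = i + 6 then 1 else if (j : ℕ) = i + 10 then -1 else 0
  T i j := if (j : ℕ) = i then 1 else if (j : ℕ) = 4 then -1 else if (j : ℕ) = i + 6 then -1 else 0

/-- The model for inertial quotient of order eight. -/
def model8 : Model 16 1 5 where
  F _ := ![-1, -1, -1, -1, -2, 1, 0, 0, 0, 0, 0, 0, 0, 0, 0, 0]
  W i j := if (j : ℕ) = i + 6 then 1 else if (j : ℕ) = i + 11 then -1 else 0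
  T i j := if (j : ℕ) = i + 6 then -1
    else if (i : ℕ) = 4 then (if (j : ℕ) = 4 then 1 else if (j : ℕ) = 5 then -1 else 0)
    else if (j : ℕ) = i ∨ (j : ℕ) = 4 then 1 else 0

variable {ι : Type*} [Fintype ι] {k n l : ℕ}

/-- Vectors with the inner products and first coordinates of a model. -/
structure Config (m : Model (k + 1) n l) (o : ι) (F : Fin n → ι → ℤ) (W T : Fin l → ι → ℤ) :
    Prop where
  FF : ∀ i j, dot (F i) (F j) = dot (m.F i) (m.F j)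
  FW : ∀ i j, dot (F i) (W j) = dot (m.F i) (m.W j)
  FT : ∀ i j, dot (F i) (T j) = dot (m.F i) (m.T j)
  WW : ∀ i j, dot (W i) (W j) = dot (m.W i) (m.W j)
  TW : ∀ i j, dot (T i) (W j) = dot (m.T i) (m.W j)
  TT : ∀ i j, dot (T i) (T j) = dot (m.T i) (m.T j)
  Fo : ∀ i, F i o = m.F i 0
  Wo : ∀ i, W i o = m.W i 0
  To : ∀ i, T i o = m.T i 0

/-- Vectors obtained from a model by a signed injection. -/
structure Fits (m : Model k n l) (F : Fin n → ι → ℤ) (W T : Fin l → ι → ℤ) (f : Fin k → ι)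
    (s : Fin k → ℤ) : Prop where
  inj : Function.Injective f
  sq : ∀ j, s j * s j = 1
  pF : ∀ i, Push f s (m.F i) (F i)
  pW : ∀ i, Push f s (m.W i) (W i)
  pT : ∀ i, Push f s (m.T i) (T i)

theorem Fits.card_support {m : Model k n l} {F : Fin n → ι → ℤ} {W T : Fin l → ι → ℤ}
    {f : Fin k → ι} {s : Fin k → ℤ} (h : Fits m F W T f s)
    (hm : ∀ j, (∃ i, m.F i j ≠ 0) ∨ (∃ i, m.W i j ≠ 0) ∨ ∃ i, m.T i j ≠ 0) :
    Nat.card {χ : ι // (∃ i, F i χ ≠ 0) ∨ (∃ i, W i χ ≠ 0) ∨ ∃ i, T i χ ≠ 0} = k := by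
  classical
  have hs : ∀ j, s j ≠ 0 := fun j e => by simpa [e] using h.sq j
  have hne : ∀ {v : Fin k → ℤ} {w : ι → ℤ}, Push f s v w → ∀ j, v j ≠ 0 → w (f j) ≠ 0 :=
    fun hp j hv => by rw [hp.at_f]; exact mul_ne_zero (hs j) hv
  have hmem : ∀ j, (∃ i, F i (f j) ≠ 0) ∨ (∃ i, W i (f j) ≠ 0) ∨ ∃ i, T i (f j) ≠ 0 := fun j => by
    rcases hm j with ⟨i, hi⟩ | ⟨i, hi⟩ | ⟨i, hi⟩
    · exact Or.inl ⟨i, hne (h.pF i) j hi⟩
    · exact Or.inr (Or.inl ⟨i, hne (h.pW i) j hi⟩)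
    · exact Or.inr (Or.inr ⟨i, hne (h.pT i) j hi⟩)
  rw [← Nat.card_eq_of_bijective (fun j : Fin k => (⟨f j, hmem j⟩ :
    {χ : ι // (∃ i, F i χ ≠ 0) ∨ (∃ i, W i χ ≠ 0) ∨ ∃ i, T i χ ≠ 0}))
    ⟨fun a b e => h.inj (congrArg Subtype.val e), fun χ => ?_⟩, Nat.card_fin]
  by_contra hno
  have hout : ∀ j, f j ≠ χ.1 := fun j e => hno ⟨j, Subtype.ext e⟩
  rcases χ.2 with ⟨i, hi⟩ | ⟨i, hi⟩ | ⟨i, hi⟩
  · exact hi ((h.pF i).off _ hout)
  · exact hi ((h.pW i).off _ hout)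
  · exact hi ((h.pT i).off _ hout)

theorem Fits.card_height {m : Model k n l} {F : Fin n → ι → ℤ} {W T : Fin l → ι → ℤ}
    {f : Fin k → ι} {s : Fin k → ℤ} (h : Fits m F W T f s) {c : ℕ}
    (hc : (Finset.univ.filter fun j => ¬ (3 : ℤ) ∣ ∑ i, m.F i j).card = c) :
    Nat.card {χ : ι // ¬ (3 : ℤ) ∣ ∑ i, F i χ} = c := by
  classical
  rw [← hc, ← Fintype.card_subtype, ← Nat.card_eq_fintype_card]
  have key : ∀ j, (3 : ℤ) ∣ ∑ i, F i (f j) ↔ (3 : ℤ) ∣ ∑ i, m.F i j := fun j => by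
    simp only [fun i => (h.pF i).at_f j, ← Finset.mul_sum]
    rcases sign_of_sq (h.sq j) with e | e <;> simp [e]
  refine (Nat.card_eq_of_bijective (fun j => (⟨f j.1, fun hd => j.2 ((key j.1).mp hd)⟩ :
    {χ : ι // ¬ (3 : ℤ) ∣ ∑ i, F i χ}))
    ⟨fun a b e => Subtype.ext (h.inj (congrArg Subtype.val e)), fun χ => ?_⟩).symm
  obtain ⟨j, hj⟩ : ∃ j, f j = χ.1 := by
    by_contra hno
    push Not at hno
    exact χ.2 (by simp [fun i => (h.pF i).off _ hno])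
  exact ⟨⟨j, fun hd => χ.2 (hj ▸ (key j).mpr hd)⟩, Subtype.ext hj⟩

end Cfsg.Agent.Char.X27
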