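import Cfsg.Agent.Lib.Char.X27.Cartan
import Cfsg.Agent.Lib.Char.X27.Models

/-!
# Framing the principal block of the centralizer by a model
-/

set_option autoImplicit false
set_option linter.unusedSectionVars false

namespace Cfsg.Agent.Char.X27

open Cfsg Module
open scoped ComplexConjugate

universe u

variable {G : Type u} [Group G] [Fintype G] [Fact (Nat.Prime 3)]

namespace Cen

variable {M : Ideal AlgInt} {P : Sylow 3 G} {z : G} {e k n l : ℕ}

/-- The combination of signed characters given by a vector. -/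
noncomputable def combo {k : ℕ} (f : Fin k → IrrCharacter G) (s v : Fin k → ℤ) : G → ℂ :=
  ∑ j, ((v j * s j : ℤ) : ℂ) • (f j : G → ℂ)

/-- A model realised in the principal block. -/
structure Frame (h : Cen M P z e) (m : Model (k + 1) n l) (r : Fin n → ↥(P : Subgroup G))
    (f : Fin (k + 1) → IrrCharacter G) (s : Fin (k + 1) → ℤ) : Prop where
  inj : Function.Injective f
  sq : ∀ j, s j * s j = 1
  first : f 0 = triv G
  first_sign : s 0 = 1
  mem : ∀ χ, χ ∈ principalBlock M G ↔ ∃ j, f j = χ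
  rank : blockRank 3 (principalBlock M G) = l
  orbF : ∀ i, combo f s (m.F i) = h.orbL (r i)
  regW : ∀ i, ∀ v : G, ¬ 3 ∣ orderOf v → combo f s (m.W i) v = 0
  regT : ∀ i, ∀ v : G, ¬ 3 ∣ orderOf v → combo f s (m.T i) v = 0

/-- The model built from an integral change to a basic set. -/
def frameF (c : Fin n → Fin l → ℤ) (i : Fin n) : (Fin l ⊕ Fin n) ⊕ (Fin l ⊕ Fin l) → ℤ :=
  Sum.elim (Sum.elim (fun a => -c i a) (fun p => if p = i then 1 else 0)) 0

/-- The model difference vectors. -/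
def frameW (n : ℕ) (i : Fin l) : (Fin l ⊕ Fin n) ⊕ (Fin l ⊕ Fin l) → ℤ :=
  Sum.elim 0
    (Sum.elim (fun a => if a = i then 1 else 0) (fun a => if a = i then -1 else 0))

/-- The model mixed vectors. -/
def frameT (tA : Fin l → Fin l ⊕ Fin n → ℤ) (i : Fin l) :
    (Fin l ⊕ Fin n) ⊕ (Fin l ⊕ Fin l) → ℤ :=
  Sum.elim (tA i) (Sum.elim (fun a => if a = i then -1 else 0) 0)

/-- The combination given on slots. -/
theorem combo_slots {κ : Type*} [Fintype κ] {k : ℕ} {slot : Fin k → κ}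
    (hs : Function.Bijective slot) (g : κ → IrrCharacter G) (S : κ → ℤ) {v : Fin k → ℤ}
    {V : κ → ℤ} (hv : ∀ j, v j = V (slot j)) :
    combo (g ∘ slot) (S ∘ slot) v = ∑ c, ((V c * S c : ℤ) : ℂ) • (g c : G → ℂ) := by
  rw [combo]
  exact Fintype.sum_bijective slot hs _ _ fun j => by simp [hv]

variable (h : Cen M P z e)
include h

open scoped _root_.Classical in
/-- The number of twisted characters. -/
theorem card_A1 {r : Fin n → ↥(P : Subgroup G)} (hr : ∀ i, (r i : G) ∉ Subgroup.zpowers z)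
    (hinj : ∀ i j, pclass P (r i) = pclass P (r j) → i = j)
    (hall : ∀ w : ↥(P : Subgroup G), (w : G) ∉ Subgroup.zpowers z →
      ∃ i, pclass P w = pclass P (r i))
    {κ : Type*} [Fintype κ] {g : κ → IrrCharacter G} (hg : Function.Injective g)
    (hcov : ∀ χ, χ ∈ APart M z 0 ↔ ∃ c, g c = χ) :
    Nat.card (APart M z 1) + n = Fintype.card κ := by
  rw [← h.card_part_zero hr hinj hall, ← Nat.card_eq_fintype_card]
  exact (Nat.card_eq_of_bijective (fun c => (⟨g c, (hcov _).mpr ⟨c, rfl⟩⟩ : APart M z 0))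
    ⟨fun a b e' => hg (congrArg Subtype.val e'), fun χ => by
      obtain ⟨c, hc⟩ := (hcov χ.1).mp χ.2
      exact ⟨c, Subtype.ext hc⟩⟩).symm

open scoped _root_.Classical in
/-- Assembling a frame. -/
theorem exists_frame {m : Model (k + 1) n l} {r : Fin n → ↥(P : Subgroup G)}
    (hr : ∀ i, (r i : G) ∉ Subgroup.zpowers z)
    (hinj : ∀ i j, pclass P (r i) = pclass P (r j) → i = j)
    (hall : ∀ w : ↥(P : Subgroup G), (w : G) ∉ Subgroup.zpowers z →
      ∃ i, pclass P w = pclass P (r i))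
    {slot : Fin (k + 1) → (Fin l ⊕ Fin n) ⊕ (Fin l ⊕ Fin l)} (hslot : Function.Bijective slot)
    {c : Fin n → Fin l → ℤ} {tA : Fin l → Fin l ⊕ Fin n → ℤ} {tgt : Fin l → Fin l → ℤ}
    (hmF : ∀ i j, m.F i j = frameF c i (slot j)) (hmW : ∀ i j, m.W i j = frameW n i (slot j))
    (hmT : ∀ i j, m.T i j = frameT tA i (slot j))
    (htgt : ∀ i a, tgt i a = tA i (Sum.inl a) + ∑ p, tA i (Sum.inr p) * c p a)
    (hsol : ∀ N : Fin l → Fin l → ℤ,
      (∀ a b, ∑ i, N i a * N i b = (if a = b then 1 else 0) + ∑ p, c p a * c p b) →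
        ∃ (π : Fin l → Fin l) (η : Fin l → ℤ), Function.Injective π ∧ (∀ i, η i * η i = 1) ∧
          ∀ i a, η i * N (π i) a = tgt i a)
    {g : Fin l ⊕ Fin n → IrrCharacter G} {S : Fin l ⊕ Fin n → ℤ} (hg : Function.Injective g)
    (hcov : ∀ χ, χ ∈ APart M z 0 ↔ ∃ x, g x = χ) (hS : ∀ x, S x * S x = 1)
    {x₀ : Fin l ⊕ Fin n} (hx₀ : slot 0 = Sum.inl x₀) (hg0 : g x₀ = triv G) (hS0 : S x₀ = 1)
    (horb : ∀ i, (∑ x, ((Sum.elim (fun a => -c i a) (fun p => if p = i then 1 else 0) x * S x : ℤ) : ℂ)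
      • (g x : G → ℂ)) = h.orbL (r i)) :
    ∃ f s, Frame h m r f s := by
  have hl : Nat.card (APart M z 1) = l := by
    have := h.card_A1 hr hinj hall hg hcov
    rw [Fintype.card_sum, Fintype.card_fin, Fintype.card_fin] at this
    omega
  -- the pivots on the regular elements
  have hpiv : ∀ i, ∀ v : G, ¬ 3 ∣ orderOf v → (S (Sum.inr i) : ℂ) * (g (Sum.inr i) : G → ℂ) v =
      ∑ a, (c i a : ℂ) * ((S (Sum.inl a) : ℂ) * (g (Sum.inl a) : G → ℂ) v) := by
    intro i v hv
    have h1 := congrFun (horb i) v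
    rw [(h.orbL_adm (hr i)).reg v hv] at h1
    simp only [Finset.sum_apply, Pi.smul_apply, smul_eq_mul, Fintype.sum_sum_type, Sum.elim_inl,
      Sum.elim_inr, Int.cast_mul, Int.cast_neg] at h1
    rw [Finset.sum_eq_single i (fun p _ hp => by rw [if_neg hp]; simp)
      (fun hn => absurd (Finset.mem_univ i) hn), if_pos rfl, Int.cast_one, one_mul] at h1
    have e1 : ∑ a, -(c i a : ℂ) * (S (Sum.inl a) : ℂ) * (g (Sum.inl a) : G → ℂ) v =
        -∑ a, (c i a : ℂ) * ((S (Sum.inl a) : ℂ) * (g (Sum.inl a) : G → ℂ) v) := by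
      rw [← Finset.sum_neg_distrib]
      exact Finset.sum_congr rfl fun a _ => by ring
    rw [e1] at h1
    linear_combination h1
  let β : Fin l → IrrCharacter G := fun a => g (Sum.inl a)
  let R : Fin l ⊕ Fin n → Fin l → ℤ :=
    Sum.elim (fun b a => if a = b then 1 else 0) (fun i a => c i a)
  let D : IrrCharacter G → Fin l → ℤ := fun χ a =>
    ∑ x, if g x = χ then S x * R x a * S (Sum.inl a) else 0
  have hDg : ∀ x a, D (g x) a = S x * R x a * S (Sum.inl a) := fun x a =>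
    (Finset.sum_eq_single x (fun y _ hy => if_neg fun e' => hy (hg e'))
      (fun hn => absurd (Finset.mem_univ x) hn)).trans (if_pos rfl)
  have hSC : ∀ x, (S x : ℂ) * (S x : ℂ) = 1 := fun x => by exact_mod_cast hS x
  have hD : ∀ χ ∈ APart M z 0, ∀ v : G, ¬ 3 ∣ orderOf v →
      (χ : G → ℂ) v = ∑ a, (D χ a : ℂ) * (β a : G → ℂ) v := by
    intro χ hχ v hv
    obtain ⟨x, rfl⟩ := (hcov χ).mp hχ
    simp only [hDg, Int.cast_mul]
    rcases x with b | i
    · rw [Finset.sum_eq_single b]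
      · simp [R, β, hSC]
      · intro a _ ha; simp [R, ha]
      · intro hn; exact absurd (Finset.mem_univ b) hn
    · rw [Finset.sum_congr rfl (g := fun a => (S (Sum.inr i) : ℂ) *
        ((c i a : ℂ) * ((S (Sum.inl a) : ℂ) * (g (Sum.inl a) : G → ℂ) v)))
        fun a _ => by simp [R, β]; ring, ← Finset.mul_sum, ← hpiv i v hv, ← mul_assoc, hSC, one_mul]
  obtain ⟨ζ, N, hζ, hζA, hζv, hNN⟩ := h.exists_N hl β (fun a => (hcov _).mpr ⟨_, rfl⟩) D hD
  have hDD : ∀ a b, ∑ χ ∈ (Finset.univ : Finset (IrrCharacter G)).filter (fun s => s ∈ APart M z 0),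
      D χ a * D χ b =
        S (Sum.inl a) * S (Sum.inl b) * ((if a = b then 1 else 0) + ∑ p, c p a * c p b) := by
    intro a b
    rw [show (Finset.univ : Finset (IrrCharacter G)).filter (fun s => s ∈ APart M z 0) =
      Finset.univ.image g by ext χ; simp [hcov], Finset.sum_image hg.injOn, Fintype.sum_sum_type]
    simp only [hDg, R, Sum.elim_inl, Sum.elim_inr, mul_add, Finset.mul_sum]
    congr 1
    · rw [Finset.sum_eq_single a (fun x _ hx => by simp [Ne.symm hx])
        (fun hn => absurd (Finset.mem_univ a) hn), if_pos rfl]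
      by_cases hab : a = b
      · subst hab; rw [if_pos rfl]; linear_combination (S (Sum.inl a) * S (Sum.inl a)) * hS (Sum.inl a)
      · rw [if_neg hab, if_neg (Ne.symm hab)]; ring
    · refine Finset.sum_congr rfl fun p _ => ?_
      linear_combination (c p a * c p b * S (Sum.inl a) * S (Sum.inl b)) * hS (Sum.inr p)
  obtain ⟨π, η, hπ, hη, hπv⟩ := hsol (fun i a => N i a * S (Sum.inl a)) fun a b => by
    rw [Finset.sum_congr rfl (g := fun i => S (Sum.inl a) * S (Sum.inl b) * (N i a * N i b))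
      fun i _ => by ring, ← Finset.mul_sum, hNN a b, hDD a b]
    linear_combination ((if a = b then (1 : ℤ) else 0) + ∑ p, c p a * c p b) *
      (S (Sum.inl b) * S (Sum.inl b) * hS (Sum.inl a) + hS (Sum.inl b))
  obtain ⟨σ, hσ, hσv⟩ := h.exists_sigma
  let G2 : (Fin l ⊕ Fin n) ⊕ (Fin l ⊕ Fin l) → IrrCharacter G :=
    Sum.elim g (Sum.elim (fun i => ζ (π i))
      (fun i => (σ ⟨ζ (π i), hζA _⟩ : IrrCharacter G)))
  let S2 : (Fin l ⊕ Fin n) ⊕ (Fin l ⊕ Fin l) → ℤ := Sum.elim S (Sum.elim η η)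
  have hom : ∀ {χ : IrrCharacter G} {i j : Fin 3}, χ ∈ APart M z i → χ ∈ APart M z j → i = j := by
    intro χ i j hi hj
    exact Fin.ext (om3_prim.pow_inj i.2 j.2 (hi.2.symm.trans hj.2))
  have hG2 : Function.Injective G2 := by
    have h0 : ∀ x, g x ∈ APart M z ((0 : Fin 3) : ℕ) := fun x => (hcov _).mpr ⟨x, rfl⟩
    have h1 : ∀ i, ζ (π i) ∈ APart M z ((1 : Fin 3) : ℕ) := fun i => hζA _
    have h2 : ∀ i, (σ ⟨ζ (π i), hζA _⟩ : IrrCharacter G) ∈ APart M z ((2 : Fin 3) : ℕ) := fun i =>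
      (σ _).2
    rintro (x | x | x) (y | y | y) e' <;> simp only [G2, Sum.elim_inl, Sum.elim_inr] at e'
    · rw [hg e']
    · exact absurd (hom (h0 x) (e' ▸ h1 y)) (by decide)
    · exact absurd (hom (h0 x) (e' ▸ h2 y)) (by decide)
    · exact absurd (hom (h0 y) (e'.symm ▸ h1 x)) (by decide)
    · rw [hπ (hζ e')]
    · exact absurd (hom (h1 x) (e' ▸ h2 y)) (by decide)
    · exact absurd (hom (h0 y) (e'.symm ▸ h2 x)) (by decide)
    · exact absurd (hom (h1 y) (e'.symm ▸ h2 x)) (by decide)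
    · rw [hπ (hζ (congrArg Subtype.val (hσ.1 (Subtype.ext e'))))]
  have hζsurj : ∀ χ ∈ APart M z 1, ∃ i, ζ (π i) = χ := by
    intro χ hχ
    have hc : Fintype.card (Fin l) = Fintype.card (APart M z 1) := by
      rw [Fintype.card_fin, ← hl, Nat.card_eq_fintype_card]
    obtain ⟨i, hi⟩ := ((Fintype.bijective_iff_injective_and_card _).mpr
      ⟨show Function.Injective fun i => (⟨ζ (π i), hζA _⟩ : APart M z 1) from
        fun a b e' => hπ (hζ (congrArg Subtype.val e')), hc⟩).2 ⟨χ, hχ⟩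
    exact ⟨i, congrArg Subtype.val hi⟩
  refine ⟨G2 ∘ slot, S2 ∘ slot,
    { inj := hG2.comp hslot.1
      sq := fun j => ?_
      first := by simp [G2, hx₀, hg0]
      first_sign := by simp [S2, hx₀, hS0]
      mem := fun χ => ⟨fun hχ => ?_, ?_⟩
      rank := h.blockRank_eq.trans hl
      orbF := fun i => ?_
      regW := fun i v hv => ?_
      regT := fun i v hv => ?_ }⟩
  · simp only [Function.comp_apply]
    rcases slot j with x | x | x <;> simp only [S2, Sum.elim_inl, Sum.elim_inr]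
    exacts [hS x, hη x, hη x]
  · obtain ⟨j, hj⟩ := h.exists_omv χ
    have hA : χ ∈ APart M z j := ⟨hχ, hj⟩
    obtain ⟨y, hy⟩ : ∃ y, G2 y = χ := by
      fin_cases j
      · obtain ⟨x, hx⟩ := (hcov χ).mp hA
        exact ⟨Sum.inl x, hx⟩
      · obtain ⟨i, hi⟩ := hζsurj χ hA
        exact ⟨Sum.inr (Sum.inl i), hi⟩
      · obtain ⟨⟨ξ, hξ⟩, he'⟩ := hσ.2 ⟨χ, hA⟩
        obtain ⟨i, hi⟩ := hζsurj ξ hξ
        refine ⟨Sum.inr (Sum.inr i), ?_⟩
        show (σ ⟨ζ (π i), _⟩ : IrrCharacter G) = χ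
        subst hi
        exact congrArg Subtype.val he'
    obtain ⟨t, rfl⟩ := hslot.2 y
    exact ⟨t, hy⟩
  · rintro ⟨j, rfl⟩
    show G2 (slot j) ∈ _
    rcases slot j with x | x | x
    · exact ((hcov _).mpr ⟨x, rfl⟩).1
    · exact (hζA _).1
    · exact (σ _).2.1
  · rw [combo_slots hslot G2 S2 (hmF i), ← horb i]
    simp [Fintype.sum_sum_type, frameF, G2, S2]
  · rw [combo_slots hslot G2 S2 (hmW i), Finset.sum_apply]
    simp only [Fintype.sum_sum_type, frameW, G2, S2, Sum.elim_inl, Sum.elim_inr, Pi.zero_apply,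
      Int.cast_mul, zero_mul, Int.cast_zero, zero_smul, Finset.sum_const_zero, zero_add,
      Pi.smul_apply, smul_eq_mul]
    rw [Finset.sum_eq_single i (fun a _ ha => by simp [ha]) (fun hn => absurd (Finset.mem_univ i) hn),
      Finset.sum_eq_single i (fun a _ ha => by simp [ha]) (fun hn => absurd (Finset.mem_univ i) hn),
      hσv ⟨ζ (π i), hζA _⟩ v hv]
    simp
  · rw [combo_slots hslot G2 S2 (hmT i), Finset.sum_apply]
    simp only [Fintype.sum_sum_type, frameT, G2, S2, Sum.elim_inl, Sum.elim_inr, Pi.zero_apply,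
      Int.cast_mul, zero_mul, Int.cast_zero, zero_smul, Finset.sum_const_zero, add_zero,
      Pi.smul_apply, smul_eq_mul]
    rw [Finset.sum_eq_single (s := (Finset.univ : Finset (Fin l)))
        (f := fun a => ((if a = i then (-1 : ℤ) else 0 : ℤ) : ℂ) * (η a : ℂ) * (ζ (π a) : G → ℂ) v)
        i (fun a _ ha => by simp [ha]) (fun hn => absurd (Finset.mem_univ i) hn), if_pos rfl,
      hζv (π i) v hv]
    have e2 : ∀ a, (η i : ℂ) * (N (π i) a : ℂ) * (β a : G → ℂ) v =
        (tgt i a : ℂ) * ((S (Sum.inl a) : ℂ) * (g (Sum.inl a) : G → ℂ) v) := by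
      intro a
      rw [← hπv i a]
      push_cast
      linear_combination (-(η i : ℂ) * (N (π i) a : ℂ) * (g (Sum.inl a) : G → ℂ) v) * hSC (Sum.inl a)
    have e3 : ∑ p, (tA i (Sum.inr p) : ℂ) * (S (Sum.inr p) : ℂ) * (g (Sum.inr p) : G → ℂ) v =
        ∑ a, (∑ p, (tA i (Sum.inr p) : ℂ) * (c p a : ℂ)) *
          ((S (Sum.inl a) : ℂ) * (g (Sum.inl a) : G → ℂ) v) := by
      simp only [Finset.sum_mul]
      rw [Finset.sum_comm]
      refine Finset.sum_congr rfl fun p _ => ?_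
      rw [mul_assoc, hpiv p v hv, Finset.mul_sum]
      exact Finset.sum_congr rfl fun a _ => by ring
    have e4 : ((-1 : ℤ) : ℂ) * (η i : ℂ) * ∑ a, (N (π i) a : ℂ) * (β a : G → ℂ) v =
        -∑ a, (tgt i a : ℂ) * ((S (Sum.inl a) : ℂ) * (g (Sum.inl a) : G → ℂ) v) := by
      rw [← Finset.sum_congr rfl fun a _ => e2 a, Finset.mul_sum, ← Finset.sum_neg_distrib]
      exact Finset.sum_congr rfl fun a _ => by push_cast; ring
    rw [e3, e4, ← sub_eq_add_neg, sub_eq_zero, ← Finset.sum_add_distrib]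
    refine Finset.sum_congr rfl fun a _ => ?_
    rw [htgt i a]
    push_cast
    ring

end Cen

end Cfsg.Agent.Char.X27
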