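import Cfsg.Agent.Lib.Char.X27.Transfer

/-!
# The invariants of the principal block from a frame in the centralizer
-/

set_option autoImplicit false
set_option linter.unusedSectionVars false
set_option linter.style.haveILetI false

namespace Cfsg.Agent.Char.X27

open Cfsg Module
open scoped ComplexConjugate

universe u

/-- All vectors of a model. -/
def Model.vec {k n l : ℕ} (m : Model k n l) : Fin n ⊕ (Fin l ⊕ Fin l) → Fin k → ℤ :=
  Sum.elim m.F (Sum.elim m.W m.T)

/-- The vectors of a framed model are independent. -/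
theorem Model.indep {k n l : ℕ} {m : Model k n l}
    {slot : Fin k → (Fin l ⊕ Fin n) ⊕ (Fin l ⊕ Fin l)} (hslot : Function.Surjective slot)
    {c : Fin n → Fin l → ℤ} {tA : Fin l → Fin l ⊕ Fin n → ℤ}
    (hmF : ∀ i j, m.F i j = Cen.frameF c i (slot j))
    (hmW : ∀ i j, m.W i j = Cen.frameW n i (slot j))
    (hmT : ∀ i j, m.T i j = Cen.frameT tA i (slot j))
    (b : Fin n ⊕ (Fin l ⊕ Fin l) → ℂ) (hb : ∀ j, ∑ q, b q * (m.vec q j : ℂ) = 0) : b = 0 := by
  have hb' : ∀ t, ∑ i, b (Sum.inl i) * (Cen.frameF c i t : ℂ) +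
      (∑ i, b (Sum.inr (Sum.inl i)) * (Cen.frameW n i t : ℂ) +
        ∑ i, b (Sum.inr (Sum.inr i)) * (Cen.frameT tA i t : ℂ)) = 0 := fun t => by
    obtain ⟨j, rfl⟩ := hslot t
    have := hb j
    simpa [Fintype.sum_sum_type, Model.vec, hmF, hmW, hmT] using this
  have hW : ∀ i, b (Sum.inr (Sum.inl i)) = 0 := fun i => by
    have := hb' (Sum.inr (Sum.inr i))
    simpa [Cen.frameF, Cen.frameW, Cen.frameT, apply_ite] using this
  have hT : ∀ i, b (Sum.inr (Sum.inr i)) = 0 := fun i => by
    have := hb' (Sum.inr (Sum.inl i))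
    simpa [Cen.frameF, Cen.frameW, Cen.frameT, hW, apply_ite] using this
  have hF : ∀ i, b (Sum.inl i) = 0 := fun i => by
    have := hb' (Sum.inl (Sum.inr i))
    simpa [Cen.frameF, hW, hT, apply_ite] using this
  funext q
  rcases q with i | i | i
  exacts [hF i, hW i, hT i]

/-- A sum invariant under a free permutation of order three, up to a multiple of three in the
ideal. -/
theorem orbit_three {α : Type u} {M : Ideal AlgInt} (hM : M.IsPrime) (σ : α → α)
    (h3 : ∀ x, σ (σ (σ x)) = x) (φ : α → ℂ) (hφ : ∀ x, φ (σ x) = φ x) (S : Finset α)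
    (hσ : ∀ x ∈ S, σ x ∈ S ∧ σ x ≠ x) (hI : ∀ x ∈ S, MemLocalIdeal M (φ x)) :
    ∃ w, MemLocalIdeal M w ∧ ∑ x ∈ S, φ x = 3 * w := by
  classical
  induction S using Finset.strongInduction with
  | _ S ih =>
    rcases S.eq_empty_or_nonempty with rfl | ⟨x, hx⟩
    · exact ⟨0, memLI_zero hM, by simp⟩
    · obtain ⟨h1, h1'⟩ := hσ x hx
      obtain ⟨h2, h2'⟩ := hσ _ h1
      have h20 : σ (σ x) ≠ x := fun e' => h1' (by have := congrArg σ e'; rw [h3] at this; exact this.symm)
      set O : Finset α := {x, σ x, σ (σ x)} with hO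
      have hOS : O ⊆ S := by
        intro y hy
        simp only [hO, Finset.mem_insert, Finset.mem_singleton] at hy
        rcases hy with rfl | rfl | rfl
        exacts [hx, h1, h2]
      have hlt : S \ O ⊂ S := Finset.sdiff_ssubset hOS ⟨x, by simp [hO]⟩
      obtain ⟨w, hw, hsum⟩ := ih (S \ O) hlt (fun y hy => by
        obtain ⟨hyS, hyO⟩ := Finset.mem_sdiff.mp hy
        refine ⟨Finset.mem_sdiff.mpr ⟨(hσ y hyS).1, fun hm => hyO ?_⟩, (hσ y hyS).2⟩
        have hy3 : σ (σ (σ y)) = y := h3 y
        simp only [hO, Finset.mem_insert, Finset.mem_singleton] at hm ⊢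
        rcases hm with e' | e' | e' <;> rw [e'] at hy3 <;> simp [← hy3, h3])
        fun y hy => hI y (Finset.mem_sdiff.mp hy).1
      refine ⟨w + φ x, memLI_add hM hw (hI x hx), ?_⟩
      rw [← Finset.sum_sdiff hOS, hsum, hO, Finset.sum_insert (by simp [Ne.symm h1', Ne.symm h20]),
        Finset.sum_pair h2'.symm, hφ, hφ, hφ]
      ring

variable {G : Type u} [Group G] [Fintype G] [Fact (Nat.Prime 3)]

namespace Setting

variable {M : Ideal AlgInt} {P : Sylow 3 G} {z : G} {e : ℕ} (h : Setting P z e)
include h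

open scoped _root_.Classical in
/-- The sum of all orbit functions. -/
theorem sum_orbF_reps {n : ℕ} {r : Fin n → ↥(P : Subgroup G)}
    (hr : Cen.Reps P z r) (hn : n * e = 8)
    {v : ↥(P : Subgroup G)} (hv : (v : G) ∉ Subgroup.zpowers z) :
    ∑ i, h.orbF (r i) v = -9 := by
  simp only [orbF]
  rw [Finset.sum_sub_distrib, ← Finset.mul_sum, Finset.sum_const, Finset.card_univ,
    Fintype.card_fin, nsmul_eq_mul, ← Nat.cast_mul, hn,
    ← Finset.sum_biUnion fun i _ j _ hne => Finset.disjoint_left.mpr fun w hwi hwj =>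
      hne (hr.inj i j ((pclass_eq (mem_pclass.mp hwi)).trans (pclass_eq (mem_pclass.mp hwj)).symm))]
  have hset : (Finset.univ : Finset (Fin n)).biUnion (fun i => pclass P (r i)) =
      Finset.univ.filter fun w : ↥(P : Subgroup G) => (w : G) ∉ Subgroup.zpowers z := by
    ext w
    simp only [Finset.mem_biUnion, Finset.mem_univ, true_and, Finset.mem_filter]
    refine ⟨fun ⟨i, hi⟩ => h.pclass_noncentral (hr.out i) hi, fun hw => ?_⟩
    obtain ⟨i, hi⟩ := hr.cover w hw
    exact ⟨i, hi ▸ mem_pclass.mpr (IsConj.refl _)⟩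
  rw [hset]
  have htot := h.core.sum_pair_left v
  rw [if_neg hv, ← Finset.sum_filter_add_sum_filter_not Finset.univ
    (fun w : ↥(P : Subgroup G) => (w : G) ∈ Subgroup.zpowers z)] at htot
  have hz3 : ∑ w ∈ Finset.univ.filter (fun w : ↥(P : Subgroup G) => (w : G) ∈ Subgroup.zpowers z),
      h.core.pair w v = 3 := by
    rw [Finset.sum_congr rfl fun w hw => h.core.pair_zp_left (Finset.mem_filter.mp hw).2 v.2,
      Finset.sum_const, nsmul_one]
    have hc : (Finset.univ.filter fun w : ↥(P : Subgroup G) => (w : G) ∈ Subgroup.zpowers z).card =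
        Nat.card (Subgroup.zpowers z) := by
      rw [← Fintype.card_subtype, ← Nat.card_eq_fintype_card]
      exact Nat.card_congr ⟨fun w => ⟨w.1, w.2⟩,
        fun a => ⟨⟨a.1, h.core.pre.zp_le a.2⟩, a.2⟩, fun _ => rfl, fun _ => rfl⟩
    rw [hc, Nat.card_zpowers, h.core.pre.ord_z]
    norm_num
  rw [hz3] at htot
  push_cast
  linear_combination (1 / 3 : ℂ) * htot

section Res

variable [Fintype (Subgroup.centralizer ({z} : Set G))] {k n l : ℕ}

open scoped _root_.Classical in
/-- The invariants of the principal block. -/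
theorem invariants (hM : IsPModular 3 M) {m : Model (k + 1) n l} {c : ℕ}
    {r : Fin n → ↥((P.subtype h.le_cent : Sylow 3 (Subgroup.centralizer ({z} : Set G))) :
      Subgroup (Subgroup.centralizer ({z} : Set G)))}
    {f : Fin (k + 1) → IrrCharacter (Subgroup.centralizer ({z} : Set G))} {s : Fin (k + 1) → ℤ}
    (hr : Cen.Reps (P.subtype h.le_cent)
      (⟨z, h.le_cent h.core.z_mem⟩ : Subgroup.centralizer ({z} : Set G)) r)
    (hfr : Cen.Frame (h.cen hM) m r f s)
    (hfit : ∀ (o : IrrCharacter G) (F : Fin n → IrrCharacter G → ℤ)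
      (W T : Fin l → IrrCharacter G → ℤ), Config m o F W T → ∃ f s, Fits m F W T f s)
    (hdim : k + 1 = n + 3 * l) (hne : n * e = 8)
    (hindep : ∀ b : Fin n ⊕ (Fin l ⊕ Fin l) → ℂ,
      (∀ j, ∑ q, b q * (m.vec q j : ℂ) = 0) → b = 0)
    (hcols : ∀ j, (∃ i, m.F i j ≠ 0) ∨ (∃ i, m.W i j ≠ 0) ∨ ∃ i, m.T i j ≠ 0)
    (hc : (Finset.univ.filter fun j => ¬ (3 : ℤ) ∣ ∑ i, m.F i j).card = c) :
    Nat.card ↥(principalBlock M G) = k + 1 ∧
    Nat.card {χ : IrrCharacter G // χ ∈ principalBlock M G ∧
      blockHeight 3 (principalBlock M G) (χ : G → ℂ) = 0} = c ∧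
    blockRank 3 (principalBlock M G) = l := by
  set z' : Subgroup.centralizer ({z} : Set G) := ⟨z, h.le_cent h.core.z_mem⟩ with hz'
  have hC := h.cen hM
  let θ : Fin n ⊕ (Fin l ⊕ Fin l) → Subgroup.centralizer ({z} : Set G) → ℂ :=
    fun q => Cen.combo f s (m.vec q)
  have hθspan : ∀ q, θ q ∈ charSpan (principalBlock M (Subgroup.centralizer ({z} : Set G))) :=
    fun q => Submodule.sum_mem _ fun j _ => Submodule.smul_mem _ _
      (Submodule.subset_span ⟨f j, (hfr.mem _).mpr ⟨j, rfl⟩, rfl⟩)
  have hθreg : ∀ q v, ¬ 3 ∣ orderOf v → θ q v = 0 := by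
    rintro (i | i | i) v hv
    · show Cen.combo f s (m.F i) v = 0
      rw [hfr.orbF i]
      exact (hC.orbL_adm (hr.out i)).reg v hv
    · exact hfr.regW i v hv
    · exact hfr.regT i v hv
  have hθA : ∀ q, Adm (P.subtype h.le_cent) z' (θ q) := fun q =>
    ⟨(hC.charSpan_sec (fun _ hx => hx) (hθspan q)).cls, hθreg q,
      (hC.charSpan_sec (fun _ hx => hx) (hθspan q)).sec⟩
  have hθgram : ∀ q q', classInner (θ q) (θ q') = (dot (m.vec q) (m.vec q') : ℤ) := by
    intro q q'
    simp only [θ, Cen.combo, classInner_sum_left, classInner_smul_left, classInner_sum_right,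
      classInner_smul_right, map_intCast, irr_orth (f _).2 (f _).2]
    rw [dot, Int.cast_sum]
    refine Finset.sum_congr rfl fun j _ => ?_
    rw [Finset.sum_eq_single j
      (fun j' _ hj' => by rw [if_neg fun e' => hj' (hfr.inj (Subtype.ext e')), mul_zero])
      (fun hn => absurd (Finset.mem_univ j) hn), if_pos rfl]
    have := hfr.sq j
    push_cast
    have h2 : (s j : ℂ) * s j = 1 := by exact_mod_cast this
    linear_combination (m.vec q j : ℂ) * (m.vec q' j : ℂ) * h2
  have hθtriv : ∀ q, classInner (θ q) (triv (Subgroup.centralizer ({z} : Set G)) : (Subgroup.centralizer ({z} : Set G)) → ℂ) =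
      (m.vec q 0 : ℂ) := by
    intro q
    simp only [θ, Cen.combo, classInner_sum_left, classInner_smul_left]
    rw [Finset.sum_eq_single 0 ?_ (fun hn => absurd (Finset.mem_univ _) hn)]
    · rw [hfr.first, irr_self (triv _).2, mul_one, hfr.first_sign, mul_one]
    · intro j _ hj
      rw [← hfr.first, irr_orth (f j).2 (f 0).2,
        if_neg fun e' => hj (hfr.inj (Subtype.ext e')), mul_zero]
  have hθli : LinearIndependent ℂ θ := by
    rw [Fintype.linearIndependent_iff]
    intro b hb q
    refine congrFun (hindep b fun j => ?_) q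
    have h1 := congrArg (fun F => classInner F (f j : (Subgroup.centralizer ({z} : Set G)) → ℂ)) hb
    simp only [θ, Cen.combo, classInner_sum_left, classInner_smul_left, classInner_zero_left,
      irr_orth (f _).2 (f j).2] at h1
    have hsj : (s j : ℂ) * s j = 1 := by exact_mod_cast hfr.sq j
    have h2 : (∑ q, b q * (m.vec q j : ℂ)) * (s j : ℂ) = 0 := by
      rw [← h1, Finset.sum_mul]
      refine Finset.sum_congr rfl fun q' _ => ?_
      rw [Finset.sum_eq_single j
        (fun j' _ hj' => by rw [if_neg fun e' => hj' (hfr.inj (Subtype.ext e')), mul_zero])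
        (fun hn => absurd (Finset.mem_univ j) hn), if_pos rfl]
      push_cast
      ring
    exact (mul_eq_zero.mp h2).resolve_right (left_ne_zero_of_mul (hsj ▸ one_ne_zero))
  -- functions orthogonal to the frame are orthogonal to the kernel on the regular elements
  have horthK : ∀ x : Subgroup.centralizer ({z} : Set G) → ℂ, (∀ q, classInner (θ q) x = 0) →
      ∀ a ∈ charSpan (principalBlock M (Subgroup.centralizer ({z} : Set G))),
        (∀ v, ¬ 3 ∣ orderOf v → a v = 0) → classInner a x = 0 := by
    intro x hx a ha hareg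
    set V := charSpan (principalBlock M (Subgroup.centralizer ({z} : Set G))) with hV
    let L : V →ₗ[ℂ] (Subgroup.centralizer ({z} : Set G) → ℂ) := (regPartL 3).comp V.subtype
    have hker : ∀ a : V, a ∈ LinearMap.ker L ↔ ∀ v, ¬ 3 ∣ orderOf v → (a : (Subgroup.centralizer ({z} : Set G)) → ℂ) v = 0 := by
      intro a
      rw [LinearMap.mem_ker]
      constructor
      · intro h0 v hv
        exact (regPartL_of_reg hv _).symm.trans (congrFun h0 v)
      · intro h0
        funext v
        show regPartL 3 (a : (Subgroup.centralizer ({z} : Set G)) → ℂ) v = 0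
        by_cases hv : 3 ∣ orderOf v
        · exact regPartL_of_sing hv _
        · rw [regPartL_of_reg hv]; exact h0 v hv
    let t : Fin n ⊕ (Fin l ⊕ Fin l) → LinearMap.ker L :=
      fun q => ⟨⟨θ q, hθspan q⟩, (hker _).mpr (hθreg q)⟩
    have hli : LinearIndependent ℂ t :=
      LinearIndependent.of_comp (V.subtype.comp (LinearMap.ker L).subtype) hθli
    have hrange : LinearMap.range L =
        blockSpan 3 (principalBlock M (Subgroup.centralizer ({z} : Set G))) := by
      rw [LinearMap.range_comp, Submodule.range_subtype, hV, charSpan, blockSpan,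
        Submodule.map_span, ← Set.image_comp]
      rfl
    have hcardC : finrank ℂ V = k + 1 := by
      rw [hV, finrank_charSpan, ← Nat.card_fin (k + 1)]
      exact (Nat.card_eq_of_bijective (fun j => (⟨f j, (hfr.mem _).mpr ⟨j, rfl⟩⟩ :
          ↥(principalBlock M (Subgroup.centralizer ({z} : Set G)))))
        ⟨fun a b e' => hfr.inj (congrArg Subtype.val e'), fun χ => by
          obtain ⟨j, hj⟩ := (hfr.mem χ.1).mp χ.2
          exact ⟨j, Subtype.ext hj⟩⟩).symm
    have hkd : finrank ℂ (LinearMap.ker L) = n + (l + l) := by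
      have h1 := LinearMap.finrank_range_add_finrank_ker L
      rw [hcardC, hrange,
        show finrank ℂ (blockSpan 3 (principalBlock M (Subgroup.centralizer ({z} : Set G)))) = l
          from hfr.rank] at h1
      omega
    have hsd : finrank ℂ (Submodule.span ℂ (Set.range t)) = finrank ℂ (LinearMap.ker L) := by
      rw [finrank_span_eq_card hli, hkd, Fintype.card_sum, Fintype.card_sum, Fintype.card_fin,
        Fintype.card_fin]
    have htop : Submodule.span ℂ (Set.range t) = ⊤ := by
      haveI : FiniteDimensional ℂ (LinearMap.ker L) := inferInstance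
      exact Submodule.eq_top_of_finrank_eq (K := ℂ) (V := LinearMap.ker L) hsd
    have hmem : (⟨⟨a, ha⟩, (hker _).mpr hareg⟩ : LinearMap.ker L) ∈ Submodule.span ℂ (Set.range t) :=
      htop ▸ Submodule.mem_top
    suffices ∀ u ∈ Submodule.span ℂ (Set.range t), classInner ((u : V) : (Subgroup.centralizer ({z} : Set G)) → ℂ) x = 0 from
      this _ hmem
    intro u hu
    induction hu using Submodule.span_induction with
    | mem u hu => obtain ⟨q, rfl⟩ := hu; exact hx q
    | zero => exact classInner_zero_left x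
    | add u w _ _ hu hw => simp [classInner_add_left, hu, hw]
    | smul b u _ hu => simp [classInner_smul_left, hu]
  -- coordinates of the extensions
  let Θ : Fin n ⊕ (Fin l ⊕ Fin l) → G → ℂ := fun q => lift P z (θ q)
  have hΘA : ∀ q, Adm P z (Θ q) := fun q => h.adm_lift (hθA q)
  have hθgen : ∀ q, IsGeneralizedCharacter _ (θ q) := by
    intro q
    have e1 : θ q = ∑ χ, ((∑ j, if f j = χ then m.vec q j * s j else 0 : ℤ) : ℂ) • (χ : (Subgroup.centralizer ({z} : Set G)) → ℂ) := by
      simp only [θ, Cen.combo, Int.cast_sum, Finset.sum_smul]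
      rw [Finset.sum_comm]
      refine Finset.sum_congr rfl fun j _ => ?_
      rw [Finset.sum_eq_single (f j) (fun χ _ hne' => by rw [if_neg (Ne.symm hne')]; simp)
        (fun hn => absurd (Finset.mem_univ _) hn), if_pos rfl]
    rw [e1]
    exact isGeneralizedCharacter_of_int _
  choose Z hZ hZc using fun q => exists_int_coords (h.isGen_lift (hθA q) (hθgen q))
  have hZsupp : ∀ q χ, Z q χ ≠ 0 → χ ∈ principalBlock M G := by
    intro q χ hne'
    by_contra hχ
    have := h.lift_block hM (hθA q) (hθspan q) hχ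
    rw [hZc q χ] at this
    exact hne' (by exact_mod_cast this)
  have hsecχ : ∀ χ : IrrCharacter G, χ ∈ principalBlock M G → Sec P z (χ : G → ℂ) := fun χ hχ =>
    h.sec_block hM (Submodule.subset_span ⟨χ, hχ, rfl⟩)
  have hZdot : ∀ q q', dot (Z q) (Z q') = dot (m.vec q) (m.vec q') := by
    intro q q'
    have h1 : classInner (Θ q) (Θ q') = (dot (m.vec q) (m.vec q') : ℤ) := by
      rw [← hθgram q q', h.inner_lift (hθA q) (hΘA q').toSec]
      congr 1
      funext v
      exact h.lift_coe (hθA q') v
    simp only [Θ] at h1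
    conv_lhs at h1 => rw [hZ q, classInner_sum_left]
    simp only [classInner_smul_left] at h1
    rw [Finset.sum_congr rfl (g := fun χ => ((Z q χ * Z q' χ : ℤ) : ℂ)) fun χ _ => by
      rw [← classInner_symm, hZc q' χ, map_intCast]; push_cast; rfl, ← Int.cast_sum] at h1
    exact_mod_cast h1
  have hZo : ∀ q, Z q (triv G) = m.vec q 0 := by
    intro q
    have h1 := hθtriv q
    rw [show (triv (Subgroup.centralizer ({z} : Set G)) : (Subgroup.centralizer ({z} : Set G)) → ℂ) =
      (fun v : (Subgroup.centralizer ({z} : Set G)) => (triv G : G → ℂ) (v : G)) from rfl,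
      ← h.inner_lift (hθA q) (hsecχ _ (triv_mem M hM)), hZc q] at h1
    exact_mod_cast h1
  have hcfg : Config m (triv G) (fun i => Z (Sum.inl i)) (fun i => Z (Sum.inr (Sum.inl i)))
      (fun i => Z (Sum.inr (Sum.inr i))) :=
    ⟨fun i j => hZdot _ _, fun i j => hZdot _ _, fun i j => hZdot _ _, fun i j => hZdot _ _,
      fun i j => hZdot _ _, fun i j => hZdot _ _, fun i => hZo _, fun i => hZo _, fun i => hZo _⟩
  obtain ⟨f', s', hfits⟩ := hfit _ _ _ _ hcfg
  -- every character of the principal block is met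
  have hmeet : ∀ χ ∈ principalBlock M G, ∃ q, Z q χ ≠ 0 := by
    intro χ hχ
    by_cases hχt : χ = triv G
    · rcases hcols 0 with ⟨i, hi⟩ | ⟨i, hi⟩ | ⟨i, hi⟩
      exacts [⟨Sum.inl i, by rw [hχt, hZo]; exact hi⟩,
        ⟨Sum.inr (Sum.inl i), by rw [hχt, hZo]; exact hi⟩,
        ⟨Sum.inr (Sum.inr i), by rw [hχt, hZo]; exact hi⟩]
    by_contra hno
    push Not at hno
    have hres := horthK (fun v => (χ : G → ℂ) v) (fun q => by
      rw [← h.inner_lift (hθA q) (hsecχ χ hχ), hZc q χ, hno q, Int.cast_zero])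
      (fun v : Subgroup.centralizer ({z} : Set G) => singInd G v) (by
        rw [show (fun v : Subgroup.centralizer ({z} : Set G) => singInd G v) =
          (triv (Subgroup.centralizer ({z} : Set G)) : (Subgroup.centralizer ({z} : Set G)) → ℂ) - regInd 3 from funext fun v => by
            simp only [singInd, Pi.sub_apply, triv_apply]
            rw [← congrFun (regInd_restrict (p := 3) (Subgroup.centralizer ({z} : Set G))) v]]
        refine Submodule.sub_mem _ (Submodule.subset_span ⟨_, triv_mem M hM, rfl⟩) ?_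
        rw [← regInd_mem hM]
        exact blockPart_mem_charSpan _ _)
      (fun v hv => by simp [singInd, regInd_of_reg (show ¬ 3 ∣ orderOf (v : G) by
        rwa [Subgroup.orderOf_coe])])
    rw [← h.inner_res h.adm_singInd (hsecχ χ hχ)] at hres
    have h1 : classInner (triv G : G → ℂ) (χ : G → ℂ) = 0 := by
      rw [irr_orth (triv G).2 χ.2, if_neg fun e' => hχt (Subtype.ext e').symm]
    rw [show singInd G = (triv G : G → ℂ) - regInd 3 from rfl, classInner_sub_left, h1, zero_sub,
      neg_eq_zero] at hres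
    refine sum_regular_ne hM hχ ?_
    rw [← einner_conj, einner]
    rw [show (triv G : G → ℂ) * regInd 3 = regInd 3 from funext fun v => by simp [triv_apply],
      hres, map_zero]
  have hblock : ∀ χ, χ ∈ principalBlock M G ↔ (∃ i, Z (Sum.inl i) χ ≠ 0) ∨
      (∃ i, Z (Sum.inr (Sum.inl i)) χ ≠ 0) ∨ ∃ i, Z (Sum.inr (Sum.inr i)) χ ≠ 0 := by
    intro χ
    refine ⟨fun hχ => ?_, ?_⟩
    · obtain ⟨q | q | q, hq⟩ := hmeet χ hχ
      exacts [Or.inl ⟨q, hq⟩, Or.inr (Or.inl ⟨q, hq⟩), Or.inr (Or.inr ⟨q, hq⟩)]
    · rintro (⟨i, hi⟩ | ⟨i, hi⟩ | ⟨i, hi⟩) <;> exact hZsupp _ χ hi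
  have hcardG : Nat.card ↥(principalBlock M G) = k + 1 :=
    (Nat.card_congr (Equiv.subtypeEquivRight hblock)).trans (hfits.card_support hcols)
  -- heights
  have hheight : ∀ χ ∈ principalBlock M G,
      (blockHeight 3 (principalBlock M G) (χ : G → ℂ) = 0 ↔
        ¬ (3 : ℤ) ∣ ∑ i, Z (Sum.inl i) χ) := by
    intro χ hχ
    obtain ⟨d, hd⟩ := charOne_eq_natCast (irr_isCharacter χ.2)
    set c' := ∑ i, Z (Sum.inl i) χ with hc'
    have hP := pmod_prime hM
    set S := Finset.univ.filter fun y : ↥(P : Subgroup G) => (y : G) ∉ Subgroup.zpowers z with hS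
    have hsec := hsecχ χ hχ
    have hsum : (3 * e : ℂ) * c' = -∑ y ∈ S, (χ : G → ℂ) y := by
      have h1 : (c' : ℂ) = conj (∑ i, classInner (fun v : Subgroup.centralizer ({z} : Set G) =>
          (χ : G → ℂ) v) (hC.orbL (r i))) := by
        rw [hc', Int.cast_sum, map_sum]
        refine Finset.sum_congr rfl fun i _ => ?_
        rw [classInner_symm, ← hZc (Sum.inl i) χ, h.inner_lift (hθA _) hsec]
        exact congrArg (fun F => classInner F _) (hfr.orbF i)
      rw [Finset.sum_congr rfl fun i _ => hC.inner_orbL (h.res_sec hsec) (hr.out i),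
        ← Finset.mul_sum, Finset.sum_comm] at h1
      have h2 : ∀ y : ↥((P.subtype h.le_cent : Sylow 3 (Subgroup.centralizer ({z} : Set G))) :
          Subgroup (Subgroup.centralizer ({z} : Set G))),
          ∑ i, (if (y : Subgroup.centralizer ({z} : Set G)) ∈ Subgroup.zpowers z' then 0
              else (χ : G → ℂ) ((y : Subgroup.centralizer ({z} : Set G)) : G)) *
            conj (hC.set.orbF (r i) y) =
          if ((y : Subgroup.centralizer ({z} : Set G)) : G) ∈ Subgroup.zpowers z then 0
          else -9 * (χ : G → ℂ) ((y : Subgroup.centralizer ({z} : Set G)) : G) := by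
        intro y
        by_cases hy : (y : Subgroup.centralizer ({z} : Set G)) ∈ Subgroup.zpowers z'
        · simp [hy, h.zp_coe.mp hy]
        · rw [if_neg fun hm => hy (h.zp_coe.mpr hm), ← Finset.mul_sum, ← map_sum,
            hC.set.sum_orbF_reps hr hne hy, if_neg hy]
          rw [map_neg, map_ofNat]
          ring
      rw [Finset.sum_congr rfl fun y _ => h2 y] at h1
      have h3 : ∑ y : ↥((P.subtype h.le_cent : Sylow 3 (Subgroup.centralizer ({z} : Set G))) :
          Subgroup (Subgroup.centralizer ({z} : Set G))),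
          (if ((y : Subgroup.centralizer ({z} : Set G)) : G) ∈ Subgroup.zpowers z then (0 : ℂ)
            else -9 * (χ : G → ℂ) ((y : Subgroup.centralizer ({z} : Set G)) : G)) =
          -9 * ∑ y ∈ S, (χ : G → ℂ) y := by
        rw [Finset.mul_sum, hS, Finset.sum_filter]
        refine Fintype.sum_equiv (Subgroup.subgroupOfEquivOfLe h.le_cent).toEquiv _ _ fun y => ?_
        rw [ite_not]
        rfl
      rw [h3] at h1
      have h4 := congrArg conj h1
      rw [Complex.conj_conj, map_intCast] at h4
      rw [h4]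
      have he0 : (e : ℂ) ≠ 0 := Nat.cast_ne_zero.mpr h.e_pos.ne'
      field_simp
      ring
    have hzc : ∀ y : ↥(P : Subgroup G), (y : G) ∉ Subgroup.zpowers z →
        (χ : G → ℂ) ((y : G) * z) = (χ : G → ℂ) y := fun y hy => by
      obtain ⟨w, -, hw⟩ := h.core.pre.shift y.2 hy (Subgroup.mem_zpowers z)
      rw [← hw]
      exact hsec.cls y w
    let zP : ↥(P : Subgroup G) := ⟨z, h.core.z_mem⟩
    obtain ⟨w, hw, hws⟩ := orbit_three (α := ↥(P : Subgroup G)) hP (fun y => y * zP)
      (fun y => by
        rw [mul_assoc, mul_assoc]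
        refine mul_eq_left.mpr (Subtype.ext ?_)
        show z * (z * z) = 1
        exact (pow_three z).symm.trans (h.core.cube z h.core.z_mem))
      (fun y => if (y : G) ∈ Subgroup.zpowers z then 0 else (χ : G → ℂ) y - d)
      (fun y => by
        simp only [Subgroup.coe_mul, zP]
        by_cases hy : (y : G) ∈ Subgroup.zpowers z
        · simp [hy, mul_mem hy (Subgroup.mem_zpowers z)]
        · rw [if_neg fun hm => hy ((Subgroup.mul_mem_cancel_right _ (Subgroup.mem_zpowers z)).mp hm),
            if_neg hy, hzc y hy])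
      S
      (fun y hy => by
        have hy' := (Finset.mem_filter.mp hy).2
        refine ⟨Finset.mem_filter.mpr ⟨Finset.mem_univ _, fun hm => hy'
          ((Subgroup.mul_mem_cancel_right _ (Subgroup.mem_zpowers z)).mp hm)⟩, fun e' => ?_⟩
        exact h.core.z_ne (congrArg Subtype.val (mul_eq_left.mp e')))
      (fun y hy => by
        rw [if_neg (Finset.mem_filter.mp hy).2, ← hd]
        exact char_congr_deg hM (irr_isCharacter χ.2) (OrderNine.ppower (P := P) y.2))
    have hcard : (S.card : ℂ) = 24 := by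
      have hzc' : (Finset.univ.filter fun y : ↥(P : Subgroup G) =>
          (y : G) ∈ Subgroup.zpowers z).card = 3 := by
        rw [← Fintype.card_subtype, ← Nat.card_eq_fintype_card]
        refine (Nat.card_congr (β := Subgroup.zpowers z) ⟨fun w => ⟨w.1, w.2⟩,
          fun a => ⟨⟨a.1, h.core.pre.zp_le a.2⟩, a.2⟩, fun _ => rfl, fun _ => rfl⟩).trans ?_
        exact (Nat.card_zpowers z).trans h.core.pre.ord_z
      have := Finset.card_filter_add_card_filter_not (s := (Finset.univ : Finset ↥(P : Subgroup G)))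
        (fun y : ↥(P : Subgroup G) => (y : G) ∈ Subgroup.zpowers z)
      rw [Finset.card_univ, ← Nat.card_eq_fintype_card, h.core.card, hzc', ← hS] at this
      exact_mod_cast (show S.card = 24 by omega)
    have hSsum : ∑ y ∈ S, (χ : G → ℂ) y = 3 * w + 24 * d := by
      rw [← hws, ← hcard, ← nsmul_eq_mul, ← Finset.sum_const, ← Finset.sum_add_distrib]
      exact Finset.sum_congr rfl fun y hy => by
        rw [if_neg (Finset.mem_filter.mp hy).2, sub_add_cancel]
    have hdiv : (3 : ℤ) ∣ (e : ℤ) * c' + 8 * d := by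
      refine (memLI_intCast_iff hM _).mp ?_
      have e1 : (((e : ℤ) * c' + 8 * (d : ℤ) : ℤ) : ℂ) = -w := by
        rw [hSsum] at hsum
        push_cast
        linear_combination (1 / 3 : ℂ) * hsum
      rw [e1]
      exact memLI_neg hP hw
    have hd0 : d ≠ 0 := fun e' => irr_one_ne_zero χ.2 (by rw [hd, e', Nat.cast_zero])
    have hmin : Char.dmin 3 (principalBlock M G) = 0 := by
      refine Nat.le_zero.mp ((Char.dmin_le (triv_mem M hM)).trans_eq ?_)
      show (charDegree (triv G : G → ℂ)).factorization 3 = 0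
      simp [charDegree, triv_apply]
    rw [Char.blockHeight_eq_zero_iff hχ, hmin]
    show (charDegree (χ : G → ℂ)).factorization 3 = 0 ↔ _
    rw [show charDegree (χ : G → ℂ) = d by simp [charDegree, hd],
      Nat.factorization_eq_zero_iff]
    have he8 : ¬ 3 ∣ e := fun hd3 => by
      have := dvd_mul_of_dvd_right hd3 n
      rw [hne] at this
      omega
    constructor
    · rintro (hp | hp | hp) hdc
      · exact hp Nat.prime_three
      · obtain ⟨u, hu⟩ := hdc
        rw [hu, mul_left_comm] at hdiv
        have h8 : (3 : ℤ) ∣ 8 * (d : ℤ) := (Int.dvd_add_right (dvd_mul_right _ _)).mp hdiv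
        omega
      · exact hd0 hp
    · intro hnd
      refine Or.inr (Or.inl fun hdd => hnd ?_)
      have h1 : (3 : ℤ) ∣ (e : ℤ) * c' :=
        (Int.dvd_add_left (dvd_mul_of_dvd_right (by exact_mod_cast hdd) _)).mp hdiv
      exact ((Int.prime_iff_natAbs_prime.mpr (show (3 : ℤ).natAbs.Prime from Nat.prime_three)).dvd_or_dvd h1).resolve_left
        fun h3 => he8 (by exact_mod_cast h3)
  have hk0 : Nat.card {χ : IrrCharacter G // χ ∈ principalBlock M G ∧
      blockHeight 3 (principalBlock M G) (χ : G → ℂ) = 0} = c := by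
    refine (Nat.card_congr (Equiv.subtypeEquivRight fun χ => ?_)).trans (hfits.card_height hc)
    constructor
    · rintro ⟨hχ, h0⟩
      exact (hheight χ hχ).mp h0
    · intro h3
      obtain ⟨i, -, hi⟩ : ∃ i ∈ Finset.univ, Z (Sum.inl i) χ ≠ 0 :=
        Finset.exists_ne_zero_of_sum_ne_zero fun e' => h3 (by rw [e']; exact dvd_zero _)
      exact ⟨hZsupp _ χ hi, (hheight χ (hZsupp _ χ hi)).mpr h3⟩
  refine ⟨hcardG, hk0, ?_⟩
  -- the rank
  show finrank ℂ (blockSpan 3 (principalBlock M G)) = l
  set V := charSpan (principalBlock M G) with hV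
  let L : V →ₗ[ℂ] (G → ℂ) := (regPartL 3).comp V.subtype
  have hrange : LinearMap.range L = blockSpan 3 (principalBlock M G) := by
    rw [LinearMap.range_comp, Submodule.range_subtype, hV, charSpan, blockSpan,
      Submodule.map_span, ← Set.image_comp]
    rfl
  have hrn := LinearMap.finrank_range_add_finrank_ker L
  have hV' : finrank ℂ V = k + 1 := by rw [hV, finrank_charSpan, hcardG]
  rw [hrange, hV'] at hrn
  have hker : ∀ a : LinearMap.ker L, ∀ g, ¬ 3 ∣ orderOf g → ((a : V) : G → ℂ) g = 0 :=
    fun a g hg => (regPartL_of_reg hg _).symm.trans (congrFun (LinearMap.mem_ker.mp a.2) g)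
  let E : LinearMap.ker L →ₗ[ℂ] (Fin n ⊕ (Fin l ⊕ Fin l) → ℂ) :=
    { toFun := fun a q => classInner ((a : V) : G → ℂ) (Θ q)
      map_add' := fun a b => funext fun q => classInner_add_left _ _ _
      map_smul' := fun b a => funext fun q => classInner_smul_left _ _ _ }
  have hzero : ∀ a, E a = 0 → a = 0 := by
    intro a ha
    refine Subtype.ext (Subtype.ext ?_)
    show ((a : V) : G → ℂ) = 0
    set F := ((a : V) : G → ℂ) with hF
    have hFsec : Sec P z F := h.sec_block hM (a : V).2
    set x : Subgroup.centralizer ({z} : Set G) → ℂ := fun v => F v with hx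
    have hxreg : ∀ v, ¬ 3 ∣ orderOf v → x v = 0 := fun v hv =>
      hker a v (by rwa [Subgroup.orderOf_coe])
    have hxθ : ∀ q, classInner (θ q) x = 0 := fun q => by
      rw [hx, ← h.inner_lift (hθA q) hFsec, ← classInner_symm]
      exact (congrArg conj (congrFun ha q)).trans (map_zero _)
    -- the principal part on the centralizer vanishes
    have hpart : blockPart (principalBlock M (Subgroup.centralizer ({z} : Set G))) x = 0 := by
      refine classInner_self_eq_zero ?_
      have h1 := horthK x hxθ _ (blockPart_mem_charSpan _ x) fun v hv =>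
        blockPart_regular_eq_zero hM (isPBlock_principalBlock M) hxreg hv
      have e2 : blockPart (principalBlock M (Subgroup.centralizer ({z} : Set G)))
          (blockPart (principalBlock M (Subgroup.centralizer ({z} : Set G))) x) =
          blockPart (principalBlock M (Subgroup.centralizer ({z} : Set G))) x := by
        funext v
        rw [blockPart_eq, blockPart_eq]
        refine Finset.sum_congr rfl fun ψ hψ => ?_
        rw [blockPart_adj, blockPart_self (Finset.mem_filter.mp hψ).2]
      rw [← blockPart_adj, e2]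
      exact h1
    have hcoef : ∀ ψ ∈ principalBlock M (Subgroup.centralizer ({z} : Set G)),
        classInner x (ψ : (Subgroup.centralizer ({z} : Set G)) → ℂ) = 0 := fun ψ hψ => by
      rw [← blockPart_self hψ, ← blockPart_adj, hpart, classInner_zero_left]
    have horb : ∀ y ∈ (P : Subgroup G), y ∉ Subgroup.zpowers z → F y = 0 := by
      intro y hy hyn
      refine hC.zero_of_orth (h.res_sec hFsec) (fun w hw => ?_)
        (y := ⟨y, h.le_cent hy⟩) (Subgroup.mem_subgroupOf.mpr hy) (fun hm => hyn (h.zp_coe.mp hm))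
      obtain ⟨i, hi⟩ := hr.cover w hw
      rw [hC.orbL_class hi, ← classInner_symm, ← hfr.orbF i]
      exact (congrArg conj (hxθ (Sum.inl i))).trans (map_zero _)
    funext g
    obtain ⟨y, hy⟩ := FrobSylow.exists_conj_ppt (P := P) g
    obtain ⟨b, hb⟩ := isConj_iff.mp hy
    rw [← hFsec.cls g b]
    obtain ⟨v, hv, hcm, -, hvr⟩ := isPPart_ppt Nat.prime_three (b * g * b⁻¹)
    rw [ppt_conj Nat.prime_three, hb] at hv hcm
    rw [← hv, Pi.zero_apply]
    by_cases hyz : (y : G) ∈ Subgroup.zpowers z
    · rcases eq_or_ne (y : G) 1 with h1 | h1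
      · rw [h1, one_mul]
        exact hker a v hvr
      · have hCy := h.cent_of_zp hyz h1
        have hvC : v ∈ Subgroup.centralizer ({z} : Set G) := by
          rw [← hCy, Subgroup.mem_centralizer_singleton_iff]
          exact hcm.eq.symm
        rw [show F ((y : G) * v) = F ((y : G) * ((⟨v, hvC⟩ : Subgroup.centralizer ({z} : Set G)) : G))
          from rfl]
        refine (sec_value hM (OrderNine.ppower (P := P) y.2) hCy.symm (a : V).2
          (v := ⟨v, hvC⟩) (by rwa [Subgroup.orderOf_mk])).trans ?_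
        rw [blockPart_eq]
        refine Finset.sum_eq_zero fun ψ hψ => ?_
        let y' : Subgroup.centralizer ({z} : Set G) := ⟨y, h.le_cent y.2⟩
        obtain ⟨j, hj⟩ := mem_powers_iff_mem_zpowers.mpr
          ((h.zp_coe (w := y'⁻¹)).mpr (inv_mem hyz))
        have e1 : classInner (fun w : Subgroup.centralizer ({z} : Set G) => F ((y : G) * (w : G)))
            (ψ : (Subgroup.centralizer ({z} : Set G)) → ℂ) = classInner x (omv z' ψ ^ j • (ψ : (Subgroup.centralizer ({z} : Set G)) → ℂ)) := by
          rw [classInner, classInner]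
          congr 1
          refine Fintype.sum_equiv (Equiv.mulLeft y') _ _ fun w => ?_
          rw [Equiv.coe_mulLeft, Pi.smul_apply, smul_eq_mul, ← hC.shift_pow ψ j]
          rw [show z' ^ j = y'⁻¹ from hj, inv_mul_cancel_left]
          rfl
        show classInner (fun w : Subgroup.centralizer ({z} : Set G) => F ((y : G) * (w : G)))
          (ψ : (Subgroup.centralizer ({z} : Set G)) → ℂ) * _ = 0
        rw [e1, classInner_smul_right, hcoef ψ (Finset.mem_filter.mp hψ).2, mul_zero, zero_mul]
    · rw [hFsec.sec y y.2 hyz v hcm hvr]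
      exact horb y y.2 hyz
  have hEinj : Function.Injective E := by
    intro a b hab
    have h2 : E (a + (-1 : ℂ) • b) = 0 := by
      rw [E.map_add, E.map_smul, hab, neg_one_smul, add_neg_cancel]
    have h3 := hzero _ h2
    refine Subtype.ext (Subtype.ext (sub_eq_zero.mp ?_))
    simpa [← sub_eq_add_neg] using congrArg (fun u : LinearMap.ker L => ((u : V) : G → ℂ)) h3
  have hle : finrank ℂ (LinearMap.ker L) ≤ n + (l + l) :=
    (LinearMap.finrank_le_finrank_of_injective hEinj).trans (by simp)
  have hΘV : ∀ q, Θ q ∈ V := fun q => by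
    show lift P z (θ q) ∈ V
    rw [hZ q]
    refine Submodule.sum_mem _ fun χ _ => ?_
    by_cases h0 : Z q χ = 0
    · simp [h0]
    · exact Submodule.smul_mem _ _ (Submodule.subset_span ⟨χ, hZsupp q χ h0, rfl⟩)
  have hΘker : ∀ q, (⟨Θ q, hΘV q⟩ : V) ∈ LinearMap.ker L := fun q => by
    rw [LinearMap.mem_ker]
    funext g
    show regPartL 3 (Θ q) g = 0
    by_cases hg : 3 ∣ orderOf g
    · exact regPartL_of_sing hg _
    · rw [regPartL_of_reg hg]; exact (hΘA q).reg g hg
  have hge : n + (l + l) ≤ finrank ℂ (LinearMap.ker L) := by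
    have hli : LinearIndependent ℂ fun q => (⟨_, hΘker q⟩ : LinearMap.ker L) := by
      let res : (G → ℂ) →ₗ[ℂ] (Subgroup.centralizer ({z} : Set G) → ℂ) :=
        LinearMap.funLeft ℂ ℂ Subtype.val
      refine LinearIndependent.of_comp (res.comp (V.subtype.comp (LinearMap.ker L).subtype)) ?_
      have : (res.comp (V.subtype.comp (LinearMap.ker L).subtype)) ∘
          (fun q => (⟨_, hΘker q⟩ : LinearMap.ker L)) = θ := by
        funext q v
        exact h.lift_coe (hθA q) v
      rw [this]
      exact hθli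
    simpa using hli.fintype_card_le_finrank
  omega

end Res

end Setting

end Cfsg.Agent.Char.X27
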