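import Cfsg.Agent.Lib.Char.X27.Gen

/-!
# The commutator pairing and the orbit functions
-/

set_option autoImplicit false
set_option linter.unusedSectionVars false
set_option linter.style.haveILetI false

namespace Cfsg.Agent.Char.X27

open Cfsg
open scoped ComplexConjugate

universe u

/-- A cube root of unity. -/
noncomputable def om3 : ℂ := Complex.exp (2 * Real.pi * Complex.I / 3)

theorem om3_prim : IsPrimitiveRoot om3 3 := by
  simpa [om3] using Complex.isPrimitiveRoot_exp 3 (by norm_num)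

theorem om3_cube : om3 ^ 3 = 1 := om3_prim.pow_eq_one

theorem om3_ne : om3 ≠ 1 := om3_prim.ne_one (by norm_num)

theorem om3_sq_ne : om3 ^ 2 ≠ 1 := om3_prim.pow_ne_one_of_pos_of_lt (by norm_num) (by norm_num)

theorem conj_om3 : conj om3 = om3 ^ 2 := by
  have hn : ‖om3‖ = 1 := Complex.norm_eq_one_of_pow_eq_one om3_cube (by norm_num)
  rw [← Complex.inv_eq_conj hn]
  exact inv_eq_of_mul_eq_one_right (by rw [← pow_succ', om3_cube])

theorem om3_sum : 1 + om3 + om3 ^ 2 = 0 := by
  have := om3_prim.geom_sum_eq_zero (by norm_num)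
  simpa [Finset.sum_range_succ] using this

theorem om3_mod (a : ℕ) : om3 ^ a = om3 ^ (a % 3) := pow_eq_pow_mod a om3_cube

theorem exists_om3_pow {x : ℂ} (hx : x ^ 3 = 1) : ∃ j : Fin 3, x = om3 ^ (j : ℕ) := by
  obtain ⟨i, hi, rfl⟩ := om3_prim.eq_pow_of_pow_eq_one hx
  exact ⟨⟨i, hi⟩, rfl⟩

theorem om3_pow_sum (j : ℕ) :
    1 + om3 ^ j + (om3 ^ j) ^ 2 = if j % 3 = 0 then 3 else 0 := by
  rw [om3_mod j]
  rcases (show j % 3 = 0 ∨ j % 3 = 1 ∨ j % 3 = 2 by omega) with h | h | h <;> rw [h]
  · norm_num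
  · simpa using om3_sum
  · rw [if_neg (by norm_num), ← pow_mul, om3_mod (2 * 2)]
    norm_num
    linear_combination om3_sum

variable {G : Type u} [Group G] [Fintype G] [Fact (Nat.Prime 3)]

open scoped _root_.Classical in
/-- The character of the centre. -/
noncomputable def zc (z g : G) : ℂ := if g = z then om3 else if g = z ^ 2 then om3 ^ 2 else 1

namespace Core

variable {P : Sylow 3 G} {z : G} (h : Core P z)
include h

theorem z_sq_ne : z ^ 2 ≠ z ∧ z ^ 2 ≠ 1 := by
  have h2 : z ^ 2 ≠ 1 := fun e => by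
    have := orderOf_dvd_of_pow_eq_one e
    rw [h.pre.ord_z] at this
    omega
  exact ⟨fun e => h.z_ne (by rwa [sq, mul_eq_left] at e), h2⟩

theorem zc_pow (k : ℕ) : zc z (z ^ k) = om3 ^ k := by
  classical
  obtain ⟨h1, h2⟩ := h.z_sq_ne
  rw [pow_eq_pow_mod k (show z ^ 3 = 1 from h.cube z h.z_mem), om3_mod k]
  rcases (show k % 3 = 0 ∨ k % 3 = 1 ∨ k % 3 = 2 by omega) with e | e | e <;> rw [e]
  · simp [zc, Ne.symm h.z_ne, Ne.symm h2]
  · simp [zc]
  · simp [zc, h1]

theorem zc_mul {a b : G} (ha : a ∈ Subgroup.zpowers z) (hb : b ∈ Subgroup.zpowers z) :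
    zc z (a * b) = zc z a * zc z b := by
  obtain ⟨i, rfl⟩ := mem_powers_iff_mem_zpowers.mpr ha
  obtain ⟨j, rfl⟩ := mem_powers_iff_mem_zpowers.mpr hb
  show zc z (z ^ i * z ^ j) = zc z (z ^ i) * zc z (z ^ j)
  rw [← pow_add, h.zc_pow, h.zc_pow, h.zc_pow, pow_add]

theorem zc_one : zc z (1 : G) = 1 := by
  have := h.zc_pow 0
  simpa using this

theorem zc_eq_one {a : G} (ha : a ∈ Subgroup.zpowers z) (h1 : zc z a = 1) : a = 1 := by
  rcases h.pre.mem_zp.mp ha with e | e | e
  · exact e
  · rw [e, zc, if_pos rfl] at h1; exact absurd h1 om3_ne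
  · have := h.zc_pow 2
    rw [← e, h1] at this
    exact absurd this.symm om3_sq_ne

/-- The pairing by commutators. -/
noncomputable def pair (_h : Core P z) (a b : G) : ℂ := zc z (a * b * a⁻¹ * b⁻¹)

theorem pair_mul_right {a b b' : G} (ha : a ∈ (P : Subgroup G)) (hb : b ∈ (P : Subgroup G))
    (hb' : b' ∈ (P : Subgroup G)) : h.pair a (b * b') = h.pair a b * h.pair a b' := by
  have hc := h.comm a ha b' hb'
  rw [pair, pair, pair, ← h.zc_mul (h.comm a ha b hb) hc]
  congr 1
  calc a * (b * b') * a⁻¹ * (b * b')⁻¹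
      = (a * b * a⁻¹ * b⁻¹) * (b * (a * b' * a⁻¹ * b'⁻¹) * b⁻¹) := by group
    _ = _ := by rw [← h.pre.zp_comm hc hb, mul_inv_cancel_right]

theorem pair_mul_left {a a' b : G} (ha : a ∈ (P : Subgroup G)) (ha' : a' ∈ (P : Subgroup G))
    (hb : b ∈ (P : Subgroup G)) : h.pair (a * a') b = h.pair a b * h.pair a' b := by
  have hc := h.comm a' ha' b hb
  rw [pair, pair, pair, mul_comm (zc z _), ← h.zc_mul hc (h.comm a ha b hb)]
  congr 1
  calc a * a' * b * (a * a')⁻¹ * b⁻¹
      = (a * (a' * b * a'⁻¹ * b⁻¹) * a⁻¹) * (a * b * a⁻¹ * b⁻¹) := by group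
    _ = _ := by rw [← h.pre.zp_comm hc ha, mul_inv_cancel_right]

theorem pair_one_right {a : G} : h.pair a 1 = 1 := by simp [pair, h.zc_one]

theorem pair_one_left {b : G} : h.pair 1 b = 1 := by simp [pair, h.zc_one]

theorem pair_zp_left {t b : G} (ht : t ∈ Subgroup.zpowers z) (hb : b ∈ (P : Subgroup G)) :
    h.pair t b = 1 := by
  rw [pair, h.pre.zp_comm ht hb]
  simp [h.zc_one]

theorem pair_zp_right {a t : G} (ha : a ∈ (P : Subgroup G)) (ht : t ∈ Subgroup.zpowers z) :
    h.pair a t = 1 := by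
  rw [pair, ← h.pre.zp_comm ht ha]
  simp [h.zc_one]

theorem mem_zp_of_pair {b : G} (hb : b ∈ (P : Subgroup G))
    (h1 : ∀ a ∈ (P : Subgroup G), h.pair a b = 1) : b ∈ Subgroup.zpowers z := by
  refine h.center b hb fun w hw => ?_
  have := h.zc_eq_one (h.comm w hw b hb) (h1 w hw)
  rw [mul_inv_eq_one, mul_inv_eq_iff_eq_mul] at this
  exact this.symm

theorem pair_conj {n a b : G} (hn : n ∈ Subgroup.normalizer ((P : Subgroup G) : Set G))
    (ha : a ∈ (P : Subgroup G)) (hb : b ∈ (P : Subgroup G)) :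
    h.pair (n * a * n⁻¹) (n * b * n⁻¹) = h.pair a b := by
  rw [pair, pair]
  congr 1
  calc _ = n * (a * b * a⁻¹ * b⁻¹) * n⁻¹ := by group
    _ = _ := h.pre.fix_zp hn (h.comm a ha b hb)

theorem pair_swap {a b : G} (ha : a ∈ (P : Subgroup G)) (hb : b ∈ (P : Subgroup G)) :
    h.pair b a = conj (h.pair a b) := by
  have h1 : h.pair a b * h.pair b a = 1 := by
    rw [pair, pair, ← h.zc_mul (h.comm a ha b hb) (h.comm b hb a ha)]
    convert h.zc_one using 2
    group
  obtain ⟨i, hi⟩ := mem_powers_iff_mem_zpowers.mpr (h.comm a ha b hb)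
  have hn : ‖h.pair a b‖ = 1 := by
    rw [pair, ← hi]
    show ‖zc z (z ^ i)‖ = 1
    rw [h.zc_pow, norm_pow, Complex.norm_eq_one_of_pow_eq_one om3_cube (by norm_num), one_pow]
  rw [← Complex.inv_eq_conj hn]
  exact (inv_eq_of_mul_eq_one_right h1).symm

/-- The linear character attached to an element. -/
noncomputable def lamHom (a : ↥(P : Subgroup G)) : ↥(P : Subgroup G) →* ℂ where
  toFun b := h.pair a b
  map_one' := h.pair_one_right
  map_mul' b b' := h.pair_mul_right a.2 b.2 b'.2

open scoped _root_.Classical in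
theorem sum_pair_left (b : ↥(P : Subgroup G)) [Decidable ((b : G) ∈ Subgroup.zpowers z)] :
    ∑ a : ↥(P : Subgroup G), h.pair a b =
      if (b : G) ∈ Subgroup.zpowers z then 27 else 0 := by
  split_ifs with hb
  · rw [Finset.sum_congr rfl fun (a : ↥(P : Subgroup G)) _ => h.pair_zp_right a.2 hb,
      Finset.sum_const, Finset.card_univ, ← Nat.card_eq_fintype_card, h.card]
    norm_num
  · let f : ↥(P : Subgroup G) →* ℂ :=
      { toFun := fun a => h.pair a b
        map_one' := h.pair_one_left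
        map_mul' := fun a a' => h.pair_mul_left a.2 a'.2 b.2 }
    refine sum_hom_units_eq_zero f fun e => hb (h.mem_zp_of_pair b.2 fun a ha => ?_)
    exact congrArg (fun φ : ↥(P : Subgroup G) →* ℂ => φ ⟨a, ha⟩) e

open scoped _root_.Classical in
theorem sum_pair_right (a : ↥(P : Subgroup G)) [Decidable ((a : G) ∈ Subgroup.zpowers z)] :
    ∑ b : ↥(P : Subgroup G), h.pair a b =
      if (a : G) ∈ Subgroup.zpowers z then 27 else 0 := by
  rw [Finset.sum_congr rfl fun (b : ↥(P : Subgroup G)) _ => h.pair_swap b.2 a.2, ← map_sum,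
    h.sum_pair_left a]
  split_ifs <;> simp [map_ofNat]

end Core

/-- Constancy on the conjugacy classes met in `P`. -/
def PInv (P : Sylow 3 G) (f : ↥(P : Subgroup G) → ℂ) : Prop :=
  ∀ y y' : ↥(P : Subgroup G), IsConj (y : G) (y' : G) → f y = f y'

theorem liftP_eq {P : Sylow 3 G} {f : ↥(P : Subgroup G) → ℂ} (hf : PInv P f) {g : G}
    {y : ↥(P : Subgroup G)} (hy : IsConj (ppt 3 g) (y : G)) : liftP P f g = f y := by
  classical
  have hex : ∃ y : ↥(P : Subgroup G), IsConj (ppt 3 g) (y : G) := ⟨y, hy⟩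
  rw [liftP, dif_pos hex]
  exact hf _ _ (hex.choose_spec.symm.trans hy)

theorem liftP_val {P : Sylow 3 G} {f : ↥(P : Subgroup G) → ℂ} (hf : PInv P f)
    (y : ↥(P : Subgroup G)) {v : G} (hc : Commute (y : G) v) (hv : ¬ 3 ∣ orderOf v) :
    liftP P f ((y : G) * v) = f y :=
  liftP_eq hf (by rw [ppt_mul Nat.prime_three hc (OrderNine.ppower (P := P) y.2) hv])

theorem adm_liftP {P : Sylow 3 G} {z : G} {f : ↥(P : Subgroup G) → ℂ} (hf : PInv P f)
    (h1 : f 1 = 0) : Adm P z (liftP P f) := by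
  refine ⟨fun g k => ?_, fun g hg => ?_, fun y hy hyn v hc hv => ?_⟩
  · obtain ⟨y, hy⟩ := FrobSylow.exists_conj_ppt (P := P) g
    rw [liftP_eq hf hy, liftP_eq hf (y := y) (by
      rw [ppt_conj Nat.prime_three]
      exact (isConj_iff.mpr ⟨k, rfl⟩ : IsConj (ppt 3 g) (k * ppt 3 g * k⁻¹)).symm.trans hy)]
  · rw [liftP_eq hf (y := 1) (by rw [(ppt_eq_one_iff Nat.prime_three g).mpr hg, OneMemClass.coe_one]),
      h1]
  · rw [liftP_val hf ⟨y, hy⟩ hc hv]
    refine (liftP_eq hf (y := ⟨y, hy⟩) ?_).symm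
    rw [ppt_of_ppower Nat.prime_three (OrderNine.ppower (P := P) hy)]

/-- Lifting a generalized character of `P` gives a generalized character. -/
theorem isGen_liftP {P : Sylow 3 G} {f : ↥(P : Subgroup G) → ℂ} (hf : PInv P f) (h1 : f 1 = 0)
    (hgen : IsGeneralizedCharacter (↥(P : Subgroup G)) f) :
    IsGeneralizedCharacter G (liftP P f) := by
  refine brauer_characterization (adm_liftP (z := (1 : G)) hf h1).cls fun E ℓ hℓ hE => ?_
  obtain ⟨g, hg⟩ := exists_hom_ppt (P := P) E hℓ hE
  obtain ⟨α, β, hα, hβ, e⟩ := hgen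
  refine ⟨α ∘ g, β ∘ g, isCharacter_comp g hα, isCharacter_comp g hβ, ?_⟩
  funext a
  rw [Pi.sub_apply, liftP_eq hf (hg a), e]
  rfl

open scoped _root_.Classical in
/-- The conjugates in `P`. -/
noncomputable def pclass (P : Sylow 3 G) (w : ↥(P : Subgroup G)) : Finset ↥(P : Subgroup G) :=
  Finset.univ.filter fun v => IsConj (w : G) (v : G)

theorem mem_pclass {P : Sylow 3 G} {w v : ↥(P : Subgroup G)} :
    v ∈ pclass P w ↔ IsConj (w : G) (v : G) := by simp [pclass]

theorem pclass_eq {P : Sylow 3 G} {w v : ↥(P : Subgroup G)} (hc : IsConj (w : G) (v : G)) :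
    pclass P w = pclass P v := by
  ext x
  simp only [mem_pclass]
  exact ⟨fun hx => hc.symm.trans hx, fun hx => hc.trans hx⟩

namespace Setting

variable {P : Sylow 3 G} {z : G} {e : ℕ} (h : Setting P z e)
include h

theorem card_pclass {w : ↥(P : Subgroup G)} (hw : (w : G) ∉ Subgroup.zpowers z) :
    (pclass P w).card = 3 * e := h.class_card w hw

theorem pclass_noncentral {w v : ↥(P : Subgroup G)} (hw : (w : G) ∉ Subgroup.zpowers z)
    (hv : v ∈ pclass P w) : (v : G) ∉ Subgroup.zpowers z := fun hm =>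
  hw ((h.core.pre.conj_zp w.2 hm (mem_pclass.mp hv).symm) ▸ hm)

theorem shift_mem {w v t : ↥(P : Subgroup G)} (hw : (w : G) ∉ Subgroup.zpowers z)
    (hv : v ∈ pclass P w) (ht : (t : G) ∈ Subgroup.zpowers z) : v * t ∈ pclass P w := by
  obtain ⟨a, -, he⟩ := h.core.pre.shift v.2 (h.pclass_noncentral hw hv) ht
  exact mem_pclass.mpr ((mem_pclass.mp hv).trans (isConj_iff.mpr ⟨a, by simpa using he⟩))

/-- The orbit function of a non-central element. -/
noncomputable def orbF (_h : Setting P z e) (w : ↥(P : Subgroup G)) :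
    ↥(P : Subgroup G) → ℂ := fun v =>
  (3 : ℂ)⁻¹ * ∑ w' ∈ pclass P w, _h.core.pair w' v - e

theorem orbF_inv (w : ↥(P : Subgroup G)) : PInv P (h.orbF w) := by
  intro y y' hc
  obtain ⟨n, hn, hny⟩ := h.core.fusion y y.2 y' y'.2 hc
  have hmem : ∀ a : ↥(P : Subgroup G), n * (a : G) * n⁻¹ ∈ (P : Subgroup G) := fun a =>
    (Subgroup.mem_normalizer_iff.mp hn a).mp a.2
  have hmem' : ∀ a : ↥(P : Subgroup G), n⁻¹ * (a : G) * n ∈ (P : Subgroup G) := fun a => by
    have := (Subgroup.mem_normalizer_iff.mp (inv_mem hn) a).mp a.2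
    rwa [inv_inv] at this
  simp only [orbF]
  congr 2
  refine Finset.sum_bij (fun a _ => ⟨n * (a : G) * n⁻¹, hmem a⟩) (fun a ha => ?_)
    (fun a _ b _ e => ?_) (fun b hb => ?_) (fun a _ => ?_)
  · exact mem_pclass.mpr ((mem_pclass.mp ha).trans (isConj_iff.mpr ⟨n, rfl⟩))
  · exact Subtype.ext (mul_left_cancel (mul_right_cancel (congrArg Subtype.val e)))
  · exact ⟨⟨n⁻¹ * (b : G) * n, hmem' b⟩,
      mem_pclass.mpr ((mem_pclass.mp hb).trans (isConj_iff.mpr ⟨n⁻¹, by simp⟩)),
      Subtype.ext (by group)⟩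
  · show h.core.pair a y = h.core.pair (n * (a : G) * n⁻¹) y'
    rw [← hny, h.core.pair_conj hn a.2 y.2]

theorem orbF_zp {w v : ↥(P : Subgroup G)} (hw : (w : G) ∉ Subgroup.zpowers z)
    (hv : (v : G) ∈ Subgroup.zpowers z) : h.orbF w v = 0 := by
  rw [orbF, Finset.sum_congr rfl fun (a : ↥(P : Subgroup G)) _ => h.core.pair_zp_right a.2 hv,
    Finset.sum_const, h.card_pclass hw, nsmul_eq_mul]
  push_cast
  ring

/-- The orbit functions are generalized characters of `P`. -/
theorem orbF_gen {w : ↥(P : Subgroup G)} (hw : (w : G) ∉ Subgroup.zpowers z) :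
    IsGeneralizedCharacter (↥(P : Subgroup G)) (h.orbF w) := by
  classical
  set A := (pclass P w).image fun a => h.core.lamHom a with hA
  have hfib : ∀ a ∈ pclass P w,
      ((pclass P w).filter fun b => h.core.lamHom b = h.core.lamHom a).card = 3 := by
    intro a ha
    have e1 : ((pclass P w).filter fun b => h.core.lamHom b = h.core.lamHom a) =
        (Finset.univ.filter fun t : ↥(P : Subgroup G) => (t : G) ∈ Subgroup.zpowers z).image
          (fun t => a * t) := by
      ext b
      simp only [Finset.mem_filter, Finset.mem_image, Finset.mem_univ, true_and]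
      constructor
      · rintro ⟨-, hb⟩
        refine ⟨a⁻¹ * b, ?_, mul_inv_cancel_left a b⟩
        refine h.core.mem_zp_of_pair (a⁻¹ * b).2 fun x hx => ?_
        have h1 : h.core.pair b x = h.core.pair a x := congrArg
          (fun φ : ↥(P : Subgroup G) →* ℂ => φ ⟨x, hx⟩) hb
        have h2 : h.core.pair ((a⁻¹ * b : ↥(P : Subgroup G)) : G) x = 1 := by
          have h3 := h.core.pair_mul_left a.2 (a⁻¹ * b).2 hx
          rw [← Subgroup.coe_mul, mul_inv_cancel_left, h1] at h3
          refine mul_left_cancel₀ (a := h.core.pair a x) (fun h0 => ?_) (by rw [mul_one]; exact h3.symm)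
          have h4 := h.core.pair_mul_left a.2 (inv_mem a.2) hx
          rw [h0, zero_mul, mul_inv_cancel, h.core.pair_one_left] at h4
          exact one_ne_zero h4
        rw [h.core.pair_swap (a⁻¹ * b).2 hx, h2, map_one]
      · rintro ⟨t, ht, rfl⟩
        refine ⟨h.shift_mem hw ha ht, MonoidHom.ext fun x => ?_⟩
        show h.core.pair ((a : G) * t) x = h.core.pair a x
        rw [h.core.pair_mul_left a.2 t.2 x.2, h.core.pair_zp_left ht x.2, mul_one]
    rw [e1, Finset.card_image_of_injective _ (mul_right_injective a), ← Fintype.card_subtype,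
      ← Nat.card_eq_fintype_card]
    rw [Nat.card_congr (β := Subgroup.zpowers z) ⟨fun t => ⟨(t.1 : G), t.2⟩,
      fun t => ⟨⟨(t : G), h.core.pre.zp_le t.2⟩, t.2⟩, fun t => rfl, fun t => rfl⟩,
      Nat.card_zpowers, h.core.pre.ord_z]
  have hsum : ∀ v : ↥(P : Subgroup G), ∑ a ∈ pclass P w, h.core.pair a v = 3 * ∑ φ ∈ A, φ v := by
    intro v
    rw [hA, Finset.mul_sum, ← Finset.sum_fiberwise_of_maps_to (g := fun a => h.core.lamHom a)
      (fun a ha => Finset.mem_image_of_mem _ ha)]
    refine Finset.sum_congr rfl fun φ hφ => ?_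
    obtain ⟨a, ha, rfl⟩ := Finset.mem_image.mp hφ
    rw [Finset.sum_congr rfl (g := fun _ => h.core.lamHom a v) fun b hb => by
      rw [← (Finset.mem_filter.mp hb).2]; rfl, Finset.sum_const, hfib a ha]
    simp
  refine ⟨fun v => ∑ φ ∈ A, φ v, fun _ => (e : ℂ), ?_, ?_, ?_⟩
  · convert isCharacter_sum A (fun φ => fun v => ((φ.toHomUnits v : ℂˣ) : ℂ))
      (fun φ _ => isCharacter_linear _) using 1
    funext v
    simp
  · convert isCharacter_nsmul (isCharacter_one (G := ↥(P : Subgroup G))) e using 1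
    funext v
    simp
  · funext v
    rw [Pi.sub_apply, orbF, hsum]
    ring

open scoped _root_.Classical in
theorem sum_orbF {w : ↥(P : Subgroup G)} (hw : (w : G) ∉ Subgroup.zpowers z) :
    ∑ v : ↥(P : Subgroup G), h.orbF w v = -(27 * e : ℂ) := by
  simp only [orbF]
  rw [Finset.sum_sub_distrib, ← Finset.mul_sum, Finset.sum_comm, Finset.sum_eq_zero fun a ha => by
      rw [h.core.sum_pair_right a, if_neg (h.pclass_noncentral hw ha)],
    Finset.sum_const, Finset.card_univ, ← Nat.card_eq_fintype_card, h.core.card, nsmul_eq_mul]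
  push_cast
  ring

open scoped _root_.Classical in
/-- Inner products of the orbit functions. -/
theorem orbF_gram {w w' : ↥(P : Subgroup G)} (hw : (w : G) ∉ Subgroup.zpowers z)
    (hw' : (w' : G) ∉ Subgroup.zpowers z) :
    (27 * e : ℂ)⁻¹ * ∑ v : ↥(P : Subgroup G), h.orbF w v * conj (h.orbF w' v) =
      e + (if pclass P w = pclass P w' then 1 else 0) := by
  have he0 : (e : ℂ) ≠ 0 := Nat.cast_ne_zero.mpr h.e_pos.ne'
  have key : ∑ v : ↥(P : Subgroup G), (∑ a ∈ pclass P w, h.core.pair a v) *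
      conj (∑ b ∈ pclass P w', h.core.pair b v) =
        if pclass P w = pclass P w' then (27 * 9 * e : ℂ) else 0 := by
    simp only [map_sum, Finset.sum_mul, Finset.mul_sum]
    rw [Finset.sum_comm, Finset.sum_congr rfl fun x _ => Finset.sum_comm, Finset.sum_comm]
    have h1 : ∀ a b : ↥(P : Subgroup G), ∑ v : ↥(P : Subgroup G),
        h.core.pair a v * conj (h.core.pair b v) =
          if ((b⁻¹ * a : ↥(P : Subgroup G)) : G) ∈ Subgroup.zpowers z then 27 else 0 := by
      intro a b
      rw [← h.core.sum_pair_right (b⁻¹ * a)]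
      refine Finset.sum_congr rfl fun v _ => ?_
      rw [← h.core.pair_swap b.2 v.2, Subgroup.coe_mul, h.core.pair_mul_left (b⁻¹).2 a.2 v.2,
        mul_comm]
      congr 1
      have h3 := h.core.pair_mul_left (a := (b : G)) (a' := ((b⁻¹ : ↥(P : Subgroup G)) : G))
        b.2 (b⁻¹).2 v.2
      rw [← Subgroup.coe_mul, mul_inv_cancel, OneMemClass.coe_one, h.core.pair_one_left] at h3
      have h4 : h.core.pair b v * h.core.pair v b = 1 := by
        rw [Core.pair, Core.pair, ← h.core.zc_mul (h.core.comm b b.2 v v.2) (h.core.comm v v.2 b b.2)]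
        convert h.core.zc_one using 2
        group
      have hne : h.core.pair b v ≠ 0 := left_ne_zero_of_mul (h4 ▸ one_ne_zero)
      exact mul_left_cancel₀ hne (h4.trans h3)
    rw [Finset.sum_congr rfl fun a _ => Finset.sum_congr rfl fun b _ => h1 a b]
    split_ifs with he
    · rw [← he, Finset.sum_congr rfl (g := fun _ => (81 : ℂ)) fun a ha => ?_, Finset.sum_const,
        h.card_pclass hw, nsmul_eq_mul]
      · push_cast; ring
      rw [← Finset.sum_filter, Finset.sum_const,
        show ((pclass P w).filter fun b => ((b⁻¹ * a : ↥(P : Subgroup G)) : G) ∈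
          Subgroup.zpowers z) = (Finset.univ.filter fun t : ↥(P : Subgroup G) =>
            (t : G) ∈ Subgroup.zpowers z).image (fun t => a * t) from ?_,
        Finset.card_image_of_injective _ (mul_right_injective a), ← Fintype.card_subtype,
        ← Nat.card_eq_fintype_card, Nat.card_congr (β := Subgroup.zpowers z)
          ⟨fun t => ⟨(t.1 : G), t.2⟩, fun t => ⟨⟨(t : G), h.core.pre.zp_le t.2⟩, t.2⟩,
            fun t => rfl, fun t => rfl⟩, Nat.card_zpowers, h.core.pre.ord_z]
      · norm_num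
      · ext b
        simp only [Finset.mem_filter, Finset.mem_image, Finset.mem_univ, true_and]
        constructor
        · rintro ⟨-, hb⟩
          exact ⟨a⁻¹ * b, by simpa using inv_mem hb, mul_inv_cancel_left a b⟩
        · rintro ⟨t, ht, rfl⟩
          exact ⟨h.shift_mem hw ha ht, by simpa using inv_mem ht⟩
    · refine Finset.sum_eq_zero fun a ha => Finset.sum_eq_zero fun b hb => if_neg fun hm => he ?_
      have ha' : a ∈ pclass P w' := by
        have := h.shift_mem hw' hb hm
        rwa [mul_inv_cancel_left] at this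
      rw [pclass_eq (mem_pclass.mp ha), pclass_eq (mem_pclass.mp ha')]
  have hS : ∀ x : ↥(P : Subgroup G), (x : G) ∉ Subgroup.zpowers z →
      ∑ v : ↥(P : Subgroup G), ∑ a ∈ pclass P x, h.core.pair a v = 0 := fun x hx => by
    rw [Finset.sum_comm]
    exact Finset.sum_eq_zero fun a ha => by
      rw [h.core.sum_pair_right a, if_neg (h.pclass_noncentral hx ha)]
  have hS' : ∑ v : ↥(P : Subgroup G), conj (∑ a ∈ pclass P w', h.core.pair a v) = 0 := by
    rw [← map_sum, hS w' hw', map_zero]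
  simp only [orbF, map_sub, map_mul, map_natCast, map_inv₀, map_ofNat, sub_mul, mul_sub,
    Finset.sum_sub_distrib]
  rw [Finset.sum_congr rfl fun (v : ↥(P : Subgroup G)) _ =>
    show (3 : ℂ)⁻¹ * (∑ a ∈ pclass P w, h.core.pair a v) *
        ((3 : ℂ)⁻¹ * conj (∑ b ∈ pclass P w', h.core.pair b v)) =
      (9 : ℂ)⁻¹ * ((∑ a ∈ pclass P w, h.core.pair a v) *
        conj (∑ b ∈ pclass P w', h.core.pair b v)) by ring]
  simp only [← Finset.mul_sum, ← Finset.sum_mul, key, hS', hS w hw, Finset.sum_const,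
    Finset.card_univ, ← Nat.card_eq_fintype_card, h.core.card, nsmul_eq_mul]
  split_ifs <;> field_simp <;> push_cast <;> ring

open scoped _root_.Classical in
/-- A class function on the non-central part orthogonal to all orbit functions vanishes. -/
theorem orbF_inversion {d : ↥(P : Subgroup G) → ℂ} (hd : PInv P d)
    (hdz : ∀ v : ↥(P : Subgroup G), (v : G) ∈ Subgroup.zpowers z → d v = 0)
    (horth : ∀ w : ↥(P : Subgroup G), (w : G) ∉ Subgroup.zpowers z →
      ∑ v : ↥(P : Subgroup G), d v * h.orbF w v = 0) : d = 0 := by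
  set S := ∑ v : ↥(P : Subgroup G), d v with hSd
  have h3e : (3 * e : ℂ) ≠ 0 := mul_ne_zero (by norm_num) (Nat.cast_ne_zero.mpr h.e_pos.ne')
  -- a single pairing carries the same information
  have hpair : ∀ w : ↥(P : Subgroup G), ∑ v : ↥(P : Subgroup G), d v * h.core.pair w v = S := by
    intro w
    by_cases hw : (w : G) ∈ Subgroup.zpowers z
    · exact Finset.sum_congr rfl fun v _ => by rw [h.core.pair_zp_left hw v.2, mul_one]
    have hinv : ∀ a ∈ pclass P w, ∑ v : ↥(P : Subgroup G), d v * h.core.pair a v =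
        ∑ v : ↥(P : Subgroup G), d v * h.core.pair w v := by
      intro a ha
      obtain ⟨n, hn, hna⟩ := h.core.fusion w w.2 a a.2 (mem_pclass.mp ha)
      refine (Fintype.sum_bijective (conjP (P := P) ⟨n⁻¹, inv_mem hn⟩)
        (Finite.injective_iff_bijective.mp fun u v huv => Subtype.ext (mul_left_cancel
          (mul_right_cancel (by simpa only [coe_conjP] using congrArg Subtype.val huv)))) _ _
        fun v => ?_).symm
      show _ = d (conjP ⟨n⁻¹, inv_mem hn⟩ v) *
        h.core.pair a (conjP ⟨n⁻¹, inv_mem hn⟩ v : ↥(P : Subgroup G))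
      rw [coe_conjP, inv_inv, ← hna, h.core.pair_conj hn w.2 v.2]
      congr 1
      exact hd v _ (isConj_iff.mpr ⟨n, by rw [coe_conjP, inv_inv]⟩)
    have h0 := horth w hw
    simp only [orbF, mul_sub, Finset.sum_sub_distrib, Finset.mul_sum] at h0
    rw [Finset.sum_comm, Finset.sum_congr rfl fun (a : ↥(P : Subgroup G)) ha => show
        ∑ v : ↥(P : Subgroup G), d v * ((3 : ℂ)⁻¹ * h.core.pair a v) =
          (3 : ℂ)⁻¹ * ∑ v : ↥(P : Subgroup G), d v * h.core.pair w v by
        rw [← hinv a ha, Finset.mul_sum]; exact Finset.sum_congr rfl fun v _ => by ring,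
      Finset.sum_const, h.card_pclass hw, ← Finset.sum_mul, ← hSd, nsmul_eq_mul] at h0
    refine mul_left_cancel₀ h3e ?_
    push_cast at h0 ⊢
    field_simp at h0
    linear_combination (3 : ℂ) * h0
  funext y
  by_cases hy : (y : G) ∈ Subgroup.zpowers z
  · exact hdz y hy
  have h1 : ∑ w : ↥(P : Subgroup G), (∑ v : ↥(P : Subgroup G), d v * h.core.pair w v) *
      h.core.pair w (y⁻¹ : ↥(P : Subgroup G)) = 0 := by
    rw [Finset.sum_congr rfl fun w _ => by rw [hpair w], ← Finset.mul_sum,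
      h.core.sum_pair_left (y⁻¹), if_neg (fun hm => hy (by simpa using inv_mem hm)), mul_zero]
  simp only [Finset.sum_mul] at h1
  rw [Finset.sum_comm] at h1
  rw [Finset.sum_congr rfl fun v _ => show ∑ w : ↥(P : Subgroup G),
      d v * h.core.pair w v * h.core.pair w (y⁻¹ : ↥(P : Subgroup G)) =
        if ((v * y⁻¹ : ↥(P : Subgroup G)) : G) ∈ Subgroup.zpowers z then 27 * d y else 0 by
    rw [Finset.sum_congr rfl fun (w : ↥(P : Subgroup G)) _ => show
      d v * h.core.pair w v * h.core.pair w (y⁻¹ : ↥(P : Subgroup G)) =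
        d v * h.core.pair w ((v * y⁻¹ : ↥(P : Subgroup G)) : G) by
      rw [mul_assoc, ← h.core.pair_mul_right w.2 v.2 (y⁻¹).2]; rfl, ← Finset.mul_sum,
      h.core.sum_pair_left (v * y⁻¹)]
    split_ifs with hm
    · have hv : v ∈ pclass P y := by
        have hm2 : ((y⁻¹ * v : ↥(P : Subgroup G)) : G) ∈ Subgroup.zpowers z := by
          have e1 := h.core.pre.zp_comm hm y.2
          have : ((y⁻¹ * v : ↥(P : Subgroup G)) : G) = ((v * y⁻¹ : ↥(P : Subgroup G)) : G) := by
            simp only [Subgroup.coe_mul, Subgroup.coe_inv, inv_mul_cancel_right] at e1 ⊢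
            nth_rewrite 1 [e1]
            group
          rw [this]; exact hm
        have := h.shift_mem (v := y) (t := y⁻¹ * v) hy (mem_pclass.mpr (IsConj.refl _)) hm2
        rwa [mul_inv_cancel_left] at this
      rw [hd v y (mem_pclass.mp hv).symm]; ring
    · ring] at h1
  rw [← Finset.sum_filter, Finset.sum_const, nsmul_eq_mul] at h1
  rcases mul_eq_zero.mp h1 with h2 | h2
  · exact absurd h2 (Nat.cast_ne_zero.mpr (Finset.card_ne_zero.mpr
      ⟨y, Finset.mem_filter.mpr ⟨Finset.mem_univ _, by simp⟩⟩))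
  · exact (mul_eq_zero.mp h2).resolve_left (by norm_num)

open scoped _root_.Classical in
/-- The classes of non-central elements. -/
noncomputable def orbs (_h : Setting P z e) : Finset (Finset ↥(P : Subgroup G)) :=
  (Finset.univ.filter fun w : ↥(P : Subgroup G) => (w : G) ∉ Subgroup.zpowers z).image (pclass P)

open scoped _root_.Classical in
theorem card_noncentral :
    (Finset.univ.filter fun w : ↥(P : Subgroup G) => (w : G) ∉ Subgroup.zpowers z).card = 24 := by
  have h1 := Finset.card_filter_add_card_filter_not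
    (s := (Finset.univ : Finset ↥(P : Subgroup G))) (fun w => (w : G) ∈ Subgroup.zpowers z)
  rw [Finset.card_univ, ← Nat.card_eq_fintype_card, h.core.card, ← Fintype.card_subtype,
    ← Nat.card_eq_fintype_card, Nat.card_congr (β := Subgroup.zpowers z)
      ⟨fun t => ⟨(t.1 : G), t.2⟩, fun t => ⟨⟨(t : G), h.core.pre.zp_le t.2⟩, t.2⟩,
        fun t => rfl, fun t => rfl⟩, Nat.card_zpowers, h.core.pre.ord_z] at h1
  omega

theorem card_orbs : h.orbs.card * (3 * e) = 24 := by
  classical
  rw [← h.card_noncentral, orbs, Finset.card_eq_sum_card_image (pclass P)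
    (Finset.univ.filter fun w : ↥(P : Subgroup G) => (w : G) ∉ Subgroup.zpowers z),
    Finset.sum_congr rfl (g := fun _ => 3 * e) fun K hK => ?_, Finset.sum_const, smul_eq_mul]
  obtain ⟨w, hw, rfl⟩ := Finset.mem_image.mp hK
  have hw' := (Finset.mem_filter.mp hw).2
  rw [← h.card_pclass hw']
  congr 1
  ext v
  simp only [Finset.mem_filter, Finset.mem_univ, true_and]
  refine ⟨fun hv => hv.2 ▸ mem_pclass.mpr (IsConj.refl _), fun hv =>
    ⟨h.pclass_noncentral hw' hv, (pclass_eq (mem_pclass.mp hv)).symm⟩⟩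

/-- A choice of representatives of the orbits. -/
theorem exists_reps : ∃ (n : ℕ) (r : Fin n → ↥(P : Subgroup G)), n * (3 * e) = 24 ∧
    (∀ i, (r i : G) ∉ Subgroup.zpowers z) ∧ (∀ i j, pclass P (r i) = pclass P (r j) → i = j) ∧
    ∀ w : ↥(P : Subgroup G), (w : G) ∉ Subgroup.zpowers z → ∃ i, pclass P w = pclass P (r i) := by
  classical
  have hrep : ∀ K : h.orbs, ∃ w : ↥(P : Subgroup G), (w : G) ∉ Subgroup.zpowers z ∧
      pclass P w = (K : Finset ↥(P : Subgroup G)) := fun K => by
    obtain ⟨w, hw, he⟩ := Finset.mem_image.mp K.2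
    exact ⟨w, (Finset.mem_filter.mp hw).2, he⟩
  choose r hr hK using hrep
  refine ⟨h.orbs.card, fun i => r (h.orbs.equivFin.symm i), h.card_orbs, fun i => hr _,
    fun i j he => h.orbs.equivFin.symm.injective (Subtype.ext (by rw [← hK, ← hK]; exact he)),
    fun w hw => ?_⟩
  have hm : pclass P w ∈ h.orbs :=
    Finset.mem_image_of_mem _ (Finset.mem_filter.mpr ⟨Finset.mem_univ _, hw⟩)
  exact ⟨h.orbs.equivFin ⟨_, hm⟩, by simp only [Equiv.symm_apply_apply, hK]⟩

end Setting

end Cfsg.Agent.Char.X27
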