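import Cfsg.Agent.Lib.Char.X27.Models

/-!
# Stars of vectors of norm three attached to disjoint pairs
-/

set_option autoImplicit false

namespace Cfsg.Agent.Char.X27

variable {ι : Type*} [Fintype ι] {n : ℕ}

/-- Three signed coordinates. -/
theorem dot_three {u : ι → ℤ} {a b c : ι} (hab : a ≠ b) (hac : a ≠ c) (hbc : b ≠ c)
    (h : ∀ i, i ≠ a → i ≠ b → i ≠ c → u i = 0) (v : ι → ℤ) :
    dot u v = u a * v a + u b * v b + u c * v c := by
  classical
  rw [dot, ← Finset.sum_subset (Finset.subset_univ {a, b, c}) fun i _ hi => by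
    simp only [Finset.mem_insert, Finset.mem_singleton, not_or] at hi
    rw [h i hi.1 hi.2.1 hi.2.2, zero_mul]]
  rw [Finset.sum_insert (by simp [hab, hac]), Finset.sum_insert (by simp [hbc]),
    Finset.sum_singleton]
  ring

theorem dot_two {u : ι → ℤ} {a b : ι} (hab : a ≠ b) (h : ∀ i, i ≠ a → i ≠ b → u i = 0)
    (v : ι → ℤ) : dot u v = u a * v a + u b * v b := by
  classical
  rw [dot, ← Finset.sum_subset (Finset.subset_univ {a, b}) fun i _ hi => by
    simp only [Finset.mem_insert, Finset.mem_singleton, not_or] at hi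
    rw [h i hi.1 hi.2, zero_mul], Finset.sum_insert (by simp [hab]), Finset.sum_singleton]

/-- In a vector of norm three, three non-zero coordinates are all there is. -/
theorem three_only {u : ι → ℤ} (hu : dot u u = 3) {a b c : ι} (hab : a ≠ b) (hac : a ≠ c)
    (hbc : b ≠ c) (ha : u a ≠ 0) (hb : u b ≠ 0) (hc : u c ≠ 0) {i : ι} (hia : i ≠ a) (hib : i ≠ b)
    (hic : i ≠ c) : u i = 0 := by
  classical
  by_contra hi
  have hle : ∑ x ∈ ({a, b, c, i} : Finset ι), u x * u x ≤ dot u u :=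
    Finset.sum_le_univ_sum_of_nonneg fun x => mul_self_nonneg _
  rw [Finset.sum_insert (by simp [hab, hac, hia.symm]), Finset.sum_insert (by simp [hbc, hib.symm]),
    Finset.sum_insert (by simp [hic.symm]), Finset.sum_singleton, hu] at hle
  have := mul_self_pos.mpr ha
  have := mul_self_pos.mpr hb
  have := mul_self_pos.mpr hc
  have := mul_self_pos.mpr hi
  omega

/-- A third non-zero coordinate exists. -/
theorem third_entry {u : ι → ℤ} (hu : dot u u = 3) {a b : ι} (hab : a ≠ b) :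
    ∃ c, c ≠ a ∧ c ≠ b ∧ u c ≠ 0 := by
  by_contra hno
  push Not at hno
  have h2 := dot_two hab (fun i hi hi' => hno i hi hi') u
  have hle : ∀ i, u i * u i ≤ 1 := fun i => by
    rcases small_entry (u := u) hu.le i with e | e | e <;> simp [e]
  have := hle a
  have := hle b
  omega

/-- Disjoint pairs with one vector of norm three on each. -/
structure Pairs (o : ι) (W T : Fin (n + 1) → ι → ℤ) (a b : Fin (n + 1) → ι)
    (sa sb : Fin (n + 1) → ℤ) : Prop where
  sa2 : ∀ i, sa i * sa i = 1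
  sb2 : ∀ i, sb i * sb i = 1
  Wa : ∀ i, W i (a i) = sa i
  Wb : ∀ i, W i (b i) = sb i
  Wz : ∀ i x, x ≠ a i → x ≠ b i → W i x = 0
  hab : ∀ i j, a i ≠ b j
  aa : ∀ i j, a i = a j → i = j
  bb : ∀ i j, b i = b j → i = j
  Ta : ∀ i, T i (a i) = -sa i
  Tb : ∀ i, T i (b i) = 0
  oa : ∀ i, o ≠ a i
  ob : ∀ i, o ≠ b i

theorem exists_pairs {o : ι} {W T : Fin (n + 1) → ι → ℤ}
    (hWW : ∀ i j, dot (W i) (W j) = if i = j then 2 else 0)
    (hTW : ∀ i j, dot (T i) (W j) = if i = j then -1 else 0)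
    (hTT : ∀ i, dot (T i) (T i) ≤ 4) (hsmall : ∀ i x, T i x = 0 ∨ T i x = 1 ∨ T i x = -1)
    (hWo : ∀ i, W i o = 0) :
    ∃ a b sa sb, Pairs o W T a b sa sb := by
  classical
  have h2 : ∀ i, ∃ a b, a ≠ b ∧ W i a * W i a = 1 ∧ W i b * W i b = 1 ∧
      ∀ x, x ≠ a → x ≠ b → W i x = 0 := fun i => shape_two (by simpa using hWW i i)
  choose a₀ b₀ hne ha hb hz using h2
  -- orient the pairs
  have hor : ∀ i, ∃ a b, a ≠ b ∧ W i a * W i a = 1 ∧ W i b * W i b = 1 ∧
      (∀ x, x ≠ a → x ≠ b → W i x = 0) ∧ T i a = -W i a ∧ T i b = 0 := by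
    intro i
    have h1 := hTW i i
    rw [if_pos rfl, dot_comm, dot_two (hne i) (hz i)] at h1
    have h0 : T i (a₀ i) = 0 ∨ T i (b₀ i) = 0 := by
      rcases sign_of_sq (ha i) with e | e <;> rcases sign_of_sq (hb i) with e' | e' <;>
        rcases hsmall i (a₀ i) with f | f | f <;> rcases hsmall i (b₀ i) with f' | f' | f' <;>
        rw [e, e', f, f'] at h1 <;> omega
    rcases h0 with f | f
    · refine ⟨b₀ i, a₀ i, (hne i).symm, hb i, ha i, fun x h h' => hz i x h' h, ?_, f⟩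
      rw [f, mul_zero, zero_add] at h1
      linear_combination W i (b₀ i) * h1 - T i (b₀ i) * hb i
    · refine ⟨a₀ i, b₀ i, hne i, ha i, hb i, hz i, ?_, f⟩
      rw [f, mul_zero, add_zero] at h1
      linear_combination W i (a₀ i) * h1 - T i (a₀ i) * ha i
  choose a b hne ha hb hz hTa hTb using hor
  have hna : ∀ i, W i (a i) ≠ 0 := fun i e => by simpa [e] using ha i
  have hnb : ∀ i, W i (b i) ≠ 0 := fun i e => by simpa [e] using hb i
  have hTj : ∀ i j, i ≠ j → W j (a j) * T i (a j) + W j (b j) * T i (b j) = 0 := fun i j hij => by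
    have := hTW i j
    rwa [if_neg hij, dot_comm, dot_two (hne j) (hz j)] at this
  have hdis : ∀ i j, i ≠ j → W j (a i) = 0 ∧ W j (b i) = 0 := by
    intro i j hij
    have h0 := hWW i j
    rw [if_neg hij, dot_two (hne i) (hz i)] at h0
    have hiff : W j (a i) = 0 ↔ W j (b i) = 0 := ⟨fun h => by
      rw [h, mul_zero, zero_add] at h0
      exact (mul_eq_zero.mp h0).resolve_left (hnb i), fun h => by
      rw [h, mul_zero, add_zero] at h0
      exact (mul_eq_zero.mp h0).resolve_left (hna i)⟩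
    by_contra hne'
    have hA : W j (a i) ≠ 0 := fun e => hne' ⟨e, hiff.mp e⟩
    have hB : W j (b i) ≠ 0 := fun e => hne' ⟨hiff.mpr e, e⟩
    have ma : a i = a j ∨ a i = b j := by
      by_contra hh; push Not at hh; exact hA (hz j _ hh.1 hh.2)
    have mb : b i = a j ∨ b i = b j := by
      by_contra hh; push Not at hh; exact hB (hz j _ hh.1 hh.2)
    have h1 := hTj i j hij
    rcases ma with e | e <;> rcases mb with e' | e'
    · exact hne i (e.trans e'.symm)
    · rw [← e, ← e', hTa i, hTb i, mul_zero, add_zero] at h1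
      rcases mul_eq_zero.mp h1 with h | h
      exacts [hA h, hna i (neg_eq_zero.mp h)]
    · rw [← e, ← e', hTa i, hTb i, mul_zero, zero_add] at h1
      rcases mul_eq_zero.mp h1 with h | h
      exacts [hA h, hna i (neg_eq_zero.mp h)]
    · exact hne i (e.trans e'.symm)
  refine ⟨a, b, fun i => W i (a i), fun i => W i (b i), ha, hb, fun i => rfl, fun i => rfl, hz,
    fun i j he => ?_, fun i j he => ?_, fun i j he => ?_, hTa, hTb, fun i e => ?_, fun i e => ?_⟩
  · rcases eq_or_ne i j with rfl | hij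
    · exact hne i he
    · exact hnb j (he ▸ (hdis i j hij).1)
  · by_contra hij
    exact hna j (he ▸ (hdis i j hij).1)
  · by_contra hij
    exact hnb j (he ▸ (hdis i j hij).2)
  · exact hna i (e ▸ hWo i)
  · exact hnb i (e ▸ hWo i)

namespace Pairs

variable {o : ι} {W T : Fin (n + 1) → ι → ℤ} {a b : Fin (n + 1) → ι} {sa sb : Fin (n + 1) → ℤ}
  (h : Pairs o W T a b sa sb)
include h

theorem sa_ne (i : Fin (n + 1)) : sa i ≠ 0 := fun e => by simpa [e] using h.sa2 i

theorem sb_ne (i : Fin (n + 1)) : sb i ≠ 0 := fun e => by simpa [e] using h.sb2 i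

theorem dotW (i : Fin (n + 1)) (u : ι → ℤ) : dot (W i) u = sa i * u (a i) + sb i * u (b i) := by
  rw [dot_two (h.hab i i) (h.Wz i), h.Wa, h.Wb]

/-- A vector orthogonal to a pair and meeting it meets both of its points. -/
theorem both {i : Fin (n + 1)} {u : ι → ℤ} (hu : dot u (W i) = 0) :
    u (a i) = 0 ↔ u (b i) = 0 := by
  rw [dot_comm, h.dotW] at hu
  constructor <;> intro e <;> rw [e] at hu <;> simp only [mul_zero, zero_add, add_zero] at hu
  · exact (mul_eq_zero.mp hu).resolve_left (h.sb_ne i)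
  · exact (mul_eq_zero.mp hu).resolve_left (h.sa_ne i)

variable (hTT : ∀ i j, dot (T i) (T j) = if i = j then 3 else 1)
  (hTW : ∀ i j, dot (T i) (W j) = if i = j then -1 else 0)
  (hTo : ∀ i, T i o = if i = 0 then 1 else 0)
include hTT hTW hTo

/-- The third coordinate of the first vector. -/
theorem exists_r : ∃ r, r ≠ o ∧ (∀ i, r ≠ a i ∧ r ≠ b i) ∧ T 0 r ≠ 0 ∧
    ∀ x, x ≠ o → x ≠ a 0 → x ≠ r → T 0 x = 0 := by
  have hu : dot (T 0) (T 0) = 3 := by simpa using hTT 0 0
  have hoa := h.oa 0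
  have hTo0 : T 0 o ≠ 0 := by simp [hTo]
  have hTa0 : T 0 (a 0) ≠ 0 := by rw [h.Ta]; exact neg_ne_zero.mpr (h.sa_ne 0)
  obtain ⟨r, hro, hra, hr⟩ := third_entry hu hoa
  refine ⟨r, hro, fun i => ?_, hr, fun x hx hxa hxr =>
    three_only hu hoa hro.symm hra.symm hTo0 hTa0 hr hx hxa hxr⟩
  rcases eq_or_ne i 0 with rfl | hi
  · exact ⟨hra, fun e => hr (e ▸ h.Tb 0)⟩
  · have hb := h.both (u := T 0) (i := i) (by rw [hTW, if_neg (Ne.symm hi)])
    refine ⟨fun e => ?_, fun e => ?_⟩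
    · refine (e ▸ hr) (hb.mpr ?_)
      exact three_only hu hoa hro.symm hra.symm hTo0 hTa0 hr (h.ob i).symm
        (fun e' => h.hab 0 i e'.symm) (fun e' => h.hab i i (e.symm.trans e'.symm))
    · refine (e ▸ hr) (hb.mp ?_)
      exact three_only hu hoa hro.symm hra.symm hTo0 hTa0 hr (h.oa i).symm
        (fun e' => hi (h.aa i 0 e')) (fun e' => h.hab i i (e'.trans e))

/-- A later vector meets the first pair in both points or in none; the first kind is exceptional. -/
theorem exceptional {j : Fin (n + 1)} (hj : j ≠ 0) (he : T j (a 0) ≠ 0) :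
    T j (a 0) = -sa 0 ∧ T j (b 0) = sb 0 ∧
      ∀ x, x ≠ a j → x ≠ a 0 → x ≠ b 0 → T j x = 0 := by
  have hu : dot (T j) (T j) = 3 := by simpa using hTT j j
  have hb0 : T j (b 0) ≠ 0 := fun e => he ((h.both (by rw [hTW, if_neg hj])).mpr e)
  have hTaj : T j (a j) ≠ 0 := by rw [h.Ta]; exact neg_ne_zero.mpr (h.sa_ne j)
  have haj : a j ≠ a 0 := fun e => hj (h.aa j 0 e)
  have hz : ∀ x, x ≠ a j → x ≠ a 0 → x ≠ b 0 → T j x = 0 := fun x h1 h2 h3 =>
    three_only hu haj (h.hab j 0) (h.hab 0 0) hTaj he hb0 h1 h2 h3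
  have h1 := hTT j 0
  rw [if_neg hj, dot_three haj (h.hab j 0) (h.hab 0 0) hz, h.Ta 0, h.Tb 0] at h1
  obtain ⟨r, hro, hr, hTr, hrz⟩ := h.exists_r hTT hTW hTo
  rw [hrz (a j) (h.oa j).symm haj fun e => (hr j).1 e.symm] at h1
  have h2 := hTW j 0
  rw [if_neg hj, dot_comm, h.dotW] at h2
  have hA : T j (a 0) = -sa 0 := by linear_combination sa 0 * (-h1) - T j (a 0) * h.sa2 0
  refine ⟨hA, ?_, hz⟩
  rw [hA] at h2
  linear_combination sb 0 * h2 + sb 0 * h.sa2 0 - T j (b 0) * h.sb2 0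

/-- With three vectors none is exceptional. -/
theorem not_exceptional (hn : 2 ≤ n) {j : Fin (n + 1)} (hj : j ≠ 0) : T j (a 0) = 0 := by
  by_contra he
  obtain ⟨hA, hB, hz⟩ := h.exceptional hTT hTW hTo hj he
  obtain ⟨k, hk0, hkj⟩ : ∃ k : Fin (n + 1), k ≠ 0 ∧ k ≠ j := by
    by_contra hno
    push Not at hno
    have h1 : (⟨1, by omega⟩ : Fin (n + 1)) = j := hno _ (by simp [Fin.ext_iff])
    have h2 : (⟨2, by omega⟩ : Fin (n + 1)) = j := hno _ (by simp [Fin.ext_iff])
    simpa [Fin.ext_iff] using h1.trans h2.symm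
  have haj : a j ≠ a 0 := fun e => hj (h.aa j 0 e)
  have h1 := hTT j k
  rw [if_neg hkj.symm, dot_three haj (h.hab j 0) (h.hab 0 0) hz, hA, hB] at h1
  have hu : dot (T k) (T k) = 3 := by simpa using hTT k k
  have hTak : T k (a k) ≠ 0 := by rw [h.Ta]; exact neg_ne_zero.mpr (h.sa_ne k)
  by_cases hek : T k (a 0) = 0
  · have hb0 : T k (b 0) = 0 := (h.both (by rw [hTW, if_neg hk0])).mp hek
    rw [hek, hb0] at h1
    have hkaj : T k (a j) ≠ 0 := fun e => by rw [e] at h1; simp at h1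
    have hkbj : T k (b j) ≠ 0 := fun e => hkaj ((h.both (by rw [hTW, if_neg hkj])).mpr e)
    obtain ⟨r, hro, hr, hTr, hrz⟩ := h.exists_r hTT hTW hTo
    have h0 := hTT 0 k
    rw [if_neg (Ne.symm hk0), dot_three (h.oa 0) hro.symm (hr 0).1.symm hrz, hTo k, if_neg hk0,
      hek] at h0
    have hkr : T k r ≠ 0 := fun e => by rw [e] at h0; simp at h0
    exact hkr (three_only hu (fun e => hkj (h.aa k j e)) (h.hab k j) (h.hab j j) hTak hkaj hkbj
      (hr k).1 (hr j).1 (hr j).2)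
  · obtain ⟨hA', hB', hz'⟩ := h.exceptional hTT hTW hTo hk0 hek
    rw [hA', hB', hz' (a j) (fun e => hkj (h.aa k j e.symm)) haj (h.hab j 0)] at h1
    have := h.sa2 0
    have := h.sb2 0
    simp only [mul_zero, zero_add, neg_mul_neg] at h1
    omega

/-- The normal shape of the vectors. -/
theorem star (hexc : ∀ j, j ≠ 0 → T j (a 0) = 0) :
    ∃ (r : ι) (p : Fin (n + 1) → ι), p 0 = o ∧ T 0 r ≠ 0 ∧
      (∀ i, T i r = T 0 r) ∧ (∀ i, T i (p i) * T i (p i) = 1) ∧
      (∀ i x, x ≠ p i → x ≠ r → x ≠ a i → T i x = 0) ∧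
      (∀ i, r ≠ p i ∧ r ≠ a i ∧ r ≠ b i) ∧ (∀ i j, p i ≠ a j ∧ p i ≠ b j) ∧
      (∀ i j, p i = p j → i = j) := by
  classical
  obtain ⟨r, hro, hr, hTr, hrz⟩ := h.exists_r hTT hTW hTo
  have hr2 : T 0 r * T 0 r = 1 := by
    rcases small_entry (u := T 0) (by simp [hTT]) r with e | e | e
    exacts [absurd e hTr, by rw [e]; norm_num, by rw [e]; norm_num]
  have hTir : ∀ i, T i r = T 0 r := by
    intro i
    rcases eq_or_ne i 0 with rfl | hi
    · rfl
    · have h0 := hTT 0 i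
      rw [if_neg (Ne.symm hi), dot_three (h.oa 0) hro.symm (hr 0).1.symm hrz, hTo i, if_neg hi,
        hexc i hi] at h0
      linear_combination T 0 r * h0 - T i r * hr2
  have hp : ∀ i, ∃ p, (i = 0 → p = o) ∧ T i p ≠ 0 ∧ p ≠ r ∧ p ≠ a i ∧
      (∀ x, x ≠ p → x ≠ r → x ≠ a i → T i x = 0) ∧ (∀ j, p ≠ a j ∧ p ≠ b j) := by
    intro i
    have hu : dot (T i) (T i) = 3 := by simpa using hTT i i
    have hTai : T i (a i) ≠ 0 := by rw [h.Ta]; exact neg_ne_zero.mpr (h.sa_ne i)
    have hTri : T i r ≠ 0 := (hTir i).symm ▸ hTr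
    rcases eq_or_ne i 0 with rfl | hi
    · exact ⟨o, fun _ => rfl, by simp [hTo], hro.symm, h.oa 0,
        fun x h1 h2 h3 => hrz x h1 h3 h2, fun j => ⟨h.oa j, h.ob j⟩⟩
    · obtain ⟨p, hpr, hpa, hp⟩ := third_entry hu (hr i).1
      refine ⟨p, fun e => absurd e hi, hp, hpr, hpa, fun x h1 h2 h3 =>
        three_only hu hpr hpa (hr i).1 hp hTri hTai h1 h2 h3, fun j => ?_⟩
      rcases eq_or_ne j i with rfl | hji
      · exact ⟨hpa, fun e => hp (e ▸ h.Tb j)⟩
      · have hb := h.both (u := T i) (i := j) (by rw [hTW, if_neg (Ne.symm hji)])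
        refine ⟨fun e => ?_, fun e => ?_⟩
        · refine (e ▸ hp) (hb.mpr ?_)
          exact three_only hu hpr hpa (hr i).1 hp hTri hTai
            (fun e' => h.hab j j (e'.trans e).symm) (hr j).2.symm (fun e' => h.hab i j e'.symm)
        · refine (e ▸ hp) (hb.mp ?_)
          exact three_only hu hpr hpa (hr i).1 hp hTri hTai
            (fun e' => h.hab j j (e'.trans e)) (hr j).1.symm (fun e' => hji (h.aa j i e'))
  choose p hp0 hpne hpr hpa hpz hpp using hp
  have hp2 : ∀ i, T i (p i) * T i (p i) = 1 := fun i => by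
    rcases small_entry (u := T i) (by simp [hTT]) (p i) with e | e | e
    exacts [absurd e (hpne i), by rw [e]; norm_num, by rw [e]; norm_num]
  refine ⟨r, p, hp0 0 rfl, hTr, hTir, hp2, hpz, fun i => ⟨(hpr i).symm, hr i⟩, hpp,
    fun i j he => ?_⟩
  by_contra hij
  have h1 := hTT i j
  rw [if_neg hij, dot_three (hpr i) (hpa i) (hr i).1 (hpz i), hTir i, hTir j, hr2] at h1
  have hTja : T j (a i) = 0 := hpz j (a i) (fun e => (hpp j i).1 e.symm) (hr i).1.symm
    (fun e => hij (h.aa i j e))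
  rw [hTja] at h1
  have h2 : T i (p i) * T j (p i) = 0 := by linarith
  rcases mul_eq_zero.mp h2 with e | e
  exacts [hpne i e, hpne j (he ▸ e)]

end Pairs

end Cfsg.Agent.Char.X27
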