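import Cfsg.Agent.Lib.Char.X27.Cases
import Cfsg.Agent.Lib.Char.Height
import Cfsg.Agent.Lib.Char.Congr
import Cfsg.Agent.Lib.Char.BrauerChar

/-!
# From the centralizer of the centre to the whole group
-/

set_option autoImplicit false
set_option linter.unusedSectionVars false
set_option linter.style.haveILetI false

namespace Cfsg.Agent.Char.X27

open Cfsg Module
open scoped ComplexConjugate

universe u

variable {G : Type u} [Group G] [Fintype G] [Fact (Nat.Prime 3)]

open scoped _root_.Classical in
/-- Sums over the regular elements of equal subgroups. -/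
theorem sum_reg_congr {H K : Subgroup G} (e : H = K) [Fintype H] [Fintype K] (F : G → ℂ) :
    ∑ v : H with ¬ 3 ∣ orderOf v, F (v : G) = ∑ v : K with ¬ 3 ∣ orderOf v, F (v : G) := by
  subst e
  refine Finset.sum_congr ?_ fun _ _ => rfl
  ext v
  simp

open scoped _root_.Classical in
/-- The principal block of a local centralizer is orthogonal to characters outside the principal
block. -/
theorem pairing_zero {M : Ideal AlgInt} (hM : IsPModular 3 M) {t : G}
    (ht : ∃ k : ℕ, orderOf t = 3 ^ k) {H : Subgroup G} (hH : H = Subgroup.centralizer ({t} : Set G))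
    [Fintype H] {χ : IrrCharacter G} (hχ : χ ∉ principalBlock M G) {ψ : H → ℂ}
    (hψ : ψ ∈ charSpan (principalBlock M H)) :
    ∑ v : H with ¬ 3 ∣ orderOf v, ψ v * conj ((χ : G → ℂ) (t * (v : G))) = 0 := by
  subst hH
  have hP := pmod_prime hM
  have hnot : ¬ IsInducedBlock M (Subgroup.centralizer ({t} : Set G)) (principalBlock M (Subgroup.centralizer ({t} : Set G))) (blockOf M (χ : G → ℂ)) := fun hind =>
    hχ ((third_main hM hind).mpr rfl ▸ self_mem_blockOf hP χ)
  have hzero := fun v hv => blockPart_secFun_eq_zero hM ht (isPBlock_blockOf M χ) χ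
    (self_mem_blockOf hP χ) (isPBlock_principalBlock M) hnot v hv
  have hφ : regPartL 3 ψ ∈ blockSpan 3 (principalBlock M (Subgroup.centralizer ({t} : Set G))) :=
    (Submodule.map_span_le (regPartL 3) _ _).mpr
      (by rintro _ ⟨ξ, hξ, rfl⟩; exact Submodule.subset_span ⟨ξ, hξ, rfl⟩) ⟨_, hψ, rfl⟩
  have hfix : blockPart (principalBlock M (Subgroup.centralizer ({t} : Set G))) (regPartL 3 ψ) = regPartL 3 ψ := by
    rw [blockPart_blockSpan hM (isPBlock_principalBlock M) (isPBlock_principalBlock M) hφ, if_pos rfl]
  have h1 : classInner (regPartL 3 ψ) (secFun t (χ : G → ℂ)) = 0 := by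
    conv_lhs => rw [← hfix]
    rw [blockPart_adj, classInner, Finset.sum_eq_zero, mul_zero]
    intro v _
    by_cases hv : 3 ∣ orderOf v
    · rw [regPartL_of_sing hv, zero_mul]
    · rw [hzero v hv, map_zero, mul_zero]
  rw [classInner, mul_eq_zero, inv_eq_zero, Nat.cast_eq_zero,
    or_iff_right Nat.card_pos.ne'] at h1
  rw [Finset.sum_filter]
  refine (Finset.sum_congr rfl fun v _ => ?_).trans h1
  by_cases hv : 3 ∣ orderOf v
  · rw [if_neg (not_not_intro hv), regPartL_of_sing hv, zero_mul]
  · rw [if_pos hv, regPartL_of_reg hv]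
    rfl

open scoped _root_.Classical in
/-- On a local section a member of the principal block is its principal part. -/
theorem sec_value {M : Ideal AlgInt} (hM : IsPModular 3 M) {t : G}
    (ht : ∃ k : ℕ, orderOf t = 3 ^ k) {H : Subgroup G} (hH : H = Subgroup.centralizer ({t} : Set G))
    [Fintype H] {f : G → ℂ} (hf : f ∈ charSpan (principalBlock M G)) {v : H}
    (hv : ¬ 3 ∣ orderOf v) :
    f (t * (v : G)) = blockPart (principalBlock M H) (fun w : H => f (t * (w : G))) v := by
  subst hH
  induction hf using Submodule.span_induction with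
  | mem a ha =>
    obtain ⟨χ, hχ, rfl⟩ := ha
    show secFun t (χ : G → ℂ) v = blockPart (principalBlock M (Subgroup.centralizer ({t} : Set G))) (secFun t (χ : G → ℂ)) v
    conv_lhs => rw [eq_sum_blockPart (pmod_prime hM)
      (isClassFunction_secFun (isClassFunction_character (irr_isCharacter χ.2))) v]
    rw [Finset.sum_eq_single (principalBlock M (Subgroup.centralizer ({t} : Set G)))]
    · intro b hb hne
      obtain ⟨ξ, -, rfl⟩ := Finset.mem_image.mp hb
      exact blockPart_secFun_eq_zero hM ht (isPBlock_principalBlock M) χ hχ (isPBlock_blockOf M ξ)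
        (fun hind => hne ((third_main hM hind).mp rfl)) v hv
    · intro hn
      exact absurd (Finset.mem_image.mpr ⟨triv (Subgroup.centralizer ({t} : Set G)), Finset.mem_univ _, rfl⟩) hn
  | zero =>
    show (0 : ℂ) = blockPart (principalBlock M (Subgroup.centralizer ({t} : Set G))) (0 : (Subgroup.centralizer ({t} : Set G)) → ℂ) v
    rw [← blockPartL_apply, map_zero]
    rfl
  | add a b _ _ ha hb =>
    show a (t * (v : G)) + b (t * (v : G)) =
      blockPart (principalBlock M (Subgroup.centralizer ({t} : Set G))) ((fun w : (Subgroup.centralizer ({t} : Set G)) => a (t * (w : G))) + fun w : (Subgroup.centralizer ({t} : Set G)) => b (t * (w : G))) v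
    rw [← blockPartL_apply, map_add, Pi.add_apply, blockPartL_apply, blockPartL_apply, ← ha, ← hb]
  | smul c a _ ha =>
    show c * a (t * (v : G)) =
      blockPart (principalBlock M (Subgroup.centralizer ({t} : Set G))) (c • fun w : (Subgroup.centralizer ({t} : Set G)) => a (t * (w : G))) v
    rw [← blockPartL_apply, map_smul, Pi.smul_apply, blockPartL_apply, ← ha, smul_eq_mul]

theorem regInd_mem {H : Type u} [Group H] [Fintype H] {M : Ideal AlgInt} (hM : IsPModular 3 M) :
    blockPart (principalBlock M H) (regInd 3 : H → ℂ) = regInd 3 := by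
  have hm : (regInd 3 : H → ℂ) ∈ blockSpan 3 (principalBlock M H) := by
    refine Submodule.subset_span ⟨triv H, triv_mem M hM, ?_⟩
    show pRegularPart 3 (triv H : H → ℂ) = regInd 3
    rw [pRegularPart_eq_mul]
    funext x
    simp [triv_apply]
  rw [blockPart_blockSpan hM (isPBlock_principalBlock M) (isPBlock_principalBlock M) hm, if_pos rfl]

/-- The singular indicator. -/
noncomputable def singInd (G : Type u) [Group G] : G → ℂ := fun g => 1 - regInd 3 g

namespace Setting

variable {M : Ideal AlgInt} {P : Sylow 3 G} {z : G} {e : ℕ} (h : Setting P z e)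
include h

theorem sec_block (hM : IsPModular 3 M) {f : G → ℂ} (hf : f ∈ charSpan (principalBlock M G)) :
    Sec P z f := by
  refine ⟨isClassFunction_of_charSpan hf, fun y hy hyn v hc hv => ?_⟩
  induction hf using Submodule.span_induction with
  | mem a ha =>
    obtain ⟨χ, hχ, rfl⟩ := ha
    exact OrderNine.principal_const_loc hM hχ (h.core.loc hy hyn)
      ⟨v, Subgroup.mem_centralizer_singleton_iff.mpr hc.eq.symm⟩ (by rwa [Subgroup.orderOf_mk])
  | zero => rfl
  | add a b _ _ ha hb => simp [ha, hb]
  | smul c a _ ha => simp [ha]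

theorem adm_singInd : Adm P z (singInd G) := by
  refine ⟨fun g k => ?_, fun g hg => by simp [singInd, regInd_of_reg hg], fun y hy hyn v hc hv => ?_⟩
  · simp only [singInd]
    rw [isClassFunction_regInd 3 g k]
  · have hne : y ≠ 1 := fun e' => hyn (e' ▸ one_mem _)
    have hk := OrderNine.ppower (P := P) hy
    have h1 : 3 ∣ orderOf (y * v) := by
      by_contra hn
      rw [← ppt_eq_one_iff Nat.prime_three, ppt_mul Nat.prime_three hc hk hv] at hn
      exact hne hn
    have h2 : 3 ∣ orderOf y := by
      by_contra hn
      rw [← ppt_eq_one_iff Nat.prime_three, ppt_of_ppower Nat.prime_three hk] at hn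
      exact hne hn
    simp [singInd, regInd_of_sing h1, regInd_of_sing h2]

section Res

variable [Fintype (Subgroup.centralizer ({z} : Set G))]

theorem cen (hM : IsPModular 3 M) :
    Cen M (P.subtype h.le_cent)
      (⟨z, h.le_cent h.core.z_mem⟩ : Subgroup.centralizer ({z} : Set G)) e :=
  ⟨h.restrict, fun c => Subtype.ext (Subgroup.mem_centralizer_singleton_iff.mp c.2).symm, hM⟩

/-- Inner products with an admissible function are computed in the centralizer. -/
theorem inner_res {a b : G → ℂ} (ha : Adm P z a) (hb : Sec P z b) :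
    classInner a b = classInner (fun c : Subgroup.centralizer ({z} : Set G) => a c)
      (fun c : Subgroup.centralizer ({z} : Set G) => b c) := by
  rw [classInner, classInner]
  exact h.avg_restrict (ha.mul_conj hb.cls hb.sec)

theorem inner_lift {θ : Subgroup.centralizer ({z} : Set G) → ℂ}
    (hθ : Adm (P.subtype h.le_cent)
      (⟨z, h.le_cent h.core.z_mem⟩ : Subgroup.centralizer ({z} : Set G)) θ)
    {b : G → ℂ} (hb : Sec P z b) :
    classInner (lift P z θ) b =
      classInner θ (fun c : Subgroup.centralizer ({z} : Set G) => b c) := by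
  rw [h.inner_res (h.adm_lift hθ) hb]
  congr 1
  funext c
  exact h.lift_coe hθ c

theorem res_sec {b : G → ℂ} (hb : Sec P z b) :
    Sec (P.subtype h.le_cent) (⟨z, h.le_cent h.core.z_mem⟩ : Subgroup.centralizer ({z} : Set G))
      (fun c : Subgroup.centralizer ({z} : Set G) => b c) :=
  ⟨fun a k => by simp [hb.cls (a : G) (k : G)], fun y hy hyn v hc hv =>
    hb.sec y (Subgroup.mem_subgroupOf.mp hy) (fun hm => hyn (h.zp_coe.mpr hm)) v
      (congrArg Subtype.val hc.eq) (by rwa [Subgroup.orderOf_coe])⟩

open scoped _root_.Classical in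
/-- Extensions of the principal block avoid the other blocks. -/
theorem lift_block (hM : IsPModular 3 M) {θ : Subgroup.centralizer ({z} : Set G) → ℂ}
    (hθ : Adm (P.subtype h.le_cent)
      (⟨z, h.le_cent h.core.z_mem⟩ : Subgroup.centralizer ({z} : Set G)) θ)
    (hspan : θ ∈ charSpan (principalBlock M (Subgroup.centralizer ({z} : Set G))))
    {χ : IrrCharacter G} (hχ : χ ∉ principalBlock M G) :
    classInner (lift P z θ) (χ : G → ℂ) = 0 := by
  have hA := h.adm_lift hθ
  rw [classInner, OrderNine.sum_eq P (F := fun g => lift P z θ g * conj ((χ : G → ℂ) g))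
    (fun g k => by simp [hA.cls g k, isClassFunction_character (irr_isCharacter χ.2) g k]),
    Finset.sum_eq_zero, mul_zero]
  intro y _
  by_cases hy : (y : G) ∈ Subgroup.zpowers z
  · rcases eq_or_ne (y : G) 1 with h1 | h1
    · rw [Finset.sum_eq_zero, mul_zero, mul_zero]
      intro v hv
      rw [show (y : G) * (v : G) = (v : G) by rw [mul_eq_right]; exact h1, hA.reg _ (by rw [Subgroup.orderOf_coe]; exact (Finset.mem_filter.mp hv).2),
        zero_mul]
    · have hCy := h.cent_of_zp hy h1
      rw [sum_reg_congr hCy (fun g => lift P z θ ((y : G) * g) * conj ((χ : G → ℂ) ((y : G) * g)))]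
      let y' : Subgroup.centralizer ({z} : Set G) := ⟨y, h.le_cent y.2⟩
      have hsh : (fun v => θ (y' * v)) ∈
          charSpan (principalBlock M (Subgroup.centralizer ({z} : Set G))) := by
        obtain ⟨a, ha⟩ := mem_powers_iff_mem_zpowers.mpr ((h.zp_coe (w := y')).mpr hy)
        clear hθ hA
        induction hspan using Submodule.span_induction with
        | mem b hb =>
          obtain ⟨ψ, hψ, rfl⟩ := hb
          rw [show (fun v => (ψ : _ → ℂ) (y' * v)) =
            omv (⟨z, h.le_cent h.core.z_mem⟩ : Subgroup.centralizer ({z} : Set G)) ψ ^ a •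
              (ψ : _ → ℂ) from funext fun v => by
                rw [← ha]; exact (h.cen hM).shift_pow ψ a v]
          exact Submodule.smul_mem _ _ (Submodule.subset_span ⟨ψ, hψ, rfl⟩)
        | zero => exact zero_mem _
        | add b c _ _ hb hc => exact add_mem hb hc
        | smul r b _ hb => exact Submodule.smul_mem _ r hb
      rw [Finset.sum_congr rfl (g := fun v : Subgroup.centralizer ({z} : Set G) =>
        θ (y' * v) * conj ((χ : G → ℂ) ((y : G) * (v : G)))) fun v _ => by
          rw [show (y : G) * (v : G) = ((y' * v : Subgroup.centralizer ({z} : Set G)) : G) from rfl,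
            h.lift_coe hθ],
        pairing_zero hM (OrderNine.ppower (P := P) y.2) hCy.symm hχ hsh, mul_zero, mul_zero]
  · rw [Finset.sum_congr rfl (g := fun v : Subgroup.centralizer ({(y : G)} : Set G) =>
        lift P z θ y * conj ((χ : G → ℂ) ((y : G) * (v : G)))) fun v hv => by
      rw [hA.sec y y.2 hy v (cent_mul_comm v)
        (by rw [Subgroup.orderOf_coe]; exact (Finset.mem_filter.mp hv).2)],
      ← Finset.mul_sum, ← map_sum,
      OrderNine.nonprincipal_sum_zero_loc hM hχ (h.core.loc y.2 hy)]
    simp

end Res

end Setting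

end Cfsg.Agent.Char.X27
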