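import Mathlib

/-!
# Integer vectors of small norm
-/

set_option autoImplicit false

namespace Cfsg.Agent.Char.X27

variable {ι : Type*} [Fintype ι]

/-- The standard inner product. -/
def dot (a b : ι → ℤ) : ℤ := ∑ i, a i * b i

theorem dot_comm (a b : ι → ℤ) : dot a b = dot b a :=
  Finset.sum_congr rfl fun _ _ => mul_comm _ _

/-- A vector is carried along a signed injection. -/
structure Push {m : ℕ} (f : Fin m → ι) (s : Fin m → ℤ) (v : Fin m → ℤ) (w : ι → ℤ) : Prop where
  at_f : ∀ j, w (f j) = s j * v j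
  off : ∀ i, (∀ j, f j ≠ i) → w i = 0

theorem sign_sq {s : ℤ} (h : s = 1 ∨ s = -1) : s * s = 1 := by rcases h with rfl | rfl <;> rfl

theorem Push.dot_eq {m : ℕ} {f : Fin m → ι} (hf : Function.Injective f) {s v v' : Fin m → ℤ}
    (hs : ∀ j, s j * s j = 1) {w w' : ι → ℤ} (h : Push f s v w) (h' : Push f s v' w') :
    dot w w' = dot v v' := by
  classical
  rw [dot, dot, ← Finset.sum_subset (Finset.subset_univ ((Finset.univ : Finset (Fin m)).image f))
    fun i _ hi => by
      rw [h.off i fun j e => hi (Finset.mem_image.mpr ⟨j, Finset.mem_univ _, e⟩), zero_mul],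
    Finset.sum_image hf.injOn]
  refine Finset.sum_congr rfl fun j _ => ?_
  rw [h.at_f, h'.at_f]
  linear_combination (v j * v' j) * hs j

theorem dot_push {m : ℕ} {f : Fin m → ι} (hf : Function.Injective f) {s : Fin m → ℤ}
    {v : Fin m → ℤ} {w : ι → ℤ} (h : Push f s v w) (u : ι → ℤ) :
    dot w u = ∑ j, v j * (s j * u (f j)) := by
  classical
  rw [dot, ← Finset.sum_subset (Finset.subset_univ ((Finset.univ : Finset (Fin m)).image f))
    fun i _ hi => by
      rw [h.off i fun j e => hi (Finset.mem_image.mpr ⟨j, Finset.mem_univ _, e⟩), zero_mul],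
    Finset.sum_image hf.injOn]
  refine Finset.sum_congr rfl fun j _ => ?_
  rw [h.at_f]; ring

/-- A signed part of a vector inside a given injection bounds its norm. -/
theorem norm_ge {κ : Type*} [Fintype κ] {f : κ → ι} (hf : Function.Injective f) (u : ι → ℤ) :
    ∑ j, u (f j) * u (f j) ≤ dot u u := by
  classical
  rw [dot, ← Finset.sum_image (f := fun i => u i * u i) hf.injOn]
  exact Finset.sum_le_univ_sum_of_nonneg fun i => mul_self_nonneg _

/-- What is outside an injection has the remaining norm. -/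
theorem norm_rest {κ : Type*} [Fintype κ] {f : κ → ι} (hf : Function.Injective f) (u : ι → ℤ)
    {i : ι} (hi : ∀ j, f j ≠ i) : ∑ j, u (f j) * u (f j) + u i * u i ≤ dot u u := by
  classical
  have : i ∉ (Finset.univ : Finset κ).image f := fun hm => by
    obtain ⟨j, -, e⟩ := Finset.mem_image.mp hm
    exact hi j e
  rw [dot, ← Finset.sum_image (f := fun i => u i * u i) hf.injOn, add_comm,
    ← Finset.sum_insert (f := fun i => u i * u i) this]
  exact Finset.sum_le_univ_sum_of_nonneg fun i => mul_self_nonneg _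

theorem eq_zero_outside {κ : Type*} [Fintype κ] {f : κ → ι} (hf : Function.Injective f) {u : ι → ℤ}
    (h : dot u u ≤ ∑ j, u (f j) * u (f j)) {i : ι} (hi : ∀ j, f j ≠ i) : u i = 0 := by
  have := norm_rest hf u hi
  exact mul_self_eq_zero.mp (le_antisymm (by linarith) (mul_self_nonneg _))

theorem sign_of_sq {x : ℤ} (h : x * x = 1) : x = 1 ∨ x = -1 := mul_self_eq_one_iff.mp h

theorem abs_le_one {x : ℤ} (h : x * x ≤ 3) : x = 0 ∨ x = 1 ∨ x = -1 := by
  have h1 : x ≤ 1 := by nlinarith
  have h2 : -1 ≤ x := by nlinarith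
  omega

theorem entry_le (u : ι → ℤ) (i : ι) : u i * u i ≤ dot u u :=
  Finset.single_le_sum (f := fun j => u j * u j) (fun j _ => mul_self_nonneg _) (Finset.mem_univ i)

theorem small_entry {u : ι → ℤ} (h : dot u u ≤ 3) (i : ι) : u i = 0 ∨ u i = 1 ∨ u i = -1 :=
  abs_le_one ((entry_le u i).trans h)

open scoped Classical in
/-- The support of a vector with entries `0`, `±1` has the norm as its size. -/
theorem card_support_eq {u : ι → ℤ} (h : ∀ i, u i = 0 ∨ u i = 1 ∨ u i = -1) :
    ((Finset.univ.filter fun i => u i ≠ 0).card : ℤ) = dot u u := by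
  rw [dot, Finset.natCast_card_filter]
  refine Finset.sum_congr rfl fun i _ => ?_
  rcases h i with e | e | e <;> simp [e]

/-- A vector of norm two. -/
theorem shape_two {u : ι → ℤ} (h : dot u u = 2) : ∃ a b, a ≠ b ∧ u a * u a = 1 ∧ u b * u b = 1 ∧
    ∀ i, i ≠ a → i ≠ b → u i = 0 := by
  classical
  have he := small_entry (u := u) (by omega)
  have hc := card_support_eq he
  rw [h] at hc
  obtain ⟨a, b, hab, hs⟩ := Finset.card_eq_two.mp (by exact_mod_cast hc)
  have hm : ∀ i, u i ≠ 0 ↔ i = a ∨ i = b := fun i => by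
    have := Finset.ext_iff.mp hs i
    simpa using this
  refine ⟨a, b, hab, ?_, ?_, fun i ha hb => ?_⟩
  · rcases he a with e | e | e
    · exact absurd e ((hm a).mpr (Or.inl rfl))
    all_goals rw [e]; norm_num
  · rcases he b with e | e | e
    · exact absurd e ((hm b).mpr (Or.inr rfl))
    all_goals rw [e]; norm_num
  · by_contra hne
    rcases (hm i).mp hne with e | e
    exacts [ha e, hb e]

end Cfsg.Agent.Char.X27
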